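/-
helper61: FH MODULE HECKE-A (for helper19's project FH = S1142, Feit–Higman): basic facts about the Hecke `0/1`
matrices `heckeMat P g` of a BN-pair on `ℝ[G ⧸ B]` and the index parameters `qIdx P g`.
-/
import Cfsg.Agent.Lib.Helper19.FHHeckeDefs

set_option autoImplicit false

namespace Cfsg.Agent.Lib.Helper61.FHHeckeA

open Matrix Cfsg Cfsg.Agent.Lib.Helper6 Cfsg.Agent.Lib.Helper19.FH

variable {G : Type*} [Group G] (P : Cfsg.BNPair G) [Fintype (G ⧸ P.B)] [DecidableEq (G ⧸ P.B)]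

omit [Fintype (G ⧸ P.B)] [DecidableEq (G ⧸ P.B)] in
/-- `InDC` of the chosen representative of a coset. -/
theorem inDC_mk_out_iff (g z : G) : InDC P g (QuotientGroup.mk z : G ⧸ P.B).out ↔ InDC P g z := by
  obtain ⟨b, hb⟩ := QuotientGroup.mk_out_eq_mul P.B z
  rw [hb]
  constructor
  · intro h
    have := inDC_mul_right P (P.B.inv_mem b.2) h
    rwa [mul_inv_cancel_right] at this
  · intro h
    exact inDC_mul_right P b.2 h

omit [Fintype (G ⧸ P.B)] [DecidableEq (G ⧸ P.B)] in
theorem inDC_out_iff' (g : G) (y : G ⧸ P.B) (a : G) :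
    InDC P g (a • y).out ↔ InDC P g (a * y.out) := by
  have e : a • y = (QuotientGroup.mk (a * y.out) : G ⧸ P.B) := by
    conv_lhs => rw [← QuotientGroup.out_eq' y]
    rfl
  rw [e, inDC_mk_out_iff]

theorem heckeMat_congr {g g' : G} (h : InDC P g g') : heckeMat P g = heckeMat P g' := by
  ext x y
  unfold heckeMat
  have : InDC P g (x.out⁻¹ * y.out) ↔ InDC P g' (x.out⁻¹ * y.out) :=
    ⟨fun hz => inDC_trans P (inDC_symm P h) hz, fun hz => inDC_trans P h hz⟩
  classical
  exact if_congr this rfl rfl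

theorem heckeMat_transpose (g : G) : (heckeMat P g)ᵀ = heckeMat P g⁻¹ := by
  ext x y
  rw [Matrix.transpose_apply]
  unfold heckeMat
  have : InDC P g (y.out⁻¹ * x.out) ↔ InDC P g⁻¹ (x.out⁻¹ * y.out) := by
    constructor
    · intro hz
      have := inDC_inv P hz
      rwa [_root_.mul_inv_rev, inv_inv] at this
    · intro hz
      have := inDC_inv P hz
      rwa [_root_.mul_inv_rev, inv_inv, inv_inv] at this
  classical
  exact if_congr this rfl rfl

theorem heckeMat_isSymm {s : G} (hs : s ∈ P.S) : (heckeMat P s).IsSymm := by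
  unfold Matrix.IsSymm
  rw [heckeMat_transpose]
  exact heckeMat_congr P (inDC_symm P (inDC_S_inv P hs))

theorem heckeMat_one : heckeMat P 1 = 1 := by
  ext x y
  unfold heckeMat
  rw [Matrix.one_apply]
  have : InDC P 1 (x.out⁻¹ * y.out) ↔ x = y := by
    rw [inDC_one_iff, ← QuotientGroup.eq, QuotientGroup.out_eq', QuotientGroup.out_eq']
  classical
  exact if_congr this rfl rfl

theorem heckeMat_trace {g : G} (hg : g ∉ P.B) : (heckeMat P g).trace = 0 := by
  unfold Matrix.trace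
  apply Finset.sum_eq_zero
  intro x _
  rw [Matrix.diag_apply]
  unfold heckeMat
  rw [if_neg]
  intro h
  rw [inv_mul_cancel] at h
  exact hg ((inDC_one_iff P).mp (inDC_symm P h))

open Classical in
omit [DecidableEq (G ⧸ P.B)] in
theorem qIdx_eq_card_filter (g : G) :
    qIdx P g = (Finset.univ.filter fun y : G ⧸ P.B => InDC P g y.out).card := by
  unfold qIdx
  rw [Nat.card_eq_fintype_card, Fintype.card_subtype]

open Classical in
omit [DecidableEq (G ⧸ P.B)] in
theorem card_filter_translate (g a : G) :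
    (Finset.univ.filter fun y : G ⧸ P.B => InDC P g (a * y.out)).card
      = (Finset.univ.filter fun y : G ⧸ P.B => InDC P g y.out).card := by
  apply Finset.card_bij (fun y _ => a • y)
  · intro y hy
    rw [Finset.mem_filter] at hy ⊢
    exact ⟨Finset.mem_univ _, (inDC_out_iff' P g y a).mpr hy.2⟩
  · intro y _ y' _ h
    exact MulAction.injective a h
  · intro z hz
    rw [Finset.mem_filter] at hz
    refine ⟨a⁻¹ • z, ?_, by rw [smul_inv_smul]⟩
    rw [Finset.mem_filter]
    refine ⟨Finset.mem_univ _, ?_⟩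
    have := (inDC_out_iff' P g (a⁻¹ • z) a).mp (by rw [smul_inv_smul]; exact hz.2)
    exact this

theorem heckeMat_mulVec_one (g : G) :
    (heckeMat P g).mulVec (fun _ => (1 : ℝ)) = fun _ => (qIdx P g : ℝ) := by
  classical
  funext x
  rw [Matrix.mulVec, dotProduct]
  simp only [mul_one]
  unfold heckeMat
  rw [Finset.sum_ite, Finset.sum_const_zero, add_zero, Finset.sum_const, nsmul_eq_mul, mul_one,
    qIdx_eq_card_filter, ← card_filter_translate P g x.out⁻¹]

omit [DecidableEq (G ⧸ P.B)] in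
theorem qIdx_one : qIdx P 1 = 1 := by
  unfold qIdx
  rw [Nat.card_eq_one_iff_exists]
  have h1 : InDC P 1 (QuotientGroup.mk 1 : G ⧸ P.B).out := by
    rw [inDC_mk_out_iff]
    exact inDC_self P 1
  refine ⟨⟨QuotientGroup.mk 1, h1⟩, ?_⟩
  rintro ⟨y, hy⟩
  apply Subtype.ext
  show y = QuotientGroup.mk 1
  rw [inDC_one_iff] at hy
  rw [← QuotientGroup.out_eq' y]
  rw [QuotientGroup.eq]
  simpa using P.B.inv_mem hy

omit [DecidableEq (G ⧸ P.B)] in
theorem two_le_qIdx {s : G} (hs : s ∈ P.S) : 2 ≤ qIdx P s := by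
  unfold qIdx
  obtain ⟨b, hb, hbs⟩ := exists_conj_not_mem P hs
  obtain ⟨t, ht, et⟩ := S_inv_eq P hs
  have h1 : InDC P s (QuotientGroup.mk s : G ⧸ P.B).out := by
    rw [inDC_mk_out_iff]
    exact inDC_self P s
  have h2 : InDC P s (QuotientGroup.mk (t⁻¹ * b * s) : G ⧸ P.B).out := by
    rw [inDC_mk_out_iff]
    exact ⟨t⁻¹ * b, P.B.mul_mem (P.B.inv_mem ht.1) hb, 1, P.B.one_mem, by group⟩
  have hne : (⟨QuotientGroup.mk s, h1⟩ : {y : G ⧸ P.B // InDC P s y.out})
      ≠ ⟨QuotientGroup.mk (t⁻¹ * b * s), h2⟩ := by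
    intro h
    have h' := congrArg Subtype.val h
    simp only at h'
    rw [QuotientGroup.eq] at h'
    apply hbs
    have e : s⁻¹ * (t⁻¹ * b * s) = s * b * s := by
      rw [et]; group
    rwa [e] at h'
  have : Nontrivial {y : G ⧸ P.B // InDC P s y.out} := ⟨⟨_, _, hne⟩⟩
  exact Finite.one_lt_card_iff_nontrivial.mpr this

theorem qIdx_mul {g h : G} (hgh : heckeMat P g * heckeMat P h = heckeMat P (g * h)) :
    qIdx P (g * h) = qIdx P g * qIdx P h := by
  have e1 : (heckeMat P (g * h)).mulVec (fun _ => (1 : ℝ)) = fun _ => (qIdx P (g * h) : ℝ) :=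
    heckeMat_mulVec_one P (g * h)
  rw [← hgh, ← Matrix.mulVec_mulVec, heckeMat_mulVec_one] at e1
  have e2 : (heckeMat P g).mulVec (fun _ => (qIdx P h : ℝ))
      = fun _ => (qIdx P h : ℝ) * (qIdx P g : ℝ) := by
    have : (fun _ : G ⧸ P.B => (qIdx P h : ℝ)) = (qIdx P h : ℝ) • (fun _ => (1 : ℝ)) := by
      funext x; simp
    rw [this, Matrix.mulVec_smul, heckeMat_mulVec_one]
    funext x
    simp
  rw [e2] at e1
  have e3 := congrFun e1 (QuotientGroup.mk 1)
  have e4 : ((qIdx P (g * h) : ℕ) : ℝ) = ((qIdx P g * qIdx P h : ℕ) : ℝ) := by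
    push_cast
    rw [← e3]; ring
  exact_mod_cast e4

end Cfsg.Agent.Lib.Helper61.FHHeckeA
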