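/-
helper61 (project FW = S3211, helper2): module FW-[F2] `roots_in_L` (hedge; self-contained from `Hyp`).
-/
import Mathlib
import Cfsg.Agent.Lib.Helper2.FWDefs

set_option autoImplicit false

namespace Cfsg.Agent.Lib.Helper61.FW

open Cfsg.Agent.Lib.Helper2.FW

variable {G : Type*} [Group G] {L₁ L₂ : Subgroup G} {j n : G}

/-- if `(x y)² = a b` (`x, a ∈ L₁`, `y, b ∈ L₂`) then `x` commutes with `a` and `y` with `b`. -/
theorem comm_of_sq (H : Hyp L₁ L₂ j n) {a b x y : G} (ha : a ∈ L₁) (hb : b ∈ L₂) (hx : x ∈ L₁)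
    (hy : y ∈ L₂) (h : (x * y) * (x * y) = a * b) : x * a = a * x ∧ y * b = b * y := by
  have hxy : x * y = y * x := H.comm x hx y hy
  have h1 : (x * x) * (y * y) = a * b := by
    rw [← h]
    calc x * x * (y * y) = x * (x * y) * y := by group
      _ = x * (y * x) * y := by rw [hxy]
      _ = x * y * (x * y) := by group
  have he : a⁻¹ * (x * x) = b * (y * y)⁻¹ := by
    calc a⁻¹ * (x * x) = a⁻¹ * ((x * x) * (y * y)) * (y * y)⁻¹ := by group
      _ = a⁻¹ * (a * b) * (y * y)⁻¹ := by rw [h1]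
      _ = b * (y * y)⁻¹ := by group
  have he1 : a⁻¹ * (x * x) ∈ L₁ := L₁.mul_mem (L₁.inv_mem ha) (L₁.mul_mem hx hx)
  have he2 : a⁻¹ * (x * x) ∈ L₂ := by
    rw [he]; exact L₂.mul_mem hb (L₂.inv_mem (L₂.mul_mem hy hy))
  have hεx : (a⁻¹ * (x * x)) * x = x * (a⁻¹ * (x * x)) := by
    rcases H.inter _ he1 he2 with h0 | h0
    · rw [h0, one_mul, mul_one]
    · rw [h0]; exact (H.cent₁ x hx).symm
  have hεy : (b * (y * y)⁻¹) * y = y * (b * (y * y)⁻¹) := by
    rw [← he]
    rcases H.inter _ he1 he2 with h0 | h0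
    · rw [h0, one_mul, mul_one]
    · rw [h0]; exact (H.cent₂ y hy).symm
  constructor
  · have h3 : a⁻¹ * x = x * a⁻¹ := by
      have h2 : (a⁻¹ * x) * (x * x) = (x * a⁻¹) * (x * x) := by
        calc (a⁻¹ * x) * (x * x) = (a⁻¹ * (x * x)) * x := by group
          _ = x * (a⁻¹ * (x * x)) := hεx
          _ = (x * a⁻¹) * (x * x) := by group
      exact mul_right_cancel h2
    calc x * a = a * (a⁻¹ * x) * a := by group
      _ = a * (x * a⁻¹) * a := by rw [h3]
      _ = a * x := by group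
  · calc y * b = y * (b * (y * y)⁻¹) * (y * y) := by group
      _ = (b * (y * y)⁻¹) * y * (y * y) := by rw [← hεy]
      _ = b * y := by group

/-- [FW-F2] square roots of `u` inside `L₁L₂` lie in one coset of `{1, j, u, uj}`. -/
theorem roots_in_L (H : Hyp L₁ L₂ j n) {a : G} (ha : a ∈ L₁) (haa : a * a = j) {s k : G}
    (hs : InL L₁ L₂ s) (hk : InL L₁ L₂ k) (hss : s * s = a * (n * a * n⁻¹))
    (hkk : k * k = a * (n * a * n⁻¹)) :
    k = s ∨ k = s * j ∨ k = s * (a * (n * a * n⁻¹)) ∨ k = s * ((a * (n * a * n⁻¹)) * j) := by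
  have hb : n * a * n⁻¹ ∈ L₂ := H.swap₁ a ha
  have hbb : (n * a * n⁻¹) * (n * a * n⁻¹) = j := by
    have h1 : (n * a * n⁻¹) * (n * a * n⁻¹) = n * (a * a) * n⁻¹ := by group
    rw [h1, haa, H.n_comm, mul_assoc, mul_inv_cancel, mul_one]
  generalize n * a * n⁻¹ = b at hb hbb hss hkk ⊢
  have hjinv : j⁻¹ = j := inv_eq_of_mul_eq_one_right H.j_sq
  obtain ⟨x, hx, y, hy, rfl⟩ := hs
  obtain ⟨x', hx', y', hy', rfl⟩ := hk
  obtain ⟨hxa, hyb⟩ := comm_of_sq H ha hb hx hy hss
  obtain ⟨hxa', hyb'⟩ := comm_of_sq H ha hb hx' hy' hkk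
  have hxx' : x * x' = x' * x := H.abel₁ a ha haa x hx x' hx' hxa hxa'
  have hyy' : y * y' = y' * y := H.abel₂ b hb hbb y hy y' hy' hyb hyb'
  -- `p`, `q`, `d`
  have hpL : x⁻¹ * x' ∈ L₁ := L₁.mul_mem (L₁.inv_mem hx) hx'
  have hqL : y⁻¹ * y' ∈ L₂ := L₂.mul_mem (L₂.inv_mem hy) hy'
  have hpa : (x⁻¹ * x') * a = a * (x⁻¹ * x') := by
    calc (x⁻¹ * x') * a = x⁻¹ * (x' * a) := by group
      _ = x⁻¹ * (a * x') := by rw [hxa']
      _ = x⁻¹ * (a * x) * x⁻¹ * x' := by group
      _ = x⁻¹ * (x * a) * x⁻¹ * x' := by rw [hxa]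
      _ = a * (x⁻¹ * x') := by group
  have hqb : (y⁻¹ * y') * b = b * (y⁻¹ * y') := by
    calc (y⁻¹ * y') * b = y⁻¹ * (y' * b) := by group
      _ = y⁻¹ * (b * y') := by rw [hyb']
      _ = y⁻¹ * (b * y) * y⁻¹ * y' := by group
      _ = y⁻¹ * (y * b) * y⁻¹ * y' := by rw [hyb]
      _ = b * (y⁻¹ * y') := by group
  generalize hp : x⁻¹ * x' = p at hpL hpa
  generalize hq : y⁻¹ * y' = q at hqL hqb
  have hkd : x' * y' = (x * y) * (p * q) := by
    have h1 : y * p = p * y := (H.comm p hpL y hy).symm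
    calc x' * y' = x * (x⁻¹ * x') * y * (y⁻¹ * y') := by group
      _ = x * (p * y) * q := by rw [hp, hq]; group
      _ = x * (y * p) * q := by rw [h1]
      _ = (x * y) * (p * q) := by group
  -- `S` and `K` commute
  have hSK : (x * y) * (x' * y') = (x' * y') * (x * y) := by
    have e1 : y * x' = x' * y := (H.comm x' hx' y hy).symm
    have e2 : y' * x = x * y' := (H.comm x hx y' hy').symm
    calc (x * y) * (x' * y') = x * (y * x') * y' := by group
      _ = x * (x' * y) * y' := by rw [e1]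
      _ = (x * x') * (y * y') := by group
      _ = (x' * x) * (y' * y) := by rw [hxx', hyy']
      _ = x' * (x * y') * y := by group
      _ = x' * (y' * x) * y := by rw [e2]
      _ = (x' * y') * (x * y) := by group
  have hdd : (p * q) * (p * q) = 1 := by
    have hd : p * q = (x * y)⁻¹ * (x' * y') := by rw [hkd]; group
    have h1 : (x' * y') * (x * y)⁻¹ = (x * y)⁻¹ * (x' * y') := by
      calc (x' * y') * (x * y)⁻¹ = (x * y)⁻¹ * ((x * y) * (x' * y')) * (x * y)⁻¹ := by group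
        _ = (x * y)⁻¹ * ((x' * y') * (x * y)) * (x * y)⁻¹ := by rw [hSK]
        _ = (x * y)⁻¹ * (x' * y') := by group
    calc (p * q) * (p * q) = (x * y)⁻¹ * ((x' * y') * (x * y)⁻¹) * (x' * y') := by rw [hd]; group
      _ = (x * y)⁻¹ * ((x * y)⁻¹ * (x' * y')) * (x' * y') := by rw [h1]
      _ = ((x * y) * (x * y))⁻¹ * ((x' * y') * (x' * y')) := by group
      _ = 1 := by rw [hss, hkk, inv_mul_cancel]
  have hpq : p * q = q * p := H.comm p hpL q hqL
  have hppqq : (p * p) * (q * q) = 1 := by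
    rw [← hdd]
    calc p * p * (q * q) = p * (p * q) * q := by group
      _ = p * (q * p) * q := by rw [hpq]
      _ = p * q * (p * q) := by group
  have hpp1 : p * p ∈ L₁ := L₁.mul_mem hpL hpL
  have hpp2 : p * p ∈ L₂ := by
    have : p * p = (q * q)⁻¹ := eq_inv_of_mul_eq_one_left hppqq
    rw [this]; exact L₂.inv_mem (L₂.mul_mem hqL hqL)
  rw [hkd]
  rcases H.inter _ hpp1 hpp2 with h0 | h0
  · -- `p² = 1 = q²`
    have hqq : q * q = 1 := by rw [h0, one_mul] at hppqq; exact hppqq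
    rcases H.invol₁ p hpL h0 with h1 | h1 <;> rcases H.invol₂ q hqL hqq with h2 | h2
    · left; rw [h1, h2, mul_one, mul_one]
    · right; left; rw [h1, h2, one_mul]
    · right; left; rw [h1, h2, mul_one]
    · left; rw [h1, h2, H.j_sq, mul_one]
  · -- `p² = j = q²`
    have hqq : q * q = j := by
      rw [h0] at hppqq
      have : q * q = j⁻¹ := eq_inv_of_mul_eq_one_right hppqq
      rw [this, hjinv]
    have hp' : p = a ∨ p = j * a := by
      have h1 : (p * a⁻¹) * (p * a⁻¹) = 1 := by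
        have e1 : a⁻¹ * p = p * a⁻¹ := by
          calc a⁻¹ * p = a⁻¹ * (p * a) * a⁻¹ := by group
            _ = a⁻¹ * (a * p) * a⁻¹ := by rw [hpa]
            _ = p * a⁻¹ := by group
        calc (p * a⁻¹) * (p * a⁻¹) = p * (a⁻¹ * p) * a⁻¹ := by group
          _ = p * (p * a⁻¹) * a⁻¹ := by rw [e1]
          _ = (p * p) * (a * a)⁻¹ := by group
          _ = 1 := by rw [h0, haa, mul_inv_cancel]
      rcases H.invol₁ _ (L₁.mul_mem hpL (L₁.inv_mem ha)) h1 with h2 | h2
      · left; exact mul_inv_eq_one.mp h2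
      · right; exact mul_inv_eq_iff_eq_mul.mp h2
    have hq' : q = b ∨ q = j * b := by
      have h1 : (q * b⁻¹) * (q * b⁻¹) = 1 := by
        have e1 : b⁻¹ * q = q * b⁻¹ := by
          calc b⁻¹ * q = b⁻¹ * (q * b) * b⁻¹ := by group
            _ = b⁻¹ * (b * q) * b⁻¹ := by rw [hqb]
            _ = q * b⁻¹ := by group
        calc (q * b⁻¹) * (q * b⁻¹) = q * (b⁻¹ * q) * b⁻¹ := by group
          _ = q * (q * b⁻¹) * b⁻¹ := by rw [e1]
          _ = (q * q) * (b * b)⁻¹ := by group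
          _ = 1 := by rw [hqq, hbb, mul_inv_cancel]
      rcases H.invol₂ _ (L₂.mul_mem hqL (L₂.inv_mem hb)) h1 with h2 | h2
      · left; exact mul_inv_eq_one.mp h2
      · right; exact mul_inv_eq_iff_eq_mul.mp h2
    have hja : a * j = j * a := H.cent₁ a ha
    have hjb : b * j = j * b := H.cent₂ b hb
    rcases hp' with h1 | h1 <;> rcases hq' with h2 | h2
    · right; right; left; rw [h1, h2]
    · right; right; right; rw [h1, h2, ← hjb, mul_assoc a b j]
    · right; right; right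
      rw [h1, h2, ← hja]
      congr 1
      rw [mul_assoc a j b, ← hjb, mul_assoc]
    · right; right; left
      rw [h1, h2, ← hja]
      congr 1
      calc a * j * (j * b) = a * (j * j) * b := by group
        _ = a * b := by rw [H.j_sq, mul_one]

end Cfsg.Agent.Lib.Helper61.FW
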