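/-
helper61 (project FW = S3211, helper2): module FW-[F5] `n_root` (self-contained: the needed part of [FW-U] is proved inline).
-/
import Mathlib
import Cfsg.Agent.Lib.Helper2.FWDefs

set_option autoImplicit false

namespace Cfsg.Agent.Lib.Helper61.FW

open Cfsg.Agent.Lib.Helper2.FW

variable {G : Type*} [Group G] {L₁ L₂ : Subgroup G} {j n : G}

/-- [FW-F5] `n` is a square root of `j` outside `L₁L₂`. -/
theorem n_root (H : Hyp L₁ L₂ j n) {a : G} (ha : a ∈ L₁) (haa : a * a = j) :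
    n ∈ Roots j (a * (n * a * n⁻¹)) j ∧ ¬ InL L₁ L₂ n := by
  have hb : n * a * n⁻¹ ∈ L₂ := H.swap₁ a ha
  have hbb : (n * a * n⁻¹) * (n * a * n⁻¹) = j := by
    have h1 : (n * a * n⁻¹) * (n * a * n⁻¹) = n * (a * a) * n⁻¹ := by group
    rw [h1, haa, H.n_comm, mul_assoc, mul_inv_cancel, mul_one]
  refine ⟨⟨H.n_comm, ?_, H.n_sq⟩, ?_⟩
  · have hcb : n * (n * a * n⁻¹) * n⁻¹ = a := by
      have h1 : n * (n * a * n⁻¹) * n⁻¹ = (n * n) * a * (n * n)⁻¹ := by group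
      rw [h1, H.n_sq, ← H.cent₁ a ha, mul_assoc, mul_inv_cancel, mul_one]
    have hab : a * (n * a * n⁻¹) = (n * a * n⁻¹) * a := H.comm a ha _ hb
    calc n * (a * (n * a * n⁻¹)) = (n * a * n⁻¹) * (n * (n * a * n⁻¹) * n⁻¹) * n := by group
      _ = (n * a * n⁻¹) * a * n := by rw [hcb]
      _ = a * (n * a * n⁻¹) * n := by rw [← hab]
  · rintro ⟨x, hx, y, hy, hn⟩
    have hay : a * y = y * a := H.comm a ha y hy
    have hb1 : n * a * n⁻¹ = x * a * x⁻¹ := by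
      have h1 : n * a * n⁻¹ = x * (y * a * y⁻¹) * x⁻¹ := by
        rw [hn]; group
      rw [h1, ← hay, mul_assoc a, mul_inv_cancel, mul_one]
    have hb1' : n * a * n⁻¹ ∈ L₁ := by
      rw [hb1]; exact L₁.mul_mem (L₁.mul_mem hx ha) (L₁.inv_mem hx)
    rcases H.inter _ hb1' hb with h | h
    · rw [h, one_mul] at hbb; exact H.j_ne hbb.symm
    · rw [h, H.j_sq] at hbb; exact H.j_ne hbb.symm

end Cfsg.Agent.Lib.Helper61.FW
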