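/-
helper61 (project FW = S3211, helper2): module FW-[XFER] `sl2Like_of_equiv`.
-/
import Mathlib
import Cfsg.Agent.Lib.Helper2.FWDefs

set_option autoImplicit false

namespace Cfsg.Agent.Lib.Helper61.FW

open Cfsg.Agent.Lib.Helper2.FW

variable {G : Type*} [Group G]

/-- [FW-XFER] transport of the three matrix facts along `e : L ≃* SL₂(F)`. -/
theorem sl2Like_of_equiv {F : Type*} [Field F] [Fintype F] (hF : Odd (Fintype.card F))
    (hinv : ∀ x : Matrix.SpecialLinearGroup (Fin 2) F, x * x = 1 → x = 1 ∨ x = -1)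
    (habel : ∀ a x y : Matrix.SpecialLinearGroup (Fin 2) F, a * a = -1 → x * a = a * x →
      y * a = a * y → x * y = y * x)
    (hconj : ∀ a b : Matrix.SpecialLinearGroup (Fin 2) F, a * a = -1 → b * b = -1 →
      ∃ y : Matrix.SpecialLinearGroup (Fin 2) F, y * b * y⁻¹ = a)
    (L : Subgroup G) (e : ↥L ≃* Matrix.SpecialLinearGroup (Fin 2) F) (j : G) (hj : orderOf j = 2)
    (hjL : j ∈ L) : SL2Like L j := by
  have hj2 : j * j = 1 := by
    have := pow_orderOf_eq_one j
    rw [hj, pow_two] at this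
    exact this
  have hj1 : j ≠ 1 := by
    intro h
    rw [h, orderOf_one] at hj
    exact absurd hj (by norm_num)
  -- the image of `j` is `-1`
  have hz : e ⟨j, hjL⟩ = -1 := by
    have h1 : e ⟨j, hjL⟩ * e ⟨j, hjL⟩ = 1 := by
      rw [← map_mul]
      have : (⟨j, hjL⟩ : ↥L) * ⟨j, hjL⟩ = 1 := Subtype.ext hj2
      rw [this, map_one]
    rcases hinv _ h1 with h | h
    · exfalso
      have : (⟨j, hjL⟩ : ↥L) = 1 := e.injective (by rw [h, map_one])
      exact hj1 (congrArg Subtype.val this)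
    · exact h
  -- squares
  have hsq : ∀ (a : G) (ha : a ∈ L), a * a = j → e ⟨a, ha⟩ * e ⟨a, ha⟩ = -1 := by
    intro a ha haa
    rw [← map_mul, ← hz]
    congr 1
    exact Subtype.ext haa
  have hcm : ∀ (a x : G) (ha : a ∈ L) (hx : x ∈ L), x * a = a * x →
      e ⟨x, hx⟩ * e ⟨a, ha⟩ = e ⟨a, ha⟩ * e ⟨x, hx⟩ := by
    intro a x ha hx h
    rw [← map_mul, ← map_mul]
    congr 1
    exact Subtype.ext h
  refine ⟨?_, ?_, ?_, ?_⟩
  · intro x hx hxx
    have h1 : e ⟨x, hx⟩ * e ⟨x, hx⟩ = 1 := by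
      rw [← map_mul]
      have : (⟨x, hx⟩ : ↥L) * ⟨x, hx⟩ = 1 := Subtype.ext hxx
      rw [this, map_one]
    rcases hinv _ h1 with h | h
    · left
      have : (⟨x, hx⟩ : ↥L) = 1 := e.injective (by rw [h, map_one])
      exact congrArg Subtype.val this
    · right
      have : (⟨x, hx⟩ : ↥L) = ⟨j, hjL⟩ := e.injective (by rw [h, hz])
      exact congrArg Subtype.val this
  · intro a ha haa x hx y hy hxa hya
    have h := habel (e ⟨a, ha⟩) (e ⟨x, hx⟩) (e ⟨y, hy⟩) (hsq a ha haa) (hcm a x ha hx hxa) (hcm a y ha hy hya)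
    rw [← map_mul, ← map_mul] at h
    exact congrArg Subtype.val (e.injective h)
  · intro a ha b hb haa hbb
    obtain ⟨Y, hY⟩ := hconj (e ⟨a, ha⟩) (e ⟨b, hb⟩) (hsq a ha haa) (hsq b hb hbb)
    refine ⟨(e.symm Y : G), (e.symm Y).2, ?_⟩
    have h1 : e (e.symm Y * ⟨b, hb⟩ * (e.symm Y)⁻¹) = e ⟨a, ha⟩ := by
      rw [map_mul, map_mul, map_inv, e.apply_symm_apply, hY]
    exact congrArg Subtype.val (e.injective h1)
  · let U : Matrix.SpecialLinearGroup (Fin 2) F := ⟨!![1, 1; 0, 1], by simp [Matrix.det_fin_two]⟩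
    have hU1 : U ≠ 1 := by
      intro h
      have := congrArg (fun m : Matrix.SpecialLinearGroup (Fin 2) F => (m : Matrix (Fin 2) (Fin 2) F) 0 1) h
      simp [U] at this
    have hU2 : U ≠ -1 := by
      intro h
      have := congrArg (fun m : Matrix.SpecialLinearGroup (Fin 2) F => (m : Matrix (Fin 2) (Fin 2) F) 0 1) h
      simp [U] at this
    refine ⟨(e.symm U : G), (e.symm U).2, ?_, ?_⟩
    · intro h
      apply hU1
      have : e.symm U = 1 := Subtype.ext h
      rw [← e.apply_symm_apply U, this, map_one]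
    · intro h
      apply hU2
      have : e.symm U = ⟨j, hjL⟩ := Subtype.ext h
      rw [← e.apply_symm_apply U, this, hz]

end Cfsg.Agent.Lib.Helper61.FW
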