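import Mathlib
import Cfsg.Prelude.Def_GeometricClasses
import Cfsg.Agent.Lib.Helper99.AschDefs
import Cfsg.Agent.Lib.Helper23.AschSpDefs

/-!
# ASCHSP-[C2A] (helper61): a transitively permuted, pairwise orthogonal decomposition puts `H` in class 2

The general form `sgeo_of_orthogonal_family` allows an arbitrary finite index type and only asks that every element of
`H` maps every member of the family onto SOME member; the sheet statement follows by `exact`.
-/

set_option autoImplicit false

namespace Cfsg.Agent.Lib.Helper61.AschSpC2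

open Cfsg Cfsg.Geo Cfsg.Agent.Lib.Helper99.Asch Cfsg.Agent.Lib.Helper23.AschSp
open scoped MatrixGroups Matrix

variable {n m : ℕ} {F : Type*} [Field F] {f : (Fin n → F) → (Fin n → F) → F}

theorem bil_zero_left (hf : IsBilinearForm f) (v : Fin n → F) : f 0 v = 0 := by
  have h := hf.smul_left 0 0 v
  rw [zero_smul, zero_mul] at h
  exact h

theorem bil_zero_right (hf : IsBilinearForm f) (v : Fin n → F) : f v 0 = 0 := by
  have h := hf.smul_right 0 v 0
  rw [zero_smul, zero_mul] at h
  exact h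

/-- An invertible matrix preserves the dimension of a subspace. -/
theorem finrank_map_gl' (h : GL (Fin n) F) (W : Submodule F (Fin n → F)) :
    Module.finrank F (W.map (Matrix.toLin' (h : Matrix (Fin n) (Fin n) F))) = Module.finrank F W := by
  have h1 : (h : Matrix (Fin n) (Fin n) F) * ((h⁻¹ : GL (Fin n) F) : Matrix (Fin n) (Fin n) F) = 1 := by
    rw [← Units.val_mul, mul_inv_cancel, Units.val_one]
  have h2 : ((h⁻¹ : GL (Fin n) F) : Matrix (Fin n) (Fin n) F) * (h : Matrix (Fin n) (Fin n) F) = 1 := by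
    rw [← Units.val_mul, inv_mul_cancel, Units.val_one]
  have := LinearEquiv.finrank_map_eq (Matrix.toLin'OfInv h2 h1) W
  rw [← this]
  rfl

/-- Mapping subspaces by an invertible matrix is injective. -/
theorem map_gl_injective (h : GL (Fin n) F) :
    Function.Injective
      (fun W : Submodule F (Fin n → F) => W.map (Matrix.toLin' (h : Matrix (Fin n) (Fin n) F))) := by
  apply Submodule.map_injective_of_injective
  intro u v huv
  have h2 : ((h⁻¹ : GL (Fin n) F) : Matrix (Fin n) (Fin n) F) * (h : Matrix (Fin n) (Fin n) F) = 1 := by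
    rw [← Units.val_mul, inv_mul_cancel, Units.val_one]
  have := congrArg (fun w => ((h⁻¹ : GL (Fin n) F) : Matrix (Fin n) (Fin n) F) *ᵥ w) huv
  simpa [Matrix.toLin'_apply, Matrix.mulVec_mulVec, h2] using this

/-- In a pairwise orthogonal family with sum `⊤`, every member is nondegenerate (if `f` is). -/
theorem nondegenerateOn_of_orthogonal {κ : Type*} (hf : IsBilinearForm f) (hnd : IsNondegenerateForm f)
    (D : κ → Submodule F (Fin n → F)) (htop : iSup D = ⊤)
    (horth : ∀ i j, i ≠ j → AreOrthogonalFor f (D i) (D j)) (i : κ) : IsNondegenerateOn f (D i) := by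
  classical
  intro w hw hw0
  have key1 : ∀ x, ∃ y ∈ D i, f x w = f y w := by
    intro x
    have hx : x ∈ ⨆ j, D j := by rw [htop]; exact Submodule.mem_top
    refine Submodule.iSup_induction D (motive := fun x => ∃ y ∈ D i, f x w = f y w) hx ?_ ?_ ?_
    · intro j x hxj
      by_cases hji : j = i
      · subst hji; exact ⟨x, hxj, rfl⟩
      · exact ⟨0, (D i).zero_mem, by rw [horth j i hji x hxj w hw, bil_zero_left hf]⟩
    · exact ⟨0, (D i).zero_mem, rfl⟩
    · rintro x y ⟨x', hx', hxx⟩ ⟨y', hy', hyy⟩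
      exact ⟨x' + y', (D i).add_mem hx' hy', by rw [hf.add_left, hf.add_left, hxx, hyy]⟩
  have key2 : ∀ x, ∃ y ∈ D i, f w x = f w y := by
    intro x
    have hx : x ∈ ⨆ j, D j := by rw [htop]; exact Submodule.mem_top
    refine Submodule.iSup_induction D (motive := fun x => ∃ y ∈ D i, f w x = f w y) hx ?_ ?_ ?_
    · intro j x hxj
      by_cases hji : j = i
      · subst hji; exact ⟨x, hxj, rfl⟩
      · exact ⟨0, (D i).zero_mem, by rw [horth i j (Ne.symm hji) w hw x hxj, bil_zero_right hf]⟩
    · exact ⟨0, (D i).zero_mem, rfl⟩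
    · rintro x y ⟨x', hx', hxx⟩ ⟨y', hy', hyy⟩
      exact ⟨x' + y', (D i).add_mem hx' hy', by rw [hf.add_right, hf.add_right, hxx, hyy]⟩
  obtain ⟨⟨x, hx⟩, ⟨x', hx'⟩⟩ := hnd w hw0
  obtain ⟨y, hy, hxy⟩ := key1 x
  obtain ⟨y', hy', hxy'⟩ := key2 x'
  exact ⟨⟨y, hy, by rwa [← hxy]⟩, ⟨y', hy', by rwa [← hxy']⟩⟩

/-- General form of ASCHSP-[C2A]: arbitrary finite index type, and every `h ∈ H` maps every member onto some member. -/
theorem sgeo_of_orthogonal_family [Fintype F] (hf : IsSymplecticForm f) (H : Subgroup (GL (Fin n) F))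
    (hH : H ≤ isoGL f) {κ : Type} [Fintype κ] (hcard : 2 ≤ Fintype.card κ)
    (D : κ → Submodule F (Fin n → F)) (hne : ∀ i, D i ≠ ⊥) (hind : iSupIndep D) (htop : iSup D = ⊤)
    (hperm : ∀ h ∈ H, ∀ i, ∃ j, (D i).map (Matrix.toLin' (h : Matrix (Fin n) (Fin n) F)) = D j)
    (htrans : ∀ i j, ∃ h ∈ H, (D i).map (Matrix.toLin' (h : Matrix (Fin n) (Fin n) F)) = D j)
    (horth : ∀ i j, i ≠ j → AreOrthogonalFor f (D i) (D j)) : SGeo m f H := by
  classical
  set t := Fintype.card κ with ht
  let e : κ ≃ Fin t := Fintype.equivFin κ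
  let D' : Fin t → Submodule F (Fin n → F) := fun a => D (e.symm a)
  have hDinj : Function.Injective D := hind.injective hne
  set i0 : Fin t := ⟨0, by omega⟩ with hi0
  have hdec : IsNondegenerateMDecomposition f (Module.finrank F (D' i0)) D' := by
    refine ⟨⟨hcard, ?_, ?_, hind.comp e.symm.injective, ?_⟩, ?_, ?_⟩
    · exact Nat.lt_of_lt_of_le Nat.zero_lt_one (Submodule.one_le_finrank_iff.mpr (hne _))
    · intro a
      obtain ⟨h, -, hh⟩ := htrans (e.symm i0) (e.symm a)
      show Module.finrank F (D (e.symm a)) = Module.finrank F (D (e.symm i0))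
      rw [← hh]
      exact finrank_map_gl' h _
    · rw [← htop]
      exact e.symm.iSup_comp (g := D)
    · intro a
      exact nondegenerateOn_of_orthogonal hf.bilinear hf.nondegenerate D htop horth (e.symm a)
    · intro a b hab
      exact horth _ _ (e.symm.injective.ne hab)
  refine SGeo.of_c2n (M := decompositionStabilizer D' ⊓ isoGL f) ⟨t, _, D', hdec, rfl⟩ ?_
  intro h hh
  refine ⟨?_, hH hh⟩
  choose φ hφ using hperm h hh
  have hφinj : Function.Injective φ := by
    intro i j hij
    apply hDinj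
    apply map_gl_injective h
    show (D i).map _ = (D j).map _
    rw [hφ, hφ, hij]
  have hφbij : Function.Bijective φ := Finite.injective_iff_bijective.mp hφinj
  let σ : Equiv.Perm κ := Equiv.ofBijective φ hφbij
  refine ⟨(e.symm.trans σ).trans e, fun a => ?_⟩
  show (D (e.symm a)).map _ = D (e.symm (e (σ (e.symm a))))
  rw [Equiv.symm_apply_apply, hφ]
  rfl

end Cfsg.Agent.Lib.Helper61.AschSpC2

namespace Cfsg.Agent.Lib.Helper23.AschSp

open Cfsg Cfsg.Geo Cfsg.Agent.Lib.Helper99.Asch
open scoped MatrixGroups Matrix Kronecker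

variable {n m : ℕ} {F : Type*} [Field F] [Fintype F] {f : (Fin n → F) → (Fin n → F) → F}

/-- ASCHSP-[C2A]. -/
theorem sgeo_of_orthogonal_decomposition (hf : IsSymplecticForm f) (H : Subgroup (GL (Fin n) F)) (hH : H ≤ isoGL f)
    (t : ℕ) (ht : 2 ≤ t) (D : Fin t → Submodule F (Fin n → F)) (hne : ∀ i, D i ≠ ⊥) (hind : iSupIndep D)
    (htop : iSup D = ⊤)
    (hperm : ∀ h ∈ H, ∃ σ : Equiv.Perm (Fin t), ∀ i,
      (D i).map (Matrix.toLin' (h : Matrix (Fin n) (Fin n) F)) = D (σ i))
    (htrans : ∀ i j, ∃ h ∈ H, (D i).map (Matrix.toLin' (h : Matrix (Fin n) (Fin n) F)) = D j)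
    (horth : ∀ i j, i ≠ j → AreOrthogonalFor f (D i) (D j)) : SGeo m f H := by
  refine Cfsg.Agent.Lib.Helper61.AschSpC2.sgeo_of_orthogonal_family hf H hH (by simpa using ht) D hne hind htop
    ?_ htrans horth
  intro h hh i
  obtain ⟨σ, hσ⟩ := hperm h hh
  exact ⟨σ i, hσ i⟩

end Cfsg.Agent.Lib.Helper23.AschSp
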