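import Mathlib
import Cfsg.Prelude.Def_GeometricClasses
import Cfsg.Agent.Lib.Helper99.AschDefs
import Cfsg.Agent.Lib.Helper23.AschSpDefs
import Cfsg.Agent.Lib.Helper61.AschSpC2A

/-!
# ASCHSP-[C2C] (helper61): a paired decomposition (`t ≥ 3`, `τ` fixed-point free) gives a nondegenerate decomposition

The blocks `D i ⊔ D (τ i)` are indexed by the quotient of `Fin t` by the orbits of `τ`, and the general form of
[C2A] (`sgeo_of_orthogonal_family`) is applied to them.
-/

set_option autoImplicit false

namespace Cfsg.Agent.Lib.Helper61.AschSpC2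

open Cfsg Cfsg.Geo Cfsg.Agent.Lib.Helper99.Asch Cfsg.Agent.Lib.Helper23.AschSp
open scoped MatrixGroups Matrix

variable {n m : ℕ} {F : Type*} [Field F] {f : (Fin n → F) → (Fin n → F) → F}

/-- Regrouping an independent family along the fibres of a map gives an independent family. -/
theorem iSupIndep_fiber {ι κ : Type*} {M : Type*} [AddCommGroup M] [Module F M] (D : ι → Submodule F M)
    (hind : iSupIndep D) (g : ι → κ) : iSupIndep (fun k => ⨆ i, ⨆ (_ : g i = k), D i) := by
  intro k
  have hdisj : Disjoint {i | g i = k} {i | g i ≠ k} := by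
    rw [Set.disjoint_left]
    intro i hi hi'
    exact hi' hi
  have h := hind.disjoint_biSup_biSup hdisj
  refine h.mono_right ?_
  refine iSup₂_le fun l hl => iSup₂_le fun i hi => ?_
  refine le_iSup₂_of_le i ?_ le_rfl
  show g i ≠ k
  rw [hi]
  exact hl

theorem iSup_fiber {ι κ : Type*} {M : Type*} [AddCommGroup M] [Module F M] (D : ι → Submodule F M)
    (g : ι → κ) : (⨆ k, ⨆ i, ⨆ (_ : g i = k), D i) = ⨆ i, D i := by
  rw [iSup_comm]
  congr 1
  funext i
  exact iSup_iSup_eq_right

/-- Orthogonality passes to suprema (left argument). -/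
theorem orth_iSup_left (hf : IsBilinearForm f) {ι : Sort*} (D : ι → Submodule F (Fin n → F))
    (W : Submodule F (Fin n → F)) (h : ∀ i, AreOrthogonalFor f (D i) W) : AreOrthogonalFor f (⨆ i, D i) W := by
  intro u hu v hv
  refine Submodule.iSup_induction D (motive := fun u => f u v = 0) hu ?_ ?_ ?_
  · intro i x hx
    exact h i x hx v hv
  · exact bil_zero_left hf v
  · intro x y hx hy
    rw [hf.add_left, hx, hy, add_zero]

/-- Orthogonality passes to suprema (right argument). -/
theorem orth_iSup_right (hf : IsBilinearForm f) {ι : Sort*} (D : ι → Submodule F (Fin n → F))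
    (W : Submodule F (Fin n → F)) (h : ∀ i, AreOrthogonalFor f W (D i)) : AreOrthogonalFor f W (⨆ i, D i) := by
  intro u hu v hv
  refine Submodule.iSup_induction D (motive := fun v => f u v = 0) hv ?_ ?_ ?_
  · intro i x hx
    exact h i u hu x hx
  · exact bil_zero_right hf u
  · intro x y hx hy
    rw [hf.add_right, hx, hy, add_zero]

theorem orth_symm (hf : IsSymplecticForm f) {W W' : Submodule F (Fin n → F)} (h : AreOrthogonalFor f W W') :
    AreOrthogonalFor f W' W := by
  intro u hu v hv
  rw [hf.skew, h v hv u hu, neg_zero]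

/-- An isometry mapping `W₁` onto `W₁'` and `W₂` onto `W₂'` preserves orthogonality. -/
theorem orth_map_iff (h : GL (Fin n) F) (hh : h ∈ isoGL f) (W₁ W₂ : Submodule F (Fin n → F)) :
    AreOrthogonalFor f (W₁.map (Matrix.toLin' (h : Matrix (Fin n) (Fin n) F)))
      (W₂.map (Matrix.toLin' (h : Matrix (Fin n) (Fin n) F))) ↔ AreOrthogonalFor f W₁ W₂ := by
  constructor
  · intro H u hu v hv
    have := H _ (Submodule.mem_map_of_mem hu) _ (Submodule.mem_map_of_mem hv)
    rw [Matrix.toLin'_apply, Matrix.toLin'_apply, mem_isoGL.mp hh] at this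
    exact this
  · rintro H _ ⟨u, hu, rfl⟩ _ ⟨v, hv, rfl⟩
    rw [Matrix.toLin'_apply, Matrix.toLin'_apply, mem_isoGL.mp hh]
    exact H u hu v hv

end Cfsg.Agent.Lib.Helper61.AschSpC2

namespace Cfsg.Agent.Lib.Helper23.AschSp

open Cfsg Cfsg.Geo Cfsg.Agent.Lib.Helper99.Asch Cfsg.Agent.Lib.Helper61.AschSpC2
open scoped MatrixGroups Matrix Kronecker

variable {n m : ℕ} {F : Type*} [Field F] [Fintype F] {f : (Fin n → F) → (Fin n → F) → F}

/-- ASCHSP-[C2C]. -/
theorem sgeo_of_paired_decomposition (hf : IsSymplecticForm f) (H : Subgroup (GL (Fin n) F)) (hH : H ≤ isoGL f)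
    (t : ℕ) (ht : 3 ≤ t) (D : Fin t → Submodule F (Fin n → F)) (τ : Equiv.Perm (Fin t)) (hne : ∀ i, D i ≠ ⊥)
    (hind : iSupIndep D) (htop : iSup D = ⊤)
    (hperm : ∀ h ∈ H, ∃ σ : Equiv.Perm (Fin t), ∀ i,
      (D i).map (Matrix.toLin' (h : Matrix (Fin n) (Fin n) F)) = D (σ i))
    (htrans : ∀ i j, ∃ h ∈ H, (D i).map (Matrix.toLin' (h : Matrix (Fin n) (Fin n) F)) = D j)
    (hτ : ∀ i j, AreOrthogonalFor f (D i) (D j) ↔ j ≠ τ i) (hfix : ∀ i, τ i ≠ i) : SGeo m f H := by
  classical
  have hDinj : Function.Injective D := hind.injective hne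
  -- τ is an involution
  have hinv : ∀ i, τ (τ i) = i := by
    intro i
    by_contra hne'
    have h1 : AreOrthogonalFor f (D (τ i)) (D i) := (hτ (τ i) i).mpr (fun h => hne' h.symm)
    exact (hτ i (τ i)).mp (orth_symm hf h1) rfl
  -- the orbit relation
  let r : Setoid (Fin t) :=
    { r := fun i j => j = i ∨ j = τ i
      iseqv :=
        { refl := fun i => Or.inl rfl
          symm := by
            rintro i j (h | h)
            · exact Or.inl h.symm
            · exact Or.inr (by rw [h, hinv])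
          trans := by
            rintro i j k (h | h) (h' | h')
            · exact Or.inl (h'.trans h)
            · exact Or.inr (by rw [h', h])
            · exact Or.inr (by rw [h', h])
            · exact Or.inl (by rw [h', h, hinv]) } }
  have hr : ∀ i j, (Quotient.mk r i = Quotient.mk r j) ↔ (j = i ∨ j = τ i) := by
    intro i j
    exact Quotient.eq (r := r)
  let E : Quotient r → Submodule F (Fin n → F) := fun k => ⨆ i, ⨆ (_ : Quotient.mk r i = k), D i
  have hDE : ∀ i, D i ≤ E (Quotient.mk r i) := fun i => le_iSup₂_of_le i rfl le_rfl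
  -- every `h ∈ H` commutes with τ on indices
  have hcomm : ∀ h ∈ H, ∀ σ : Equiv.Perm (Fin t),
      (∀ i, (D i).map (Matrix.toLin' (h : Matrix (Fin n) (Fin n) F)) = D (σ i)) → ∀ i, σ (τ i) = τ (σ i) := by
    intro h hh σ hσ i
    by_contra hne'
    have h1 : AreOrthogonalFor f (D (σ i)) (D (σ (τ i))) := (hτ _ _).mpr hne'
    rw [← hσ, ← hσ, orth_map_iff h (hH hh)] at h1
    exact (hτ i (τ i)).mp h1 rfl
  have hmapE : ∀ h ∈ H, ∀ σ : Equiv.Perm (Fin t),
      (∀ i, (D i).map (Matrix.toLin' (h : Matrix (Fin n) (Fin n) F)) = D (σ i)) →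
      ∀ i, (E (Quotient.mk r i)).map (Matrix.toLin' (h : Matrix (Fin n) (Fin n) F)) = E (Quotient.mk r (σ i)) := by
    intro h hh σ hσ i
    have hc := hcomm h hh σ hσ
    show (⨆ i', ⨆ (_ : Quotient.mk r i' = Quotient.mk r i), D i').map _ = _
    simp_rw [Submodule.map_iSup, hσ]
    apply le_antisymm
    · refine iSup₂_le fun i' hi' => ?_
      refine le_iSup₂_of_le (σ i') ?_ le_rfl
      rw [hr] at hi' ⊢
      rcases hi' with h' | h'
      · exact Or.inl (by rw [h'])
      · exact Or.inr (by rw [h', hc])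
    · refine iSup₂_le fun j hj => ?_
      refine le_iSup₂_of_le (σ.symm j) ?_ (by rw [Equiv.apply_symm_apply])
      rw [hr] at hj ⊢
      rcases hj with h' | h'
      · exact Or.inl (by rw [← h', Equiv.symm_apply_apply])
      · exact Or.inr (σ.injective (by rw [hc, Equiv.apply_symm_apply, h']))
  -- two distinct classes
  have hcard : 2 ≤ Fintype.card (Quotient r) := by
    have h0 : 0 < t := by omega
    let a : Fin t := ⟨0, by omega⟩
    let b : Fin t := ⟨1, by omega⟩
    let c : Fin t := ⟨2, by omega⟩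
    have hab : b ≠ a := by intro h; have := congrArg Fin.val h; simp [a, b] at this
    have hac : c ≠ a := by intro h; have := congrArg Fin.val h; simp [a, c] at this
    have hbc : c ≠ b := by intro h; have := congrArg Fin.val h; simp [b, c] at this
    have : ∃ j, Quotient.mk r a ≠ Quotient.mk r j := by
      by_cases hb : b = τ a
      · refine ⟨c, fun h => ?_⟩
        rcases (hr a c).mp h with h' | h'
        · exact hac h'
        · exact hbc (by rw [h', hb])
      · refine ⟨b, fun h => ?_⟩
        rcases (hr a b).mp h with h' | h'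
        · exact hab h'
        · exact hb h'
    obtain ⟨j, hj⟩ := this
    exact Fintype.one_lt_card_iff.mpr ⟨_, _, hj⟩
  refine sgeo_of_orthogonal_family hf H hH hcard E ?_ ?_ ?_ ?_ ?_ ?_
  · -- nonzero
    intro k
    obtain ⟨i, rfl⟩ := Quotient.exists_rep k
    intro h
    exact hne i (le_bot_iff.mp (h ▸ hDE i))
  · exact iSupIndep_fiber D hind (Quotient.mk r)
  · show (⨆ k, ⨆ i, ⨆ (_ : Quotient.mk r i = k), D i) = ⊤
    rw [iSup_fiber D (Quotient.mk r)]
    exact htop
  · intro h hh k
    obtain ⟨i, rfl⟩ := Quotient.exists_rep k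
    obtain ⟨σ, hσ⟩ := hperm h hh
    exact ⟨_, hmapE h hh σ hσ i⟩
  · intro k l
    obtain ⟨i, rfl⟩ := Quotient.exists_rep k
    obtain ⟨j, rfl⟩ := Quotient.exists_rep l
    obtain ⟨h, hh, hij⟩ := htrans i j
    obtain ⟨σ, hσ⟩ := hperm h hh
    have : σ i = j := hDinj (by rw [← hσ, hij])
    exact ⟨h, hh, by rw [hmapE h hh σ hσ i, this]⟩
  · intro k l hkl
    refine orth_iSup_left hf.bilinear _ _ fun i => orth_iSup_left hf.bilinear _ _ fun hi => ?_
    refine orth_iSup_right hf.bilinear _ _ fun j => orth_iSup_right hf.bilinear _ _ fun hj => ?_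
    refine (hτ i j).mpr fun h => hkl ?_
    rw [← hi, ← hj, hr]
    exact Or.inr h

end Cfsg.Agent.Lib.Helper23.AschSp
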