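import Mathlib
import Cfsg.Agent.Lib.Helper53.SUReg.Defs
import Cfsg.Agent.Lib.Helper53.SUReg.Defs2

set_option autoImplicit false

/-!
helper61, S2282-[MDET]: the model matrix `uM` has determinant `1`.
-/

namespace Cfsg.Agent.Lib.Helper61.SUReg

open Matrix Cfsg.Agent.Lib.Helper53.SUReg

variable {F : Type*} [Field F] {σ : F →+* F} {q : ℕ} {m : ℕ}

theorem uM_det (κ : F) : (uM σ m κ).det = 1 := by
  rw [← Matrix.fromBlocks_toBlocks (uM σ m κ)]
  have h12 : (uM σ m κ).toBlocks₁₂ = 0 := by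
    ext i j
    rfl
  rw [h12, Matrix.det_fromBlocks_zero₁₂]
  have hA : (uM σ m κ).toBlocks₁₁.det = 1 := by
    rw [Matrix.det_of_isUpperTriangular]
    · apply Finset.prod_eq_one
      intro i _
      simp [Matrix.toBlocks₁₁, uM]
    · intro i j hij
      have hij' : (j : ℕ) < i := hij
      have h1 : i ≠ j := fun h => by rw [h] at hij'; omega
      have h2 : ¬ ((i : ℕ) + 1 = j) := by omega
      simp [Matrix.toBlocks₁₁, uM, h1, h2]
  have hE : (uM σ m κ).toBlocks₂₂.det = 1 := by
    rw [← Matrix.fromBlocks_toBlocks (uM σ m κ).toBlocks₂₂]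
    have h12' : (uM σ m κ).toBlocks₂₂.toBlocks₁₂ = 0 := by
      ext i j
      rfl
    rw [h12', Matrix.det_fromBlocks_zero₁₂, Matrix.det_unique]
    have hD : (uM σ m κ).toBlocks₂₂.toBlocks₂₂.det = 1 := by
      rw [Matrix.det_of_isLowerTriangular]
      · apply Finset.prod_eq_one
        intro i _
        simp [Matrix.toBlocks₂₂, uM]
      · intro i j hij
        have hij' : (i : ℕ) < j := hij
        simp [Matrix.toBlocks₂₂, uM]
        exact hij'
    rw [hD, mul_one]
    simp [Matrix.toBlocks₂₂, Matrix.toBlocks₁₁, uM]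
  rw [hA, hE, one_mul]

end Cfsg.Agent.Lib.Helper61.SUReg
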