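import Mathlib
import Cfsg.Agent.Lib.Helper53.SUReg.Defs
import Cfsg.Agent.Lib.Helper53.SUReg.Defs2

set_option autoImplicit false

/-!
helper61, S2282-[MGRAM]: Gram values of the orbit of `aM` under `uM` in the model.
-/

namespace Cfsg.Agent.Lib.Helper61.SUReg

open Matrix Cfsg.Agent.Lib.Helper53.SUReg

variable {F : Type*} [Field F] {σ : F →+* F} {q : ℕ} {m : ℕ}

/-- the `W`-components of `uM *ᵥ x` -/
theorem uM_mulVec_inl (κ : F) (x : MI m → F) (i : Fin m) :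
    (uM σ m κ *ᵥ x) (Sum.inl i) =
      x (Sum.inl i) + (if h : (i : ℕ) + 1 < m then x (Sum.inl ⟨(i : ℕ) + 1, h⟩) else 0) := by
  rw [Matrix.mulVec, dotProduct, Fintype.sum_sum_type]
  have h2 : ∑ j : Unit ⊕ Fin m, uM σ m κ (Sum.inl i) (Sum.inr j) * x (Sum.inr j) = 0 := by
    apply Finset.sum_eq_zero
    intro j _
    simp [uM]
  rw [h2, add_zero]
  have h1 : ∀ j : Fin m, uM σ m κ (Sum.inl i) (Sum.inl j) * x (Sum.inl j) =
      (if i = j then x (Sum.inl j) else 0) + (if (i : ℕ) + 1 = j then x (Sum.inl j) else 0) := by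
    intro j
    simp only [uM, Matrix.of_apply]
    by_cases h : i = j
    · subst h
      simp
    · by_cases h' : (i : ℕ) + 1 = j
      · simp [h, h']
      · simp [h, h']
  simp_rw [h1, Finset.sum_add_distrib, Finset.sum_ite_eq, Finset.mem_univ, if_true]
  congr 1
  split_ifs with h
  · rw [Finset.sum_eq_single (⟨(i : ℕ) + 1, h⟩ : Fin m)]
    · simp
    · intro j _ hj
      rw [if_neg]
      intro h'
      apply hj
      exact Fin.ext h'.symm
    · intro h'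
      exact absurd (Finset.mem_univ _) h'
  · apply Finset.sum_eq_zero
    intro j _
    rw [if_neg]
    have := j.isLt
    omega

/-- the `z`-component of `uM *ᵥ x` -/
theorem uM_mulVec_z (κ : F) (x : MI m → F) :
    (uM σ m κ *ᵥ x) (Sum.inr (Sum.inl ())) =
      (if h : 0 < m then x (Sum.inl ⟨0, h⟩) else 0) + x (Sum.inr (Sum.inl ())) := by
  rw [Matrix.mulVec, dotProduct, Fintype.sum_sum_type, Fintype.sum_sum_type]
  have h3 : ∑ j : Fin m, uM σ m κ (Sum.inr (Sum.inl ())) (Sum.inr (Sum.inr j)) * x (Sum.inr (Sum.inr j)) = 0 := by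
    apply Finset.sum_eq_zero
    intro j _
    simp [uM]
  rw [h3, add_zero]
  congr 1
  · split_ifs with h
    · rw [Finset.sum_eq_single (⟨0, h⟩ : Fin m)]
      · simp [uM]
      · intro j _ hj
        have : (j : ℕ) ≠ 0 := fun h' => hj (Fin.ext h')
        simp [uM, this]
      · intro h'
        exact absurd (Finset.mem_univ _) h'
    · apply Finset.sum_eq_zero
      intro j _
      have := j.isLt
      omega
  · simp [uM]

/-- the `W'`-components of `uM *ᵥ x` -/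
theorem uM_mulVec_inr (κ : F) (x : MI m → F) (i : Fin m) :
    (uM σ m κ *ᵥ x) (Sum.inr (Sum.inr i)) =
      (-1) ^ (i : ℕ) * (σ κ * x (Sum.inl ⟨0, i.pos⟩) - x (Sum.inr (Sum.inl ()))) +
        ∑ j : Fin m, (if (j : ℕ) ≤ i then (-1) ^ ((i : ℕ) - j) * x (Sum.inr (Sum.inr j)) else 0) := by
  rw [Matrix.mulVec, dotProduct, Fintype.sum_sum_type, Fintype.sum_sum_type]
  have h1 : ∑ j : Fin m, uM σ m κ (Sum.inr (Sum.inr i)) (Sum.inl j) * x (Sum.inl j) =
      σ κ * (-1) ^ (i : ℕ) * x (Sum.inl ⟨0, i.pos⟩) := by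
    rw [Finset.sum_eq_single (⟨0, i.pos⟩ : Fin m)]
    · simp [uM]
    · intro j _ hj
      have : (j : ℕ) ≠ 0 := fun h' => hj (Fin.ext h')
      simp [uM, this]
    · intro h'
      exact absurd (Finset.mem_univ _) h'
  have h2 : ∑ j : Unit, uM σ m κ (Sum.inr (Sum.inr i)) (Sum.inr (Sum.inl j)) * x (Sum.inr (Sum.inl j)) =
      -(-1) ^ (i : ℕ) * x (Sum.inr (Sum.inl ())) := by
    simp [uM]
  have h3 : ∀ j : Fin m, uM σ m κ (Sum.inr (Sum.inr i)) (Sum.inr (Sum.inr j)) * x (Sum.inr (Sum.inr j)) =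
      (if (j : ℕ) ≤ i then (-1) ^ ((i : ℕ) - j) * x (Sum.inr (Sum.inr j)) else 0) := by
    intro j
    show (if (j : ℕ) ≤ i then (-1 : F) ^ ((i : ℕ) - j) else 0) * x (Sum.inr (Sum.inr j)) = _
    rw [ite_mul, zero_mul]
  rw [h1, h2]
  simp_rw [h3]
  ring

/-- pairing with `aM` reads off the last `W'`-component -/
theorem hM_aM (hm : 1 ≤ m) (y : MI m → F) :
    hM σ m (aM m) y = σ (y (Sum.inr (Sum.inr ⟨m - 1, by omega⟩))) := by
  unfold hM
  have h1 : ∀ i : Fin m, ((aM m : MI m → F) (Sum.inl i) * σ (y (Sum.inr (Sum.inr i))) +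
      (aM m : MI m → F) (Sum.inr (Sum.inr i)) * σ (y (Sum.inl i))) =
      if i = (⟨m - 1, by omega⟩ : Fin m) then σ (y (Sum.inr (Sum.inr i))) else 0 := by
    intro i
    by_cases hi : i = (⟨m - 1, by omega⟩ : Fin m)
    · have h : (i : ℕ) + 1 = m := by
        rw [hi]
        show m - 1 + 1 = m
        omega
      rw [if_pos hi]
      show (if (i : ℕ) + 1 = m then (1 : F) else 0) * _ + 0 * _ = _
      rw [if_pos h, one_mul, zero_mul, add_zero]
    · have h : ¬ ((i : ℕ) + 1 = m) := by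
        intro h'
        apply hi
        apply Fin.ext
        show (i : ℕ) = m - 1
        omega
      rw [if_neg hi]
      show (if (i : ℕ) + 1 = m then (1 : F) else 0) * _ + 0 * _ = _
      rw [if_neg h, zero_mul, zero_mul, add_zero]
  simp_rw [h1, Finset.sum_ite_eq', Finset.mem_univ, if_true]
  simp [aM]

/-- `hM (aM m) y = 0` if all `W'`-components of `y` vanish -/
theorem hM_aM_eq_zero (y : MI m → F) (hy : ∀ j : Fin m, y (Sum.inr (Sum.inr j)) = 0) :
    hM σ m (aM m) y = 0 := by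
  rcases Nat.eq_zero_or_pos m with h0 | h0
  · subst h0
    simp [hM, aM]
  · rw [hM_aM h0, hy, map_zero]

/-- the invariant of the vectors `v_d = uM ^ d *ᵥ aM`, `d < m` -/
theorem uM_pow_inv (κ : F) (d : ℕ) (hd : d < m) :
    ((uM σ m κ ^ d) *ᵥ aM m) (Sum.inr (Sum.inl ())) = 0 ∧
    (∀ j : Fin m, ((uM σ m κ ^ d) *ᵥ aM m) (Sum.inr (Sum.inr j)) = 0) ∧
    (∀ i : Fin m, (i : ℕ) + d + 1 < m → ((uM σ m κ ^ d) *ᵥ aM m) (Sum.inl i) = 0) ∧
    (∀ i : Fin m, (i : ℕ) + d + 1 = m → ((uM σ m κ ^ d) *ᵥ aM m) (Sum.inl i) = 1) := by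
  induction d with
  | zero =>
    rw [pow_zero, Matrix.one_mulVec]
    refine ⟨rfl, fun j => rfl, fun i hi => ?_, fun i hi => ?_⟩
    · have : ¬ ((i : ℕ) + 1 = m) := by omega
      simp [aM, this]
    · have : (i : ℕ) + 1 = m := by omega
      simp [aM, this]
  | succ d ih =>
    obtain ⟨hz, hW', hW0, hW1⟩ := ih (by omega)
    rw [pow_succ', ← Matrix.mulVec_mulVec]
    set v := (uM σ m κ ^ d) *ᵥ aM m with hv
    have h0m : 0 < m := by omega
    have hv0 : v (Sum.inl ⟨0, h0m⟩) = 0 := hW0 ⟨0, h0m⟩ (by simp; omega)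
    refine ⟨?_, fun j => ?_, fun i hi => ?_, fun i hi => ?_⟩
    · rw [uM_mulVec_z, dif_pos h0m, hv0, hz, add_zero]
    · rw [uM_mulVec_inr, hv0, hz]
      have : ∀ j' : Fin m, (if (j' : ℕ) ≤ j then (-1 : F) ^ ((j : ℕ) - j') * v (Sum.inr (Sum.inr j')) else 0) = 0 := by
        intro j'
        rw [hW' j', mul_zero, ite_self]
      simp_rw [this]
      simp
    · rw [uM_mulVec_inl, hW0 i (by omega)]
      have h1 : (i : ℕ) + 1 < m := by omega
      rw [dif_pos h1, hW0 ⟨(i : ℕ) + 1, h1⟩ (by simp; omega), add_zero]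
    · rw [uM_mulVec_inl, hW0 i (by omega)]
      have h1 : (i : ℕ) + 1 < m := by omega
      rw [dif_pos h1, hW1 ⟨(i : ℕ) + 1, h1⟩ (by simp; omega), zero_add]

theorem uM_gram0 (κ : F) (d : ℕ) (hd : d < m) :
    hM σ m (aM m) ((uM σ m κ ^ d) *ᵥ aM m) = 0 :=
  hM_aM_eq_zero _ (uM_pow_inv κ d hd).2.1

theorem uM_gramm (hσ2 : ∀ x, σ (σ x) = x) (κ : F) (hm : 1 ≤ m) :
    hM σ m (aM m) ((uM σ m κ ^ m) *ᵥ aM m) = κ * (-1) ^ (m - 1) := by
  obtain ⟨hz, hW', hW0, hW1⟩ := uM_pow_inv (σ := σ) (m := m) κ (m - 1) (by omega)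
  have hpow : uM σ m κ ^ m = uM σ m κ * uM σ m κ ^ (m - 1) := by
    rw [← pow_succ']
    congr 1
    omega
  rw [hM_aM hm, hpow, ← Matrix.mulVec_mulVec, uM_mulVec_inr, hz]
  have h0m : 0 < m := by omega
  have h1 : ((uM σ m κ ^ (m - 1)) *ᵥ aM m) (Sum.inl ⟨0, h0m⟩) = 1 := hW1 ⟨0, h0m⟩ (by
    show 0 + (m - 1) + 1 = m
    omega)
  have : ∀ j' : Fin m, (if (j' : ℕ) ≤ (⟨m - 1, by omega⟩ : Fin m) then
      (-1 : F) ^ (((⟨m - 1, by omega⟩ : Fin m) : ℕ) - j') * ((uM σ m κ ^ (m - 1)) *ᵥ aM m) (Sum.inr (Sum.inr j')) else 0) = 0 := by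
    intro j'
    rw [hW' j', mul_zero, ite_self]
  simp_rw [this]
  rw [h1]
  simp only [Finset.sum_const_zero, add_zero, sub_zero, mul_one, map_mul, map_pow, map_neg, map_one, hσ2]
  ring

end Cfsg.Agent.Lib.Helper61.SUReg
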