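import Mathlib
import Cfsg.Agent.Lib.Helper53.SUReg.Defs
import Cfsg.Agent.Lib.Helper53.SUReg.Defs2

set_option autoImplicit false

/-!
helper61, S2282-[MTRI]: nilpotency of `uM - 1` and cyclicity of `aM` in the model.
-/

namespace Cfsg.Agent.Lib.Helper61.SUReg

open Matrix Cfsg.Agent.Lib.Helper53.SUReg

variable {F : Type*} [Field F] {σ : F →+* F} {q : ℕ} {m : ℕ}

theorem rk_le (i : MI m) : rk m i ≤ 2 * m := by
  rcases i with i | ⟨⟨⟩⟩ | i
  · have := i.isLt
    simp only [rk]
    omega
  · simp only [rk]
    omega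
  · have := i.isLt
    simp only [rk]
    omega

theorem rk_injective : Function.Injective (rk m) := by
  intro i j h
  rcases i with i | ⟨⟨⟩⟩ | i <;> rcases j with j | ⟨⟨⟩⟩ | j <;> simp only [rk] at h
  · have hi := i.isLt
    have hj := j.isLt
    congr 1
    apply Fin.ext
    omega
  · have hi := i.isLt
    omega
  · have hi := i.isLt
    omega
  · have hj := j.isLt
    omega
  · rfl
  · omega
  · have hj := j.isLt
    omega
  · omega
  · congr 2
    apply Fin.ext
    omega

theorem rk_surj (r : ℕ) (hr : r ≤ 2 * m) : ∃ i : MI m, rk m i = r := by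
  rcases lt_trichotomy r m with h | h | h
  · refine ⟨Sum.inl ⟨m - 1 - r, by omega⟩, ?_⟩
    simp only [rk]
    omega
  · exact ⟨Sum.inr (Sum.inl ()), by simp only [rk]; omega⟩
  · refine ⟨Sum.inr (Sum.inr ⟨r - m - 1, by omega⟩), ?_⟩
    simp only [rk]
    omega

/-- the entries of `uM - 1` on or above the rank diagonal vanish -/
theorem N_low (κ : F) (i j : MI m) (h : rk m i ≤ rk m j) : (uM σ m κ - 1) i j = 0 := by
  rw [Matrix.sub_apply, Matrix.one_apply]
  rcases i with i | ⟨⟨⟩⟩ | i <;> rcases j with j | ⟨⟨⟩⟩ | j <;> simp only [rk] at h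
  · have hi := i.isLt
    have hj := j.isLt
    have hji : (j : ℕ) ≤ i := by omega
    by_cases hij : i = j
    · subst hij
      simp [uM]
    · have h2 : ¬ ((i : ℕ) + 1 = j) := by omega
      simp [uM, hij, h2]
  · simp [uM]
  · simp [uM]
  · have hj := j.isLt
    omega
  · simp [uM]
  · simp [uM]
  · have hj := j.isLt
    omega
  · omega
  · have hij : (i : ℕ) ≤ j := by omega
    by_cases hij' : i = j
    · subst hij'
      simp [uM]
    · have h2 : ¬ ((j : ℕ) ≤ i) := by
        intro h'
        apply hij'
        apply Fin.ext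
        omega
      have h3 : ¬ (j ≤ i) := h2
      simp [uM, hij', h3]

/-- the entries of `uM - 1` just below the rank diagonal do not vanish -/
theorem N_sub (κ : F) (i j : MI m) (h : rk m i = rk m j + 1) : (uM σ m κ - 1) i j ≠ 0 := by
  rw [Matrix.sub_apply, Matrix.one_apply]
  rcases i with i | ⟨⟨⟩⟩ | i <;> rcases j with j | ⟨⟨⟩⟩ | j <;> simp only [rk] at h
  · have hi := i.isLt
    have hj := j.isLt
    have hji : (i : ℕ) + 1 = j := by omega
    have hij : i ≠ j := by
      intro h'
      rw [h'] at hji
      omega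
    simp [uM, hij, hji]
  · have hi := i.isLt
    omega
  · have hi := i.isLt
    omega
  · have hj := j.isLt
    have hj0 : (j : ℕ) = 0 := by omega
    simp [uM, hj0]
  · omega
  · omega
  · have hj := j.isLt
    omega
  · have hi0 : (i : ℕ) = 0 := by omega
    simp [uM, hi0]
  · have hij : (i : ℕ) = j + 1 := by omega
    have hij' : i ≠ j := by
      intro h'
      rw [h'] at hij
      omega
    have h2 : (j : ℕ) ≤ i := by omega
    have h3 : j ≤ i := h2
    have h4 : (i : ℕ) - j = 1 := by omega
    simp [uM, hij', h3, h4]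

/-- the entries of `(uM - 1) ^ k` vanish unless `rk j + k ≤ rk i` -/
theorem N_pow_low (κ : F) (k : ℕ) (i j : MI m) (h : ¬ (rk m j + k ≤ rk m i)) :
    ((uM σ m κ - 1) ^ k) i j = 0 := by
  induction k generalizing i j with
  | zero =>
    rw [pow_zero, Matrix.one_apply, if_neg]
    rintro rfl
    exact h (by omega)
  | succ k ih =>
    rw [pow_succ', Matrix.mul_apply]
    apply Finset.sum_eq_zero
    intro l _
    by_cases hl : rk m i ≤ rk m l
    · rw [N_low κ i l hl, zero_mul]
    · rw [ih l j (by omega), mul_zero]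

/-- the entries of `(uM - 1) ^ k` on the `k`-th rank subdiagonal do not vanish -/
theorem N_pow_diag (κ : F) (k : ℕ) (i j : MI m) (h : rk m i = rk m j + k) :
    ((uM σ m κ - 1) ^ k) i j ≠ 0 := by
  induction k generalizing i j with
  | zero =>
    have : i = j := rk_injective (by omega)
    rw [pow_zero, this, Matrix.one_apply_eq]
    exact one_ne_zero
  | succ k ih =>
    obtain ⟨l, hl⟩ := rk_surj (m := m) (rk m j + k) (by have := rk_le i; omega)
    rw [pow_succ', Matrix.mul_apply, Finset.sum_eq_single l]
    · exact mul_ne_zero (N_sub κ i l (by omega)) (ih l j hl)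
    · intro l' _ hl'
      by_cases h1 : rk m i ≤ rk m l'
      · rw [N_low κ i l' h1, zero_mul]
      · by_cases h2 : rk m j + k ≤ rk m l'
        · exfalso
          apply hl'
          apply rk_injective
          omega
        · rw [N_pow_low κ k l' j h2, mul_zero]
    · intro h'
      exact absurd (Finset.mem_univ _) h'

theorem uM_nil (κ : F) : (uM σ m κ - 1) ^ (2 * m + 1) = 0 := by
  ext i j
  rw [Matrix.zero_apply]
  apply N_pow_low
  have := rk_le i
  omega

/-- `aM` is the basis vector of rank `0` -/
theorem aM_apply (hm : 1 ≤ m) (i : MI m) : (aM m : MI m → F) i = if rk m i = 0 then 1 else 0 := by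
  rcases i with i | ⟨⟨⟩⟩ | i
  · have hi := i.isLt
    by_cases h : (i : ℕ) + 1 = m
    · have : m - 1 - (i : ℕ) = 0 := by omega
      simp [aM, rk, h, this]
    · have : ¬ (m - 1 - (i : ℕ) = 0) := by omega
      simp only [aM, rk, h, this, if_false]
  · have : ¬ (m = 0) := by omega
    simp only [aM, rk, this, if_false]
  · simp [aM, rk]

/-- the components of `(uM - 1) ^ k *ᵥ aM` -/
theorem N_pow_aM (κ : F) (hm : 1 ≤ m) (k : ℕ) (i : MI m) :
    (((uM σ m κ - 1) ^ k) *ᵥ aM m) i = ((uM σ m κ - 1) ^ k) i (Sum.inl ⟨m - 1, by omega⟩) := by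
  rw [Matrix.mulVec, dotProduct, Finset.sum_eq_single (Sum.inl ⟨m - 1, by omega⟩ : MI m)]
  · rw [aM_apply hm, if_pos, mul_one]
    simp only [rk]
    omega
  · intro j _ hj
    rw [aM_apply hm, if_neg, mul_zero]
    intro h0
    apply hj
    apply rk_injective
    rw [h0]
    simp only [rk]
    omega
  · intro h'
    exact absurd (Finset.mem_univ _) h'

theorem uM_span (κ : F) (hm : 1 ≤ m) (v : MI m → F) :
    v ∈ Submodule.span F (Set.range fun k : Fin (2 * m + 1) => (uM σ m κ ^ (k : ℕ)) *ᵥ aM m) := by
  set S := Submodule.span F (Set.range fun k : Fin (2 * m + 1) => (uM σ m κ ^ (k : ℕ)) *ᵥ aM m) with hS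
  set N := uM σ m κ - 1 with hN
  have hj0 : rk m (Sum.inl ⟨m - 1, by omega⟩ : MI m) = 0 := by
    simp only [rk]
    omega
  -- the vectors `N ^ j * uM ^ k * a`, `j + k ≤ 2m`, lie in `S`
  have hmem : ∀ j k : ℕ, j + k ≤ 2 * m → ((N ^ j * uM σ m κ ^ k) *ᵥ aM m) ∈ S := by
    intro j
    induction j with
    | zero =>
      intro k hk
      rw [pow_zero, one_mul]
      exact Submodule.subset_span ⟨⟨k, by omega⟩, rfl⟩
    | succ j ih =>
      intro k hk
      have : N ^ (j + 1) * uM σ m κ ^ k = N ^ j * uM σ m κ ^ (k + 1) - N ^ j * uM σ m κ ^ k := by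
        rw [pow_succ, pow_succ', hN]
        noncomm_ring
      rw [this, Matrix.sub_mulVec]
      exact S.sub_mem (ih (k + 1) (by omega)) (ih k (by omega))
  have hv : ∀ r : ℕ, r ≤ 2 * m → (N ^ r) *ᵥ aM m ∈ S := by
    intro r hr
    have := hmem r 0 (by omega)
    rwa [pow_zero, mul_one] at this
  -- downward induction on the rank
  have key : ∀ d : ℕ, ∀ w : MI m → F, (∀ i, rk m i + d < 2 * m + 1 → w i = 0) → w ∈ S := by
    intro d
    induction d with
    | zero =>
      intro w hw
      have : w = 0 := by
        funext i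
        exact hw i (by have := rk_le i; omega)
      rw [this]
      exact S.zero_mem
    | succ d ih =>
      intro w hw
      by_cases hd : d ≤ 2 * m
      · set r := 2 * m - d with hr
        obtain ⟨i₀, hi₀⟩ := rk_surj (m := m) r (by omega)
        set vr := (N ^ r) *ᵥ aM m with hvr
        have hvr0 : vr i₀ ≠ 0 := by
          rw [hvr, N_pow_aM κ hm]
          exact N_pow_diag κ r i₀ _ (by rw [hj0, hi₀]; omega)
        have hvrlow : ∀ i, rk m i < r → vr i = 0 := by
          intro i hi
          rw [hvr, N_pow_aM κ hm]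
          exact N_pow_low κ r i _ (by rw [hj0]; omega)
        have hw' : w - (w i₀ / vr i₀) • vr ∈ S := by
          apply ih
          intro i hi
          rw [Pi.sub_apply, Pi.smul_apply, smul_eq_mul]
          by_cases hir : rk m i = r
          · have : i = i₀ := rk_injective (by rw [hir, hi₀])
            rw [this, div_mul_cancel₀ _ hvr0, sub_self]
          · rw [hw i (by omega), hvrlow i (by omega), mul_zero, sub_zero]
        have : w = (w - (w i₀ / vr i₀) • vr) + (w i₀ / vr i₀) • vr := by
          rw [sub_add_cancel]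
        rw [this]
        exact S.add_mem hw' (S.smul_mem _ (hv r (by omega)))
      · apply ih
        intro i hi
        exact hw i (by omega)
  exact key (2 * m + 1) v (fun i hi => by omega)

end Cfsg.Agent.Lib.Helper61.SUReg
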