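/-
helper61 (project SPW = S2347, helper39): shared lemmas for the modules [W-SUM], [W-LI], [W-DIM]
(character sums over `F^n`, traces of the Weyl operators and of the parity operator).
-/
import Mathlib
import Cfsg.Agent.Lib.Helper39.SPW.Defs
import Cfsg.Agent.Lib.Helper39.SPW.WRel

set_option autoImplicit false

namespace Cfsg.Agent.Lib.Helper61.SPW

open Matrix Module Cfsg.Agent.Lib.Helper39.SPW
open scoped Classical

variable {F : Type*} [Field F] [Fintype F] {n : ℕ}

/-- a finite field of odd order has `2 ≠ 0` -/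
theorem two_ne_zero_of_odd (hodd : Odd (Fintype.card F)) : (2 : F) ≠ 0 := by
  intro h
  have h2 : ringChar F = 2 := by
    have := CharP.ringChar_of_prime_eq_zero Nat.prime_two (R := F) (by exact_mod_cast h)
    exact this
  have := FiniteField.even_card_of_char_two h2
  rw [Nat.odd_iff] at hodd
  omega

/-- the additive character `a ↦ ψ (a ⬝ᵥ y)` of `F^n` -/
noncomputable def dotChar (ψ : AddChar F ℂ) (y : Fin n → F) : AddChar (Fin n → F) ℂ where
  toFun a := ψ (a ⬝ᵥ y)
  map_zero_eq_one' := by simp
  map_add_eq_mul' a b := by rw [add_dotProduct, AddChar.map_add_eq_mul]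

theorem dotChar_apply (ψ : AddChar F ℂ) (y a : Fin n → F) : dotChar ψ y a = ψ (a ⬝ᵥ y) := rfl

theorem dotChar_ne_one (ψ : AddChar F ℂ) (hψ : ψ ≠ 1) (y : Fin n → F) (hy : y ≠ 0) : dotChar ψ y ≠ 1 := by
  obtain ⟨t, ht⟩ := AddChar.ne_one_iff.mp hψ
  obtain ⟨i, hi⟩ := Function.ne_iff.mp hy
  rw [AddChar.ne_one_iff]
  refine ⟨Pi.single i (t * (y i)⁻¹), ?_⟩
  rw [dotChar_apply, single_dotProduct, mul_assoc, inv_mul_cancel₀ hi, mul_one]
  exact ht

/-- the orthogonality relation on `F^n` -/
theorem sum_char_dot (ψ : AddChar F ℂ) (hψ : ψ ≠ 1) (y : Fin n → F) :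
    ∑ a : Fin n → F, ψ (a ⬝ᵥ y) = if y = 0 then (Fintype.card F : ℂ) ^ n else 0 := by
  split_ifs with hy
  · subst hy
    simp
  · have h := AddChar.sum_eq_zero_iff_ne_zero.mpr (dotChar_ne_one ψ hψ y hy)
    simpa [dotChar_apply] using h

/-- the trace of an endomorphism of the space of functions on `F^n`, in the basis of delta functions -/
theorem trace_eq_sum (T : Module.End ℂ (Fn n F)) :
    LinearMap.trace ℂ (Fn n F) T = ∑ x : Fin n → F, T (Pi.single x 1) x := by
  rw [LinearMap.trace_eq_matrix_trace ℂ (Pi.basisFun ℂ (Fin n → F)) T, Matrix.trace]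
  apply Finset.sum_congr rfl
  intro x _
  rw [Matrix.diag_apply, LinearMap.toMatrix_apply]
  simp [Pi.basisFun_apply]

/-- the trace of the parity operator -/
theorem trace_par' (h2 : (2 : F) ≠ 0) :
    LinearMap.trace ℂ (Fn n F) (par : Module.End ℂ (Fn n F)) = 1 := by
  rw [trace_eq_sum]
  have key : ∀ x : Fin n → F, (par (Pi.single x (1 : ℂ) : Fn n F) : Fn n F) x = if x = 0 then 1 else 0 := by
    intro x
    rw [par_apply]
    by_cases hx : x = 0
    · subst hx
      simp
    · rw [if_neg hx, Pi.single_apply, if_neg]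
      intro h
      apply hx
      funext i
      have hi := congrFun h i
      simp only [Pi.neg_apply, Pi.zero_apply] at hi ⊢
      have : (2 : F) * x i = 0 := by linear_combination -hi
      rcases mul_eq_zero.mp this with h' | h'
      · exact absurd h' h2
      · exact h'
  simp_rw [key]
  simp

/-- the trace of the Weyl operator of a non-zero vector -/
theorem trace_weyl' (ψ : AddChar F ℂ) (hψ : ψ ≠ 1) (v : Fin n ⊕ Fin n → F) (hv : v ≠ 0) :
    LinearMap.trace ℂ (Fn n F) (weyl ψ v) = 0 := by
  rw [trace_eq_sum]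
  by_cases hb : v ∘ Sum.inr = 0
  · -- `b = 0`, so `a ≠ 0`
    have ha : v ∘ Sum.inl ≠ 0 := by
      intro ha
      apply hv
      funext i
      rcases i with i | i
      · exact congrFun ha i
      · exact congrFun hb i
    have key : ∀ x : Fin n → F, (weyl ψ v (Pi.single x (1 : ℂ) : Fn n F)) x = ψ (x ⬝ᵥ (v ∘ Sum.inl)) := by
      intro x
      rw [weyl_apply, hb, add_zero, Pi.single_eq_same, mul_one]
      congr 1
      simp only [phase, hb, dotProduct_zero, mul_zero, add_zero]
      exact dotProduct_comm _ _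
    simp_rw [key]
    rw [sum_char_dot ψ hψ, if_neg ha]
  · apply Finset.sum_eq_zero
    intro x _
    rw [weyl_apply, Pi.single_apply, if_neg, mul_zero]
    intro h
    apply hb
    have : x + v ∘ Sum.inr = x + 0 := by rw [add_zero]; exact h
    exact add_left_cancel this

/-- the trace of the identity -/
theorem trace_one' : LinearMap.trace ℂ (Fn n F) (1 : Module.End ℂ (Fn n F)) = (Fintype.card F : ℂ) ^ n := by
  rw [trace_eq_sum]
  simp

end Cfsg.Agent.Lib.Helper61.SPW
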