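/-
helper61 (project SPW = S2347, helper39): module [W-LI] `linearIndependent_weyl` (the trace of a Weyl operator is proved in
`SpwKit`, so this file does not depend on [W-TR]).
-/
import Mathlib
import Cfsg.Agent.Lib.Helper39.SPW.Defs
import Cfsg.Agent.Lib.Helper39.SPW.WRel
import Cfsg.Agent.Lib.Helper61.SpwKit

set_option autoImplicit false

namespace Cfsg.Agent.Lib.Helper39.SPW

open Matrix Module Cfsg.Agent.Lib.Helper5 Cfsg.Agent.Lib.Helper61.SPW

variable {F : Type*} [Field F] [Fintype F] {n : ℕ}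

/-- **[W-LI]** the Weyl operators are linearly independent -/
theorem linearIndependent_weyl (h2 : (2 : F) ≠ 0) (ψ : AddChar F ℂ) (hψ : ψ ≠ 1) :
    LinearIndependent ℂ (fun v : Fin n ⊕ Fin n → F => weyl ψ v) := by
  rw [Fintype.linearIndependent_iff]
  intro c hc u
  have h1 : (∑ v, c v • weyl ψ v) * weyl ψ (-u) = 0 := by rw [hc, zero_mul]
  rw [Finset.sum_mul] at h1
  have h2' : ∀ v : Fin n ⊕ Fin n → F, (c v • weyl ψ v) * weyl ψ (-u)
      = (c v * ψ (2⁻¹ * sympForm (Fin n) F v (-u))) • weyl ψ (v - u) := by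
    intro v
    rw [smul_mul_assoc, weyl_mul h2, smul_smul, sub_eq_add_neg]
  simp_rw [h2'] at h1
  have h3 := congrArg (LinearMap.trace ℂ (Fn n F)) h1
  rw [map_sum, map_zero] at h3
  simp_rw [map_smul] at h3
  rw [Finset.sum_eq_single u] at h3
  · rw [sub_self, weyl_zero, trace_one'] at h3
    have hs : sympForm (Fin n) F u (-u) = 0 := by
      rw [sympForm_eq_dot]
      have e1 : (-u) ∘ Sum.inl = -(u ∘ Sum.inl) := rfl
      have e2 : (-u) ∘ Sum.inr = -(u ∘ Sum.inr) := rfl
      rw [e1, e2, dotProduct_neg, dotProduct_neg, dotProduct_comm (u ∘ Sum.inr)]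
      ring
    have hψ1 : ψ (2⁻¹ * sympForm (Fin n) F u (-u)) = 1 := by
      rw [hs, mul_zero, AddChar.map_zero_eq_one]
    rw [hψ1, mul_one, smul_eq_mul] at h3
    rcases mul_eq_zero.mp h3 with h | h
    · exact h
    · exfalso
      exact (pow_ne_zero n (Nat.cast_ne_zero.mpr Fintype.card_ne_zero)) h
  · intro v _ hv
    rw [trace_weyl' ψ hψ (v - u) (sub_ne_zero.mpr hv), smul_zero]
  · intro h
    exact absurd (Finset.mem_univ _) h

end Cfsg.Agent.Lib.Helper39.SPW
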