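import Mathlib
import Cfsg.Agent.Lib.Helper37.BHRSU5.Defs

/-!
# BHRSU5-[B1] (helper37's sheet for S5796): the centraliser of `Zc` is `K0 = F4c[Zc]`, and
`K0 = {Σ_{i<5} cᵢ Zcⁱ}`.
-/

set_option autoImplicit false

namespace Cfsg.Agent.Lib.Helper61.Bhrsu5

open Cfsg.Agent.Lib.Helper37.BHRSU5
open Cfsg.Agent.Lib.Helper56.F4 (w v)
open scoped Matrix

set_option maxRecDepth 100000 in
/-- own copy of the concrete fact `g₁(Zc) = 0` -/
theorem g1_Zc' : g1 Zc = 0 := by
  unfold g1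
  decide

set_option maxRecDepth 100000 in
theorem Cci_mul_Cc' : Cci * Cc = 1 := by decide

set_option maxRecDepth 100000 in
theorem Cc_mul_Cci' : Cc * Cci = 1 := by decide

set_option maxRecDepth 100000 in
theorem Cc_col' (j : Fin 5) :
    (fun i => Cc i j) = (Zc ^ (j : ℕ)) *ᵥ (Pi.single 0 1 : Fin 5 → F4c) := by
  revert j
  decide

open Polynomial in
/-- the polynomial `g₁` -/
noncomputable def G1 : Polynomial F4c :=
  Polynomial.X ^ 5 + Polynomial.C (v : F4c) * Polynomial.X ^ 4 + Polynomial.X ^ 3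
    + Polynomial.X ^ 2 + Polynomial.C (w : F4c) * Polynomial.X + 1

theorem G1_monic : G1.Monic := by
  unfold G1
  monicity!

theorem G1_natDegree : G1.natDegree = 5 := by
  unfold G1
  compute_degree!

theorem aeval_G1 {A : Type*} [Ring A] [Algebra F4c A] (x : A) : Polynomial.aeval x G1 = g1 x := by
  simp [G1, g1, Algebra.smul_def]

/-- every element of `K0` is `Σ_{i<5} cᵢ Zcⁱ` -/
theorem exists_coeffs_of_mem_K0 (M : M5) (hM : M ∈ K0) :
    ∃ c : Fin 5 → F4c, M = ∑ i : Fin 5, c i • Zc ^ (i : ℕ) := by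
  unfold K0 at hM
  rw [Algebra.adjoin_singleton_eq_range_aeval] at hM
  obtain ⟨p, rfl⟩ := hM
  set r := p %ₘ G1 with hr
  have h1 : Polynomial.aeval Zc p = Polynomial.aeval Zc r := by
    have h2 := Polynomial.modByMonic_add_div p G1
    conv_lhs => rw [← h2]
    rw [map_add, map_mul, aeval_G1, g1_Zc', zero_mul, add_zero]
  have hdeg : r.natDegree < 5 := by
    have h3 := Polynomial.natDegree_modByMonic_lt p G1_monic (by
      intro h
      have := G1_natDegree
      rw [h] at this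
      simp at this)
    rw [G1_natDegree] at h3
    exact h3
  refine ⟨fun i => r.coeff (i : ℕ), ?_⟩
  change Polynomial.aeval Zc p = _
  rw [h1]
  conv_lhs => rw [Polynomial.as_sum_range' r 5 hdeg]
  rw [map_sum, Fin.sum_univ_eq_sum_range (fun i => r.coeff i • Zc ^ i) 5]
  refine Finset.sum_congr rfl fun i _ => ?_
  rw [← Polynomial.C_mul_X_pow_eq_monomial, map_mul, Polynomial.aeval_C, map_pow, Polynomial.aeval_X,
    Algebra.smul_def]

theorem Zc_pow_mem_K0 (n : ℕ) : Zc ^ n ∈ K0 :=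
  Subalgebra.pow_mem _ (Algebra.subset_adjoin (Set.mem_singleton _)) n

theorem sum_mem_K0 (c : Fin 5 → F4c) : (∑ i : Fin 5, c i • Zc ^ (i : ℕ)) ∈ K0 :=
  Subalgebra.sum_mem _ fun i _ => Subalgebra.smul_mem _ (Zc_pow_mem_K0 _) _

end Cfsg.Agent.Lib.Helper61.Bhrsu5

namespace Cfsg.Agent.Lib.Helper37.BHRSU5

open Cfsg.Agent.Lib.Helper61.Bhrsu5
open Cfsg.Agent.Lib.Helper56.F4 (w v)
open scoped Matrix

/-- BHRSU5-[B1]: the elements of `K0` are the `Σ cᵢ Zcⁱ`, `i < 5`. -/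
theorem mem_K0_iff (M : M5) : M ∈ K0 ↔ ∃ c : Fin 5 → F4c, M = ∑ i : Fin 5, c i • Zc ^ (i : ℕ) := by
  constructor
  · exact exists_coeffs_of_mem_K0 M
  · rintro ⟨c, rfl⟩
    exact sum_mem_K0 c

/-- BHRSU5-[B1]: the centraliser of `Zc` in `M_5(F_4)` is `K0`. -/
theorem mem_K0_of_commute (M : M5) (h : M * Zc = Zc * M) : M ∈ K0 := by
  set e0 : Fin 5 → F4c := Pi.single 0 1 with he0
  set a : Fin 5 → F4c := Cci *ᵥ (M *ᵥ e0) with ha
  set N : M5 := ∑ j : Fin 5, a j • Zc ^ (j : ℕ) with hN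
  have hNK : N ∈ K0 := sum_mem_K0 a
  -- powers commute
  have hMpow : ∀ n : ℕ, M * Zc ^ n = Zc ^ n * M := by
    intro n
    exact (Commute.pow_right (show Commute M Zc from h) n).eq
  have hNZ : N * Zc = Zc * N := by
    rw [hN, Finset.sum_mul, Finset.mul_sum]
    refine Finset.sum_congr rfl fun j _ => ?_
    rw [Matrix.smul_mul, Matrix.mul_smul, ← pow_succ, ← pow_succ']
  have hNpow : ∀ n : ℕ, N * Zc ^ n = Zc ^ n * N := by
    intro n
    exact (Commute.pow_right (show Commute N Zc from hNZ) n).eq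
  -- N e0 = M e0
  have hNe : N *ᵥ e0 = M *ᵥ e0 := by
    have h1 : N *ᵥ e0 = Cc *ᵥ a := by
      rw [hN, Matrix.sum_mulVec]
      ext i
      rw [Finset.sum_apply, Matrix.mulVec, dotProduct]
      refine Finset.sum_congr rfl fun j _ => ?_
      rw [Matrix.smul_mulVec, Pi.smul_apply, ← Cc_col' j, smul_eq_mul, mul_comm]
    rw [h1, ha, Matrix.mulVec_mulVec, Cc_mul_Cci', Matrix.one_mulVec]
  -- M and N agree on the columns of Cc
  have hcols : M * Cc = N * Cc := by
    ext i j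
    have hM1 : (M * Cc) i j = (M *ᵥ (fun i' => Cc i' j)) i := by
      rw [Matrix.mul_apply, Matrix.mulVec, dotProduct]
    have hN1 : (N * Cc) i j = (N *ᵥ (fun i' => Cc i' j)) i := by
      rw [Matrix.mul_apply, Matrix.mulVec, dotProduct]
    rw [hM1, hN1, Cc_col' j, Matrix.mulVec_mulVec, Matrix.mulVec_mulVec, hMpow, hNpow,
      ← Matrix.mulVec_mulVec, ← Matrix.mulVec_mulVec, hNe]
  have hMN : M = N := by
    have := congrArg (· * Cci) hcols
    simpa [Matrix.mul_assoc, Cc_mul_Cci'] using this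
  rw [hMN]
  exact hNK

end Cfsg.Agent.Lib.Helper37.BHRSU5
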