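import Mathlib
import Cfsg.Agent.Lib.Helper37.BHRSU5.Defs
import Cfsg.Agent.Lib.Helper61.Bhrsu5B1

/-!
# BHRSU5-[B2] (helper37's sheet for S5796): the unitary elements of determinant 1 of `K0 = F4c[Zc]`
are the powers of `Zc`.
-/

set_option autoImplicit false

namespace Cfsg.Agent.Lib.Helper61.Bhrsu5

open Cfsg Cfsg.Geo Cfsg.Agent.Lib.Helper37.BHRSU5
open Cfsg.Agent.Lib.Helper56.F4 (w v)
open scoped Matrix

/-- the element `c₀ + c₁ Zc + … + c₄ Zc⁴` -/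
def lin (c0 c1 c2 c3 c4 : F4c) : M5 :=
  c0 • (1 : M5) + c1 • Zc + c2 • Zc ^ 2 + c3 • Zc ^ 3 + c4 • Zc ^ 4

set_option maxRecDepth 100000 in
/-- the 33 unitary elements of `K0`, by exhaustion over the 1024 coefficient tuples -/
theorem unitary_lin : ∀ c0 c1 c2 c3 c4 : F4c, IsU (lin c0 c1 c2 c3 c4) →
    ∃ a : Fin 11, ∃ b : Fin 3, lin c0 c1 c2 c3 c4 = ((w : F4c) ^ (b : ℕ)) • Zc ^ (a : ℕ) := by
  unfold lin
  decide +kernel

set_option maxRecDepth 100000 in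
theorem Zc_pow_eleven' : Zc ^ 11 = 1 := by decide

theorem F4_pow_three : ∀ x : F4c, x ≠ 0 → x ^ 3 = 1 := by decide

/-- `det Zc = 1` (from `Zc¹¹ = 1` and `x³ = 1` in `F_4^*`) -/
theorem det_Zc' : Zc.det = 1 := by
  have h11 : Zc.det ^ 11 = 1 := by
    rw [← Matrix.det_pow, Zc_pow_eleven', Matrix.det_one]
  have hne : Zc.det ≠ 0 := by
    intro h
    rw [h] at h11
    simp at h11
  have h3 : Zc.det ^ 3 = 1 := F4_pow_three _ hne
  calc Zc.det = Zc.det ^ 12 * (Zc.det ^ 11)⁻¹ := by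
        rw [show (12 : ℕ) = 11 + 1 by norm_num, pow_succ, mul_comm (Zc.det ^ 11), mul_assoc,
          mul_inv_cancel₀ (by rw [h11]; exact one_ne_zero), mul_one]
    _ = 1 := by
        rw [h11, show (12 : ℕ) = 3 * 4 by norm_num, pow_mul, h3]; simp

theorem w_pow_det : ∀ b : Fin 3, (((w : F4c) ^ (b : ℕ)) ^ 5 = 1) → b = 0 := by decide

theorem lin_eq_sum (c : Fin 5 → F4c) :
    (∑ i : Fin 5, c i • Zc ^ (i : ℕ)) = lin (c 0) (c 1) (c 2) (c 3) (c 4) := by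
  rw [Fin.sum_univ_five]
  simp [lin]

end Cfsg.Agent.Lib.Helper61.Bhrsu5

namespace Cfsg.Agent.Lib.Helper37.BHRSU5

open Cfsg Cfsg.Geo Cfsg.Agent.Lib.Helper61.Bhrsu5
open Cfsg.Agent.Lib.Helper56.F4 (w v)
open scoped Matrix

/-- BHRSU5-[B2]: a unitary element of determinant 1 of `K0` is a power of `Zc`. -/
theorem unitary_mem_K0 (hK0 : IsFieldSubalgebra 5 K0) (k : M5) (hk : k ∈ K0) (hu : IsU k)
    (hd : k.det = 1) : ∃ a : ℕ, k = Zc ^ a := by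
  obtain ⟨c, rfl⟩ := (mem_K0_iff k).mp hk
  rw [lin_eq_sum] at hu hd ⊢
  obtain ⟨a, b, hab⟩ := unitary_lin _ _ _ _ _ hu
  rw [hab] at hd ⊢
  rw [Matrix.det_smul, Matrix.det_pow, det_Zc', one_pow, mul_one, Fintype.card_fin] at hd
  have hb := w_pow_det b hd
  refine ⟨(a : ℕ), ?_⟩
  rw [hb]
  simp

end Cfsg.Agent.Lib.Helper37.BHRSU5
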