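import Mathlib
import Cfsg.Agent.Lib.Helper37.BHRSU5.Defs
import Cfsg.Agent.Lib.Helper5.UnitaryGroup
import Cfsg.Agent.Lib.Helper13.GU
import Cfsg.Agent.Lib.Helper73.Bhrsu5CFacts
import Cfsg.Agent.Lib.Helper61.Bhrsu5B1
import Cfsg.Agent.Lib.Helper61.Bhrsu5B2

/-!
# BHRSU5-[B3] (helper37's sheet for S5796): `N(K0) ∩ SU_5(2) ≤ ⟨ZG, PG⟩`.
-/

set_option autoImplicit false

namespace Cfsg.Agent.Lib.Helper61.Bhrsu5

open Cfsg Cfsg.Geo Cfsg.Agent.Lib.Helper37.BHRSU Cfsg.Agent.Lib.Helper37.BHRSU5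
open Cfsg.Agent.Lib.Helper56.F4 (w v)
open scoped MatrixGroups Matrix

set_option maxRecDepth 100000 in
/-- the roots of `g₁` in `K0`, by exhaustion over the 1024 coefficient tuples -/
theorem roots_lin : ∀ c0 c1 c2 c3 c4 : F4c, g1 (lin c0 c1 c2 c3 c4) = 0 →
    ∃ i : Fin 5, lin c0 c1 c2 c3 c4 = Zc ^ (4 ^ (i : ℕ)) := by
  unfold lin g1
  decide +kernel

/-- own copy of `g ∈ SU ↔ IsU g ∧ det g = 1` -/
theorem mem_SUg_iff' (g : GL (Fin 5) F4c) :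
    g ∈ SUg 5 F4c 2 ↔ IsU (g : M5) ∧ (g : M5).det = 1 := by
  have hF : Fintype.card F4c = 2 ^ 2 := by decide
  have h1 : g ∈ GU 5 F4c 2 ↔ IsU (g : M5) := by
    rw [Cfsg.Agent.Lib.Helper13.mem_GU_iff]
    exact (Cfsg.Agent.Lib.Helper5.isUnitaryMat_iff_preserves hF (g : M5)).symm
  have h2 : g ∈ specialLinear (Fin 5) F4c ↔ (g : M5).det = 1 := by
    unfold specialLinear
    rw [MonoidHom.mem_ker]
    constructor
    · intro h
      have := congrArg (fun u : F4cˣ => (u : F4c)) h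
      simpa using this
    · intro h
      apply Units.ext
      simpa using h
  rw [Subgroup.mem_inf, h1, h2]

/-- conjugation commutes with `g₁` -/
theorem g1_conj (h : GL (Fin 5) F4c) (x : M5) :
    g1 ((h : M5) * x * ((h⁻¹ : GL (Fin 5) F4c) : M5)) = (h : M5) * g1 x * ((h⁻¹ : GL (Fin 5) F4c) : M5) := by
  have hp : ∀ n : ℕ, ((h : M5) * x * ((h⁻¹ : GL (Fin 5) F4c) : M5)) ^ n
      = (h : M5) * x ^ n * ((h⁻¹ : GL (Fin 5) F4c) : M5) := fun n => Units.conj_pow h x n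
  have h1 : (h : M5) * ((h⁻¹ : GL (Fin 5) F4c) : M5) = 1 := by
    rw [← Units.val_mul, mul_inv_cancel, Units.val_one]
  unfold g1
  rw [hp, hp, hp, hp]
  simp only [Matrix.mul_add, Matrix.add_mul, Matrix.mul_smul, Matrix.smul_mul, Matrix.mul_one, h1]

theorem PG_mul_ZG : PG * ZG = ZG ^ 4 * PG := by
  apply Units.ext
  rw [Units.val_mul, Units.val_mul, Units.val_pow_eq_pow_val]
  exact Pc_mul_Zc

theorem PG_pow_mul_ZG (i : ℕ) : PG ^ i * ZG = ZG ^ (4 ^ i) * PG ^ i := by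
  induction i with
  | zero => simp
  | succ n ih =>
    have hc : ∀ m : ℕ, PG * ZG ^ m = (ZG ^ 4) ^ m * PG := by
      intro m
      induction m with
      | zero => simp
      | succ m ihm =>
        rw [pow_succ, ← mul_assoc, ihm, mul_assoc, PG_mul_ZG, ← mul_assoc, ← pow_succ]
    calc PG ^ (n + 1) * ZG = PG * (PG ^ n * ZG) := by rw [pow_succ', mul_assoc]
      _ = PG * (ZG ^ (4 ^ n) * PG ^ n) := by rw [ih]
      _ = (PG * ZG ^ (4 ^ n)) * PG ^ n := by rw [mul_assoc]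
      _ = (ZG ^ 4) ^ (4 ^ n) * PG * PG ^ n := by rw [hc]
      _ = ZG ^ (4 ^ (n + 1)) * PG ^ (n + 1) := by
          rw [← pow_mul, mul_assoc, ← pow_succ', ← pow_succ']

end Cfsg.Agent.Lib.Helper61.Bhrsu5

namespace Cfsg.Agent.Lib.Helper37.BHRSU5

open Cfsg Cfsg.Geo Cfsg.Agent.Lib.Helper37.BHRSU Cfsg.Agent.Lib.Helper61.Bhrsu5
open Cfsg.Agent.Lib.Helper56.F4 (w v)
open scoped MatrixGroups Matrix

/-- BHRSU5-[B3]: `N(K0) ∩ SU_5(2) ≤ ⟨ZG, PG⟩`. -/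
theorem normalizer_K0_le (hK0 : IsFieldSubalgebra 5 K0) :
    subalgebraNormalizer K0 ⊓ SUg 5 F4c 2 ≤ Subgroup.closure {ZG, PG} := by
  intro h hh
  obtain ⟨hN, hSU⟩ := Subgroup.mem_inf.mp hh
  -- h Zc h⁻¹ ∈ K0 and is a root of g1
  have hZK : Zc ∈ K0 := Algebra.subset_adjoin (Set.mem_singleton _)
  have hconjK : (h : M5) * Zc * ((h⁻¹ : GL (Fin 5) F4c) : M5) ∈ K0 := (hN Zc).mp hZK
  have hroot : g1 ((h : M5) * Zc * ((h⁻¹ : GL (Fin 5) F4c) : M5)) = 0 := by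
    rw [g1_conj, g1_Zc, Matrix.mul_zero, Matrix.zero_mul]
  obtain ⟨c, hc⟩ := (mem_K0_iff _).mp hconjK
  rw [lin_eq_sum] at hc
  rw [hc] at hroot
  obtain ⟨i, hi⟩ := roots_lin _ _ _ _ _ hroot
  rw [← hc] at hi
  -- in GL: h ZG h⁻¹ = ZG ^ (4 ^ i)
  have hG : h * ZG * h⁻¹ = ZG ^ (4 ^ (i : ℕ)) := by
    apply Units.ext
    rw [Units.val_mul, Units.val_mul, Units.val_pow_eq_pow_val]
    exact hi
  -- g := PG⁻¹ ^ i * h centralizes ZG
  set g : GL (Fin 5) F4c := (PG ^ (i : ℕ))⁻¹ * h with hg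
  have hgZ : g * ZG = ZG * g := by
    have h1 : h * ZG = ZG ^ (4 ^ (i : ℕ)) * h := by
      rw [← hG]; group
    have h2 := PG_pow_mul_ZG (i : ℕ)
    calc g * ZG = (PG ^ (i : ℕ))⁻¹ * (h * ZG) := by rw [hg, mul_assoc]
      _ = (PG ^ (i : ℕ))⁻¹ * (ZG ^ (4 ^ (i : ℕ)) * h) := by rw [h1]
      _ = (PG ^ (i : ℕ))⁻¹ * (ZG ^ (4 ^ (i : ℕ)) * PG ^ (i : ℕ)) * ((PG ^ (i : ℕ))⁻¹ * h) := by group
      _ = (PG ^ (i : ℕ))⁻¹ * (PG ^ (i : ℕ) * ZG) * ((PG ^ (i : ℕ))⁻¹ * h) := by rw [h2]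
      _ = ZG * g := by rw [hg]; group
  have hgK : (g : M5) ∈ K0 := by
    apply mem_K0_of_commute
    have h3 := congrArg (fun u : GL (Fin 5) F4c => (u : M5)) hgZ
    simp only [Units.val_mul] at h3
    exact h3
  -- g ∈ SU
  have hPSU : PG ∈ SUg 5 F4c 2 := (mem_SUg_iff' PG).mpr ⟨isU_Pc, det_Pc⟩
  have hgSU : g ∈ SUg 5 F4c 2 :=
    Subgroup.mul_mem _ (Subgroup.inv_mem _ (Subgroup.pow_mem _ hPSU _)) hSU
  obtain ⟨hgU, hgd⟩ := (mem_SUg_iff' g).mp hgSU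
  obtain ⟨a, ha⟩ := unitary_mem_K0 hK0 (g : M5) hgK hgU hgd
  have hga : g = ZG ^ a := by
    apply Units.ext
    rw [Units.val_pow_eq_pow_val]
    exact ha
  have hh' : h = PG ^ (i : ℕ) * ZG ^ a := by
    rw [← hga, hg]; group
  rw [hh']
  have hZ : ZG ∈ Subgroup.closure ({ZG, PG} : Set (GL (Fin 5) F4c)) :=
    Subgroup.subset_closure (by simp)
  have hP : PG ∈ Subgroup.closure ({ZG, PG} : Set (GL (Fin 5) F4c)) :=
    Subgroup.subset_closure (by simp)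
  exact Subgroup.mul_mem _ (Subgroup.pow_mem _ hP _) (Subgroup.pow_mem _ hZ _)

end Cfsg.Agent.Lib.Helper37.BHRSU5
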