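/-
helper61 (project SPW = S2347, helper39): module [W-SUM] `sum_weyl`.
-/
import Mathlib
import Cfsg.Agent.Lib.Helper39.SPW.Defs
import Cfsg.Agent.Lib.Helper61.SpwKit

set_option autoImplicit false

namespace Cfsg.Agent.Lib.Helper39.SPW

open Matrix Module Cfsg.Agent.Lib.Helper61.SPW
open scoped Classical

variable {F : Type*} [Field F] [Fintype F] {n : ℕ}

/-- **[W-SUM]** the sum of all Weyl operators is `q^n` times the parity operator -/
theorem sum_weyl (h2 : (2 : F) ≠ 0) (ψ : AddChar F ℂ) (hψ : ψ ≠ 1) :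
    ∑ v : Fin n ⊕ Fin n → F, weyl ψ v = ((Fintype.card F : ℂ) ^ n) • (par : Module.End ℂ (Fn n F)) := by
  apply LinearMap.ext
  intro f
  funext x
  rw [LinearMap.sum_apply, Finset.sum_apply, LinearMap.smul_apply, Pi.smul_apply, par_apply, smul_eq_mul]
  simp only [weyl_apply]
  rw [← (Equiv.sumArrowEquivProdArrow (Fin n) (Fin n) F).symm.sum_comp, Fintype.sum_prod_type, Finset.sum_comm]
  have key : ∀ b : Fin n → F, ∑ a : Fin n → F,
      ψ (phase ((Equiv.sumArrowEquivProdArrow (Fin n) (Fin n) F).symm (a, b)) x) *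
        f (x + (Equiv.sumArrowEquivProdArrow (Fin n) (Fin n) F).symm (a, b) ∘ Sum.inr)
      = (if x + (2 : F)⁻¹ • b = 0 then (Fintype.card F : ℂ) ^ n else 0) * f (x + b) := by
    intro b
    rw [← sum_char_dot ψ hψ, Finset.sum_mul]
    apply Finset.sum_congr rfl
    intro a _
    have e1 : (Equiv.sumArrowEquivProdArrow (Fin n) (Fin n) F).symm (a, b) ∘ Sum.inr = b := rfl
    have e2 : (Equiv.sumArrowEquivProdArrow (Fin n) (Fin n) F).symm (a, b) ∘ Sum.inl = a := rfl
    rw [e1]
    congr 2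
    simp only [phase, e1, e2]
    rw [dotProduct_add, dotProduct_smul, smul_eq_mul]
  simp_rw [key]
  rw [Finset.sum_eq_single (-(2 : F) • x)]
  · have e3 : x + (2 : F)⁻¹ • (-(2 : F) • x) = 0 := by
      rw [smul_smul, mul_neg, inv_mul_cancel₀ h2, neg_smul, one_smul, add_neg_cancel]
    have e4 : x + -(2 : F) • x = -x := by
      funext i
      simp only [Pi.add_apply, Pi.smul_apply, smul_eq_mul, Pi.neg_apply]
      ring
    rw [if_pos e3, e4]
  · intro b _ hb
    rw [if_neg, zero_mul]
    intro h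
    apply hb
    have : (2 : F)⁻¹ • b = -x := by
      rw [← sub_eq_zero, sub_neg_eq_add, add_comm]; exact h
    calc b = (2 : F) • ((2 : F)⁻¹ • b) := by rw [smul_smul, mul_inv_cancel₀ h2, one_smul]
      _ = -(2 : F) • x := by rw [this, smul_neg, neg_smul]
  · intro h
    exact absurd (Finset.mem_univ _) h

end Cfsg.Agent.Lib.Helper39.SPW
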