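/-
helper61 (project SPW = S2347, helper39): module [W-DIM] `finrank_oddFn` (via the projection `(1 - P)/2`; the trace of the
parity operator is proved in `SpwKit`, so this file does not depend on [W-TR]).
-/
import Mathlib
import Cfsg.Agent.Lib.Helper39.SPW.Defs
import Cfsg.Agent.Lib.Helper61.SpwKit

set_option autoImplicit false

namespace Cfsg.Agent.Lib.Helper39.SPW

open Matrix Module Cfsg.Agent.Lib.Helper61.SPW

variable {F : Type*} [Field F] [Fintype F] {n : ℕ}

/-- **[W-DIM]** the dimension of the space of odd functions -/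
theorem finrank_oddFn (hodd : Odd (Fintype.card F)) :
    finrank ℂ (oddFn n F) = (Fintype.card F ^ n - 1) / 2 := by
  have h2 : (2 : F) ≠ 0 := two_ne_zero_of_odd hodd
  -- the projection
  have hproj : LinearMap.IsProj (oddFn n F)
      ((2⁻¹ : ℂ) • ((1 : Module.End ℂ (Fn n F)) - par)) := by
    constructor
    · intro f
      rw [mem_oddFn]
      intro x
      simp only [LinearMap.smul_apply, LinearMap.sub_apply, Module.End.one_apply, Pi.smul_apply, Pi.sub_apply,
        par_apply, smul_eq_mul, neg_neg]
      ring
    · intro f hf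
      rw [mem_oddFn] at hf
      funext x
      simp only [LinearMap.smul_apply, LinearMap.sub_apply, Module.End.one_apply, Pi.smul_apply, Pi.sub_apply,
        par_apply, smul_eq_mul]
      rw [hf x]
      ring
  have htr := hproj.trace
  rw [map_smul, map_sub, trace_one', trace_par' h2, smul_eq_mul] at htr
  -- `q^n` is odd
  obtain ⟨k, hk⟩ : Odd (Fintype.card F ^ n) := hodd.pow
  have hc : ((Fintype.card F : ℂ)) ^ n = 2 * (k : ℂ) + 1 := by
    have := congrArg (fun m : ℕ => (m : ℂ)) hk
    simpa using this
  rw [hc] at htr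
  have hfin : (finrank ℂ (oddFn n F) : ℂ) = (k : ℂ) := by
    rw [← htr]
    ring
  have hfin' : finrank ℂ (oddFn n F) = k := by exact_mod_cast hfin
  rw [hfin', hk]
  omega

end Cfsg.Agent.Lib.Helper39.SPW
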