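import Mathlib

set_option autoImplicit false

namespace Cfsg.Agent.Lib.Helper61.A6

/-- the plane over the field with three elements -/
abbrev V := ZMod 3 × ZMod 3

/-- the projective line over the field with nine elements, as a set of labels -/
abbrev Pt := Option V

/-- the linear map with matrix columns `M.1`, `M.2` -/
def lin (M : V × V) (v : V) : V := (v.1 * M.1.1 + v.2 * M.2.1, v.1 * M.1.2 + v.2 * M.2.2)

/-- matrix multiplication -/
def mmul (M N : V × V) : V × V := (lin M N.1, lin M N.2)

/-- the identity matrix -/
def I2 : V × V := ((1, 0), (0, 1))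

theorem lin_I2 (v : V) : lin I2 v = v := by
  simp [lin, I2]

theorem lin_add (M : V × V) (v w : V) : lin M (v + w) = lin M v + lin M w := by
  ext <;> simp [lin] <;> ring

theorem lin_zero (M : V × V) : lin M 0 = 0 := by
  simp [lin]

theorem lin_neg (M : V × V) (v : V) : lin M (-v) = -lin M v := by
  ext <;> simp [lin] <;> ring

theorem lin_mmul (M N : V × V) (v : V) : lin (mmul M N) v = lin M (lin N v) := by
  ext <;> simp [lin, mmul] <;> ring

theorem lin_fst (M : V × V) : lin M (1, 0) = M.1 := by
  simp [lin]

theorem lin_snd (M : V × V) : lin M (0, 1) = M.2 := by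
  simp [lin]

theorem mmul_assoc (M N K : V × V) : mmul (mmul M N) K = mmul M (mmul N K) := by
  show (lin (mmul M N) K.1, lin (mmul M N) K.2) = (lin M (mmul N K).1, lin M (mmul N K).2)
  rw [lin_mmul, lin_mmul]
  rfl

theorem mmul_I2 (M : V × V) : mmul M I2 = M := by
  simp [mmul, I2, lin]

theorem I2_mmul (M : V × V) : mmul I2 M = M := by
  simp [mmul, lin_I2]

theorem zmod3_cases (a : ZMod 3) : a = 0 ∨ a = 1 ∨ a = 2 := by
  revert a; decide

/-- an additive map of the plane is given by a matrix -/
theorem eq_lin_of_additive (g : V → V) (hg : ∀ v w, g (v + w) = g v + g w) (v : V) :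
    g v = lin (g (1, 0), g (0, 1)) v := by
  have h0 : g (0, 0) = (0, 0) := by
    have := hg 0 0
    rw [add_zero] at this
    exact left_eq_add.mp this
  have h20 : g (2, 0) = g (1, 0) + g (1, 0) := by
    have := hg (1, 0) (1, 0)
    rwa [show ((1, 0) : V) + (1, 0) = (2, 0) by decide] at this
  have h02 : g (0, 2) = g (0, 1) + g (0, 1) := by
    have := hg (0, 1) (0, 1)
    rwa [show ((0, 1) : V) + (0, 1) = (0, 2) by decide] at this
  obtain ⟨a, b⟩ := v
  have hsplit : g (a, b) = g (a, 0) + g (0, b) := by
    have := hg (a, 0) (0, b)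
    simpa using this
  have ha : g (a, 0) = (a * (g (1, 0)).1, a * (g (1, 0)).2) := by
    rcases zmod3_cases a with rfl | rfl | rfl
    · rw [h0]; simp
    · simp
    · rw [h20]; ext <;> simp <;> ring
  have hb : g (0, b) = (b * (g (0, 1)).1, b * (g (0, 1)).2) := by
    rcases zmod3_cases b with rfl | rfl | rfl
    · rw [h0]; simp
    · simp
    · rw [h02]; ext <;> simp <;> ring
  rw [hsplit, ha, hb]
  simp [lin]

/-- translation of the labels (as a plain function) -/
def trf (c : V) : Pt → Pt
  | none => none
  | some v => some (v + c)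

/-- the swapping map determined by its values on the non-zero vectors -/
def pif (f : V → V) : Pt → Pt
  | none => some 0
  | some v => if v = 0 then none else some (f v)

/-- the composite appearing in the functional equation -/
def Gx (f : V → V) (x : V) (p : Pt) : Pt :=
  pif f (trf (-(f x)) (pif f (trf x (pif f p))))

/-- the functional equation at `x`: the composite is affine with linear part in `K` -/
def chk3 (K : List (V × V)) (f : V → V) (x : V) : Bool :=
  match Gx f x none, Gx f x (some 0) with
  | none, some c => K.any (fun M => decide (∀ v : V, Gx f x (some v) = some (lin M v + c)))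
  | _, _ => false

/-- multiplication by `i` -/
def J : V × V := ((0, 1), (2, 0))
/-- multiplication by `-i` -/
def mJ : V × V := ((0, 2), (1, 0))
/-- multiplication by `-1` -/
def mI : V × V := ((2, 0), (0, 2))
/-- a reflection -/
def D1 : V × V := ((1, 0), (0, 2))
/-- the opposite reflection -/
def D2 : V × V := ((2, 0), (0, 1))

/-- the standard cyclic group of order four -/
def C4std : List (V × V) := [I2, J, mI, mJ]
/-- the standard four-group -/
def V4std : List (V × V) := [I2, D1, mI, D2]

/-- the candidate function for the cyclic case -/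
def candC4 (c d : V) (M' : V × V) (v : V) : V :=
  if v = (1, 0) then c else if v = (0, 1) then lin M' c
  else if v = (2, 0) then lin M' (lin M' c) else if v = (0, 2) then lin M' (lin M' (lin M' c))
  else if v = (1, 1) then d else if v = (2, 1) then lin M' d
  else if v = (2, 2) then lin M' (lin M' d) else if v = (1, 2) then lin M' (lin M' (lin M' d))
  else 0

/-- the candidate function for the four-group case -/
def candV4 (c1 c2 c3 : V) (s1 s2 : V × V) (v : V) : V :=
  if v = (1, 0) then c1 else if v = (2, 0) then lin s2 c1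
  else if v = (0, 1) then c2 else if v = (0, 2) then lin s1 c2
  else if v = (1, 1) then c3 else if v = (1, 2) then lin s1 c3
  else if v = (2, 1) then lin s2 c3 else if v = (2, 2) then lin s1 (lin s2 c3)
  else 0

/-- the standard solution `x ↦ -1/x` -/
def fstd : V → V := candC4 (2, 0) (1, 2) mJ

/-- all vectors of the plane -/
def vs : List V := [(0, 0), (0, 1), (0, 2), (1, 0), (1, 1), (1, 2), (2, 0), (2, 1), (2, 2)]

theorem mem_vs (v : V) : v ∈ vs := by
  revert v; decide

/-- the conclusion in the cyclic case, as a boolean -/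
def goodC4 (c d : V) (M' : V × V) : Bool :=
  !chk3 C4std (candC4 c d M') (1, 0) ||
    C4std.any fun κ => vs.all fun v => decide (candC4 c d M' v = fstd (lin κ v))

/-- the whole search in the cyclic case -/
def bruteC4Bool : Bool :=
  vs.all fun c => vs.all fun d => C4std.all fun M' => goodC4 c d M'

set_option maxRecDepth 100000 in
theorem bruteC4Bool_eq : bruteC4Bool = true := by
  decide +kernel

theorem bruteC4 (c d : V) (M' : V × V) (hM' : M' ∈ C4std)
    (h : chk3 C4std (candC4 c d M') (1, 0) = true) :
    ∃ κ ∈ C4std, ∀ v : V, candC4 c d M' v = fstd (lin κ v) := by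
  have h1 := bruteC4Bool_eq
  unfold bruteC4Bool at h1
  rw [List.all_eq_true] at h1
  have h2 := h1 c (mem_vs c)
  rw [List.all_eq_true] at h2
  have h3 := h2 d (mem_vs d)
  rw [List.all_eq_true] at h3
  have h4 := h3 M' hM'
  unfold goodC4 at h4
  rw [h] at h4
  simp only [Bool.not_true, Bool.false_or, List.any_eq_true] at h4
  obtain ⟨κ, hκ, hall⟩ := h4
  refine ⟨κ, hκ, fun v => ?_⟩
  rw [List.all_eq_true] at hall
  have := hall v (mem_vs v)
  simpa using this

/-- the conditions satisfied by a genuine candidate in the four-group case -/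
def badV4 (c1 c2 c3 : V) (s1 s2 : V × V) : Bool :=
  decide (c1 ≠ 0) && decide (c2 ≠ 0) && decide (c3 ≠ 0) && decide (s1 ≠ I2) && decide (s2 ≠ I2) &&
    decide (s1 ≠ s2) && chk3 V4std (candV4 c1 c2 c3 s1 s2) (1, 0) &&
    chk3 V4std (candV4 c1 c2 c3 s1 s2) (1, 1)

/-- the whole search in the four-group case -/
def bruteV4Bool : Bool :=
  vs.all fun c1 => vs.all fun c2 => vs.all fun c3 => V4std.all fun s1 => V4std.all fun s2 =>
    !badV4 c1 c2 c3 s1 s2

set_option maxRecDepth 100000 in
theorem bruteV4Bool_eq : bruteV4Bool = true := by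
  decide +kernel

theorem bruteV4 (c1 c2 c3 : V) (s1 s2 : V × V) (hs1 : s1 ∈ V4std) (hs2 : s2 ∈ V4std) :
    badV4 c1 c2 c3 s1 s2 = false := by
  have h1 := bruteV4Bool_eq
  unfold bruteV4Bool at h1
  rw [List.all_eq_true] at h1
  have h2 := h1 c1 (mem_vs c1)
  rw [List.all_eq_true] at h2
  have h3 := h2 c2 (mem_vs c2)
  rw [List.all_eq_true] at h3
  have h4 := h3 c3 (mem_vs c3)
  rw [List.all_eq_true] at h4
  have h5 := h4 s1 hs1
  rw [List.all_eq_true] at h5
  have h6 := h5 s2 hs2
  simpa using h6

end Cfsg.Agent.Lib.Helper61.A6
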