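import Mathlib
import Cfsg.Agent.Lib.Helper61.A6Brute

set_option autoImplicit false

namespace Cfsg.Agent.Lib.Helper61.A6

/-- translation as a permutation of the labels -/
def tr (c : V) : Equiv.Perm Pt := Equiv.optionCongr (Equiv.addRight c)

@[simp] theorem tr_none (c : V) : tr c none = none := rfl

@[simp] theorem tr_some (c v : V) : tr c (some v) = some (v + c) := rfl

theorem tr_apply (c : V) (p : Pt) : tr c p = trf c p := by
  cases p <;> rfl

theorem tr_mul_neg (c : V) : tr c * tr (-c) = 1 := by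
  apply Equiv.ext
  intro p
  cases p with
  | none => rfl
  | some v => simp

/-- the values of a permutation on the non-zero vectors -/
def fOf (π : Equiv.Perm Pt) (v : V) : V := (π (some v)).getD 0

/-- a normalised group: contains the translations and a swap, and the stabiliser of `∞` and `0`
consists exactly of the linear maps with matrix in `K` -/
structure Norm (Γ : Subgroup (Equiv.Perm Pt)) (K : List (V × V)) : Prop where
  tr_mem : ∀ c, tr c ∈ Γ
  stab_sub : ∀ γ ∈ Γ, γ none = none → γ (some 0) = some 0 →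
    ∃ M ∈ K, ∀ v, γ (some v) = some (lin M v)
  stab_sup : ∀ M ∈ K, ∃ γ ∈ Γ, γ none = none ∧ ∀ v, γ (some v) = some (lin M v)
  swap : ∃ π ∈ Γ, π none = some 0 ∧ π (some 0) = none

section Sound
variable {Γ : Subgroup (Equiv.Perm Pt)} {K : List (V × V)}

theorem some_ne_of_fix_none (γ : Equiv.Perm Pt) (h : γ none = none) (v : V) :
    ∃ w, γ (some v) = some w := by
  cases hw : γ (some v) with
  | none =>
    exfalso
    have : some v = (none : Pt) := γ.injective (by rw [hw, h])
    exact absurd this (by simp)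
  | some w => exact ⟨w, rfl⟩

theorem Norm.affine_of_stab (hN : Norm Γ K) (γ : Equiv.Perm Pt) (hγ : γ ∈ Γ)
    (h : γ none = none) : ∃ M ∈ K, ∃ c, ∀ v, γ (some v) = some (lin M v + c) := by
  obtain ⟨c, hc⟩ := some_ne_of_fix_none γ h 0
  have h0 : tr (-c) * γ ∈ Γ := Γ.mul_mem (hN.tr_mem _) hγ
  have h1 : (tr (-c) * γ) none = none := by
    rw [Equiv.Perm.mul_apply, h]; rfl
  have h2 : (tr (-c) * γ) (some 0) = some 0 := by
    rw [Equiv.Perm.mul_apply, hc, tr_some, add_neg_cancel]
  obtain ⟨M, hM, hlin⟩ := hN.stab_sub _ h0 h1 h2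
  refine ⟨M, hM, c, fun v => ?_⟩
  obtain ⟨w, hw⟩ := some_ne_of_fix_none γ h v
  have := hlin v
  rw [Equiv.Perm.mul_apply, hw, tr_some, Option.some.injEq] at this
  rw [hw, ← this]
  congr 1
  abel

theorem pi_eq_pif (π : Equiv.Perm Pt) (h1 : π none = some 0) (h2 : π (some 0) = none) (p : Pt) :
    π p = pif (fOf π) p := by
  cases p with
  | none => exact h1
  | some v =>
    by_cases hv : v = 0
    · rw [hv, h2]; simp [pif]
    · cases hw : π (some v) with
      | none =>
        exfalso
        have : some v = some (0 : V) := π.injective (by rw [hw, h2])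
        exact hv (Option.some.inj this)
      | some w =>
        simp [pif, hv, fOf, hw]

theorem fOf_ne_zero (π : Equiv.Perm Pt) (h1 : π none = some 0) (h2 : π (some 0) = none) (v : V)
    (hv : v ≠ 0) : π (some v) = some (fOf π v) ∧ fOf π v ≠ 0 := by
  have h := pi_eq_pif π h1 h2 (some v)
  simp only [pif, hv, if_false] at h
  refine ⟨h, fun h0 => ?_⟩
  rw [h0, ← h1] at h
  exact absurd (π.injective h) (by simp)

theorem fOf_zero (π : Equiv.Perm Pt) (h2 : π (some 0) = none) : fOf π 0 = 0 := by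
  simp [fOf, h2]

theorem fOf_injective (π : Equiv.Perm Pt) (h1 : π none = some 0) (h2 : π (some 0) = none)
    (v w : V) (hv : v ≠ 0) (hw : w ≠ 0) (h : fOf π v = fOf π w) : v = w := by
  have e1 := (fOf_ne_zero π h1 h2 v hv).1
  have e2 := (fOf_ne_zero π h1 h2 w hw).1
  rw [h, ← e2] at e1
  exact Option.some.inj (π.injective e1)

/-- the functional equation holds for a swap element of a normalised group -/
theorem Norm.chk3 (hN : Norm Γ K) (π : Equiv.Perm Pt) (hπ : π ∈ Γ) (h1 : π none = some 0)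
    (h2 : π (some 0) = none) (x : V) (hx : x ≠ 0) : chk3 K (fOf π) x = true := by
  have hδm : π * tr (-(fOf π x)) * π * tr x * π ∈ Γ :=
    Γ.mul_mem (Γ.mul_mem (Γ.mul_mem (Γ.mul_mem hπ (hN.tr_mem _)) hπ) (hN.tr_mem _)) hπ
  have hG : ∀ p, (π * tr (-(fOf π x)) * π * tr x * π) p = Gx (fOf π) x p := by
    intro p
    simp only [Equiv.Perm.mul_apply, Gx, tr_apply, pi_eq_pif π h1 h2]
  have hfx := (fOf_ne_zero π h1 h2 x hx).1
  have hnone : (π * tr (-(fOf π x)) * π * tr x * π) none = none := by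
    simp only [Equiv.Perm.mul_apply, h1, tr_some, zero_add, hfx, add_neg_cancel, h2]
  obtain ⟨M, hM, c, hlin⟩ := hN.affine_of_stab _ hδm hnone
  have e1 : Gx (fOf π) x none = none := by rw [← hG, hnone]
  have e2 : Gx (fOf π) x (some 0) = some c := by
    rw [← hG, hlin 0, lin_zero, zero_add]
  unfold A6.chk3
  rw [e1, e2]
  simp only [List.any_eq_true, decide_eq_true_eq]
  refine ⟨M, hM, fun v => ?_⟩
  rw [← hG, hlin v]

/-- conjugation by a swap element induces a map on the linear parts -/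
theorem Norm.conj_rule (hN : Norm Γ K) (π : Equiv.Perm Pt) (hπ : π ∈ Γ) (h1 : π none = some 0)
    (h2 : π (some 0) = none) (M : V × V) (hM : M ∈ K) :
    ∃ M' ∈ K, ∀ v, v ≠ 0 → fOf π (lin M v) = lin M' (fOf π v) := by
  obtain ⟨γ, hγ, hγn, hγl⟩ := hN.stab_sup M hM
  have hinv1 : π⁻¹ none = some 0 := by
    rw [Equiv.Perm.inv_eq_iff_eq]; exact h2.symm
  have hinv2 : π⁻¹ (some 0) = none := by
    rw [Equiv.Perm.inv_eq_iff_eq]; exact h1.symm
  have hδm : π * γ * π⁻¹ ∈ Γ := Γ.mul_mem (Γ.mul_mem hπ hγ) (Γ.inv_mem hπ)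
  have hδ1 : (π * γ * π⁻¹) none = none := by
    simp only [Equiv.Perm.mul_apply, hinv1, hγl 0, lin_zero, h2]
  have hδ2 : (π * γ * π⁻¹) (some 0) = some 0 := by
    simp only [Equiv.Perm.mul_apply, hinv2, hγn, h1]
  obtain ⟨M', hM', hlin⟩ := hN.stab_sub _ hδm hδ1 hδ2
  refine ⟨M', hM', fun v hv => ?_⟩
  have hne : lin M v ≠ 0 := by
    intro h0
    have e1 := hγl v
    have e2 := hγl 0
    rw [h0] at e1
    rw [lin_zero] at e2
    rw [← e2] at e1
    exact hv (Option.some.inj (γ.injective e1))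
  have e1 := (fOf_ne_zero π h1 h2 v hv).1
  have e2 := (fOf_ne_zero π h1 h2 _ hne).1
  have e3 := hlin (fOf π v)
  rw [← e1] at e3
  have e4 : π⁻¹ (π (some v)) = some v := by simp
  rw [Equiv.Perm.mul_apply, Equiv.Perm.mul_apply, e4, hγl v, e2] at e3
  exact Option.some.inj e3

end Sound

section Classify
variable {Γ : Subgroup (Equiv.Perm Pt)}

theorem mem_V4std_D1 : D1 ∈ V4std := by decide
theorem mem_V4std_D2 : D2 ∈ V4std := by decide
theorem mem_C4std_J : J ∈ C4std := by decide

/-- the four-group case is impossible -/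
theorem Norm.false_of_V4 (hN : Norm Γ V4std) : False := by
  obtain ⟨π, hπ, h1, h2⟩ := hN.swap
  obtain ⟨s1, hs1, hr1⟩ := hN.conj_rule π hπ h1 h2 D1 mem_V4std_D1
  obtain ⟨s2, hs2, hr2⟩ := hN.conj_rule π hπ h1 h2 D2 mem_V4std_D2
  have hne : ∀ v : V, v ≠ 0 → fOf π v ≠ 0 := fun v hv => (fOf_ne_zero π h1 h2 v hv).2
  have hinj := fOf_injective π h1 h2
  -- the relations
  have r20 : fOf π (2, 0) = lin s2 (fOf π (1, 0)) := by
    have := hr2 (1, 0) (by decide)
    rwa [show lin D2 (1, 0) = (2, 0) by decide] at this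
  have r02 : fOf π (0, 2) = lin s1 (fOf π (0, 1)) := by
    have := hr1 (0, 1) (by decide)
    rwa [show lin D1 (0, 1) = (0, 2) by decide] at this
  have r12 : fOf π (1, 2) = lin s1 (fOf π (1, 1)) := by
    have := hr1 (1, 1) (by decide)
    rwa [show lin D1 (1, 1) = (1, 2) by decide] at this
  have r21 : fOf π (2, 1) = lin s2 (fOf π (1, 1)) := by
    have := hr2 (1, 1) (by decide)
    rwa [show lin D2 (1, 1) = (2, 1) by decide] at this
  have r22 : fOf π (2, 2) = lin s1 (lin s2 (fOf π (1, 1))) := by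
    have := hr1 (2, 1) (by decide)
    rwa [show lin D1 (2, 1) = (2, 2) by decide, r21] at this
  have hcand : fOf π = candV4 (fOf π (1, 0)) (fOf π (0, 1)) (fOf π (1, 1)) s1 s2 := by
    funext v
    have hv := mem_vs v
    simp only [vs, List.mem_cons, List.mem_nil_iff, or_false] at hv
    rcases hv with rfl | rfl | rfl | rfl | rfl | rfl | rfl | rfl | rfl
    · rw [show ((0, 0) : V) = 0 from rfl, fOf_zero π h2]; rfl
    · rfl
    · rw [r02]; rfl
    · rfl
    · rfl
    · rw [r12]; rfl
    · rw [r20]; rfl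
    · rw [r21]; rfl
    · rw [r22]; rfl
  have hs1' : s1 ≠ I2 := by
    intro h
    rw [h, lin_I2] at r02
    exact absurd (hinj _ _ (by decide) (by decide) r02) (by decide)
  have hs2' : s2 ≠ I2 := by
    intro h
    rw [h, lin_I2] at r20
    exact absurd (hinj _ _ (by decide) (by decide) r20) (by decide)
  have hs12 : s1 ≠ s2 := by
    intro h
    rw [h, ← r21] at r12
    exact absurd (hinj _ _ (by decide) (by decide) r12) (by decide)
  have c1 := hN.chk3 π hπ h1 h2 (1, 0) (by decide)
  have c2 := hN.chk3 π hπ h1 h2 (1, 1) (by decide)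
  rw [hcand] at c1 c2
  have hb := bruteV4 (fOf π (1, 0)) (fOf π (0, 1)) (fOf π (1, 1)) s1 s2 hs1 hs2
  unfold badV4 at hb
  rw [c1, c2] at hb
  simp only [Bool.and_true, Bool.and_eq_false_iff, decide_eq_false_iff_not, not_not] at hb
  rcases hb with ((((h | h) | h) | h) | h) | h
  · exact hne _ (by decide) h
  · exact hne _ (by decide) h
  · exact hne _ (by decide) h
  · exact hs1' h
  · exact hs2' h
  · exact hs12 h

/-- in the cyclic case the swap element is the standard one up to a linear map -/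
theorem Norm.classify_C4 (hN : Norm Γ C4std) (π : Equiv.Perm Pt) (hπ : π ∈ Γ)
    (h1 : π none = some 0) (h2 : π (some 0) = none) :
    ∃ κ ∈ C4std, ∀ v : V, fOf π v = fstd (lin κ v) := by
  obtain ⟨M', hM', hr⟩ := hN.conj_rule π hπ h1 h2 J mem_C4std_J
  have r01 : fOf π (0, 1) = lin M' (fOf π (1, 0)) := by
    have := hr (1, 0) (by decide)
    rwa [show lin J (1, 0) = (0, 1) by decide] at this
  have r20 : fOf π (2, 0) = lin M' (lin M' (fOf π (1, 0))) := by
    have := hr (0, 1) (by decide)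
    rwa [show lin J (0, 1) = (2, 0) by decide, r01] at this
  have r02 : fOf π (0, 2) = lin M' (lin M' (lin M' (fOf π (1, 0)))) := by
    have := hr (2, 0) (by decide)
    rwa [show lin J (2, 0) = (0, 2) by decide, r20] at this
  have r21 : fOf π (2, 1) = lin M' (fOf π (1, 1)) := by
    have := hr (1, 1) (by decide)
    rwa [show lin J (1, 1) = (2, 1) by decide] at this
  have r22 : fOf π (2, 2) = lin M' (lin M' (fOf π (1, 1))) := by
    have := hr (2, 1) (by decide)
    rwa [show lin J (2, 1) = (2, 2) by decide, r21] at this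
  have r12 : fOf π (1, 2) = lin M' (lin M' (lin M' (fOf π (1, 1)))) := by
    have := hr (2, 2) (by decide)
    rwa [show lin J (2, 2) = (1, 2) by decide, r22] at this
  have hcand : fOf π = candC4 (fOf π (1, 0)) (fOf π (1, 1)) M' := by
    funext v
    have hv := mem_vs v
    simp only [vs, List.mem_cons, List.mem_nil_iff, or_false] at hv
    rcases hv with rfl | rfl | rfl | rfl | rfl | rfl | rfl | rfl | rfl
    · rw [show ((0, 0) : V) = 0 from rfl, fOf_zero π h2]; rfl
    · rw [r01]; rfl
    · rw [r02]; rfl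
    · rfl
    · rfl
    · rw [r12]; rfl
    · rw [r20]; rfl
    · rw [r21]; rfl
    · rw [r22]; rfl
  have c1 := hN.chk3 π hπ h1 h2 (1, 0) (by decide)
  rw [hcand] at c1
  obtain ⟨κ, hκ, hall⟩ := bruteC4 _ _ M' hM' c1
  exact ⟨κ, hκ, fun v => by rw [hcand]; exact hall v⟩

end Classify

end Cfsg.Agent.Lib.Helper61.A6
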