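import Mathlib
import Cfsg.Agent.Lib.Helper61.A6Norm

set_option autoImplicit false

namespace Cfsg.Agent.Lib.Helper61.A6

theorem pif_fstd_involutive : Function.Involutive (pif fstd) := by
  unfold Function.Involutive
  decide

/-- the standard swap `x ↦ -1/x` as a permutation -/
def pistd : Equiv.Perm Pt := pif_fstd_involutive.toPerm

theorem pistd_apply (p : Pt) : pistd p = pif fstd p := rfl

theorem lin_C4std_eq_zero : ∀ κ ∈ C4std, ∀ v : V, lin κ v = 0 ↔ v = 0 := by
  decide

variable {Γ : Subgroup (Equiv.Perm Pt)}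

/-- a normalised group in the cyclic case contains the standard swap -/
theorem Norm.pistd_mem (hN : Norm Γ C4std) : pistd ∈ Γ := by
  obtain ⟨π, hπ, h1, h2⟩ := hN.swap
  obtain ⟨κ, hκ, hf⟩ := hN.classify_C4 π hπ h1 h2
  obtain ⟨γ, hγ, hγn, hγl⟩ := hN.stab_sup κ hκ
  have hπeq : π = pistd * γ := by
    apply Equiv.ext
    intro p
    rw [pi_eq_pif π h1 h2 p, Equiv.Perm.mul_apply]
    cases p with
    | none => rw [hγn]; rfl
    | some v =>
      rw [hγl v, pistd_apply]
      by_cases hv : v = 0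
      · subst hv
        simp [pif, lin_zero]
      · have h0 : lin κ v ≠ 0 := fun h => hv ((lin_C4std_eq_zero κ hκ v).mp h)
        simp [pif, hv, h0, hf v]
  have : pistd = π * γ⁻¹ := by rw [hπeq]; group
  rw [this]
  exact Γ.mul_mem hπ (Γ.inv_mem hγ)

theorem pistd_some_zero : pistd (some 0) = none := by decide

theorem Norm.le_of_norm {Γ' : Subgroup (Equiv.Perm Pt)} (hN : Norm Γ C4std)
    (hN' : Norm Γ' C4std) : Γ ≤ Γ' := by
  have key : ∀ γ ∈ Γ, γ none = none → γ ∈ Γ' := by
    intro γ hγ hn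
    obtain ⟨M, hM, c, hlin⟩ := hN.affine_of_stab γ hγ hn
    obtain ⟨γ', hγ', hγ'n, hγ'l⟩ := hN'.stab_sup M hM
    have : γ = tr c * γ' := by
      apply Equiv.ext
      intro p
      rw [Equiv.Perm.mul_apply]
      cases p with
      | none => rw [hn, hγ'n]; rfl
      | some v => rw [hlin v, hγ'l v]; rfl
    rw [this]
    exact Γ'.mul_mem (hN'.tr_mem c) hγ'
  intro γ hγ
  cases hb : γ none with
  | none => exact key γ hγ hb
  | some b =>
    have hmem : pistd * tr (-b) * γ ∈ Γ :=
      Γ.mul_mem (Γ.mul_mem hN.pistd_mem (hN.tr_mem _)) hγ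
    have hfix : (pistd * tr (-b) * γ) none = none := by
      rw [Equiv.Perm.mul_apply, Equiv.Perm.mul_apply, hb, tr_some, add_neg_cancel]
      exact pistd_some_zero
    have h' := key _ hmem hfix
    have : γ = (pistd * tr (-b))⁻¹ * (pistd * tr (-b) * γ) := by group
    rw [this]
    exact Γ'.mul_mem (Γ'.inv_mem (Γ'.mul_mem hN'.pistd_mem (hN'.tr_mem _))) h'

/-- two normalised groups in the cyclic case coincide -/
theorem Norm.unique {Γ' : Subgroup (Equiv.Perm Pt)} (hN : Norm Γ C4std)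
    (hN' : Norm Γ' C4std) : Γ = Γ' :=
  le_antisymm (hN.le_of_norm hN') (hN'.le_of_norm hN)

end Cfsg.Agent.Lib.Helper61.A6
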