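import Mathlib
import Cfsg.Agent.Lib.Helper61.A6Std

set_option autoImplicit false

namespace Cfsg.Agent.Lib.Helper61.A6

/-- the permutation of the labels induced by an invertible matrix -/
def linPerm (L L' : V × V) (h1 : mmul L L' = I2) (h2 : mmul L' L = I2) : Equiv.Perm Pt :=
  Equiv.optionCongr
    { toFun := lin L
      invFun := lin L'
      left_inv := fun v => by rw [← lin_mmul, h2, lin_I2]
      right_inv := fun v => by rw [← lin_mmul, h1, lin_I2] }

section LinPerm
variable (L L' : V × V) (h1 : mmul L L' = I2) (h2 : mmul L' L = I2)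

@[simp] theorem linPerm_none : linPerm L L' h1 h2 none = none := rfl

@[simp] theorem linPerm_some (v : V) : linPerm L L' h1 h2 (some v) = some (lin L v) := rfl

theorem linPerm_inv : (linPerm L L' h1 h2)⁻¹ = linPerm L' L h2 h1 := by
  rw [inv_eq_iff_mul_eq_one]
  apply Equiv.ext
  intro p
  cases p with
  | none => rfl
  | some v =>
    rw [Equiv.Perm.mul_apply, linPerm_some, linPerm_some, ← lin_mmul, h1, lin_I2]
    rfl

end LinPerm

/-- the conjugate of a permutation group -/
def conjGrp (Γ : Subgroup (Equiv.Perm Pt)) (Λ : Equiv.Perm Pt) : Subgroup (Equiv.Perm Pt) :=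
  Γ.map (MulAut.conj Λ).toMonoidHom

theorem mem_conjGrp (Γ : Subgroup (Equiv.Perm Pt)) (Λ γ : Equiv.Perm Pt) :
    γ ∈ conjGrp Γ Λ ↔ Λ⁻¹ * γ * Λ ∈ Γ := by
  unfold conjGrp
  rw [Subgroup.mem_map]
  constructor
  · rintro ⟨δ, hδ, rfl⟩
    have : Λ⁻¹ * ((MulAut.conj Λ).toMonoidHom δ) * Λ = δ := by
      simp [MulAut.conj_apply, mul_assoc]
    rw [this]
    exact hδ
  · intro h
    refine ⟨_, h, ?_⟩
    simp [MulAut.conj_apply, mul_assoc]

/-- a group is isomorphic to its conjugates -/
noncomputable def conjGrpEquiv (Γ : Subgroup (Equiv.Perm Pt)) (Λ : Equiv.Perm Pt) :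
    Γ ≃* conjGrp Γ Λ :=
  Γ.equivMapOfInjective _ (MulAut.conj Λ).injective

theorem Norm.congr {Γ : Subgroup (Equiv.Perm Pt)} {K K' : List (V × V)} (hN : Norm Γ K)
    (h : ∀ X, X ∈ K ↔ X ∈ K') : Norm Γ K' where
  tr_mem := hN.tr_mem
  stab_sub := fun γ hγ h1 h2 => by
    obtain ⟨M, hM, hl⟩ := hN.stab_sub γ hγ h1 h2
    exact ⟨M, (h M).mp hM, hl⟩
  stab_sup := fun M hM => hN.stab_sup M ((h M).mpr hM)
  swap := hN.swap

/-- conjugating a normalised group by a linear map -/
theorem Norm.conj {Γ : Subgroup (Equiv.Perm Pt)} {K : List (V × V)} (hN : Norm Γ K)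
    (L L' : V × V) (h1 : mmul L L' = I2) (h2 : mmul L' L = I2) :
    Norm (conjGrp Γ (linPerm L L' h1 h2)) (K.map fun M => mmul L (mmul M L')) := by
  have hLL' : ∀ v, lin L (lin L' v) = v := fun v => by rw [← lin_mmul, h1, lin_I2]
  have hL'L : ∀ v, lin L' (lin L v) = v := fun v => by rw [← lin_mmul, h2, lin_I2]
  refine ⟨?_, ?_, ?_, ?_⟩
  · intro c
    rw [mem_conjGrp, linPerm_inv]
    have : linPerm L' L h2 h1 * tr c * linPerm L L' h1 h2 = tr (lin L' c) := by
      apply Equiv.ext
      intro p
      cases p with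
      | none => rfl
      | some v =>
        simp only [Equiv.Perm.mul_apply, linPerm_some, tr_some, lin_add, hL'L]
    rw [this]
    exact hN.tr_mem _
  · intro γ hγ hn h0
    rw [mem_conjGrp, linPerm_inv] at hγ
    have e1 : (linPerm L' L h2 h1 * γ * linPerm L L' h1 h2) none = none := by
      simp only [Equiv.Perm.mul_apply, linPerm_none, hn]
    have e2 : (linPerm L' L h2 h1 * γ * linPerm L L' h1 h2) (some 0) = some 0 := by
      simp only [Equiv.Perm.mul_apply, linPerm_some, lin_zero, h0]
    obtain ⟨M, hM, hl⟩ := hN.stab_sub _ hγ e1 e2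
    refine ⟨mmul L (mmul M L'), List.mem_map_of_mem hM, fun v => ?_⟩
    have e3 := hl (lin L' v)
    simp only [Equiv.Perm.mul_apply, linPerm_some, hLL'] at e3
    have e4 := congrArg (linPerm L L' h1 h2) e3
    have e5 : linPerm L L' h1 h2 (linPerm L' L h2 h1 (γ (some v))) = γ (some v) := by
      have : linPerm L' L h2 h1 = (linPerm L L' h1 h2)⁻¹ := (linPerm_inv L L' h1 h2).symm
      rw [this]; simp
    rw [e5, linPerm_some] at e4
    rw [e4, lin_mmul, lin_mmul]
  · intro M' hM'
    rw [List.mem_map] at hM'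
    obtain ⟨M, hM, rfl⟩ := hM'
    obtain ⟨δ, hδ, hδn, hδl⟩ := hN.stab_sup M hM
    refine ⟨linPerm L L' h1 h2 * δ * (linPerm L L' h1 h2)⁻¹, ?_, ?_, ?_⟩
    · rw [mem_conjGrp]
      have : (linPerm L L' h1 h2)⁻¹ * (linPerm L L' h1 h2 * δ * (linPerm L L' h1 h2)⁻¹) *
          linPerm L L' h1 h2 = δ := by group
      rw [this]
      exact hδ
    · rw [linPerm_inv]
      simp only [Equiv.Perm.mul_apply, linPerm_none, hδn]
    · intro v
      rw [linPerm_inv]
      simp only [Equiv.Perm.mul_apply, linPerm_some, hδl, lin_mmul]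
  · obtain ⟨π, hπ, hπ1, hπ2⟩ := hN.swap
    refine ⟨linPerm L L' h1 h2 * π * (linPerm L L' h1 h2)⁻¹, ?_, ?_, ?_⟩
    · rw [mem_conjGrp]
      have : (linPerm L L' h1 h2)⁻¹ * (linPerm L L' h1 h2 * π * (linPerm L L' h1 h2)⁻¹) *
          linPerm L L' h1 h2 = π := by group
      rw [this]
      exact hπ
    · rw [linPerm_inv]
      simp only [Equiv.Perm.mul_apply, linPerm_none, hπ1, linPerm_some, lin_zero]
    · rw [linPerm_inv]
      simp only [Equiv.Perm.mul_apply, linPerm_some, lin_zero, hπ2, linPerm_none]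

/-- all matrices -/
def allMats : List (V × V) := vs.flatMap fun a => vs.map fun b => (a, b)

theorem mem_allMats (M : V × V) : M ∈ allMats := by
  unfold allMats
  rw [List.mem_flatMap]
  exact ⟨M.1, mem_vs _, List.mem_map.mpr ⟨M.2, mem_vs _, rfl⟩⟩

/-- the four elements generated by two -/
def grpList (A B : V × V) : List (V × V) := [I2, A, B, mmul A B]

/-- the list is a group of order four -/
def validAB (A B : V × V) : Bool :=
  decide (grpList A B).Nodup &&
    ((grpList A B).all fun X => (grpList A B).all fun Y => decide (mmul X Y ∈ grpList A B)) &&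
    ((grpList A B).all fun X => (grpList A B).any fun Y => decide (mmul X Y = I2))

/-- two lists with the same members -/
def sameMem (K K' : List (V × V)) : Bool :=
  (K.all fun X => decide (X ∈ K')) && (K'.all fun X => decide (X ∈ K))

theorem sameMem_iff (K K' : List (V × V)) (h : sameMem K K' = true) (X : V × V) :
    X ∈ K ↔ X ∈ K' := by
  unfold sameMem at h
  simp only [Bool.and_eq_true, List.all_eq_true, decide_eq_true_eq] at h
  exact ⟨h.1 X, h.2 X⟩

/-- the candidate inverse of a matrix -/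
def minv (L : V × V) : V × V :=
  ((( L.1.1 * L.2.2 - L.1.2 * L.2.1) * L.2.2, -((L.1.1 * L.2.2 - L.1.2 * L.2.1) * L.1.2)),
    (-((L.1.1 * L.2.2 - L.1.2 * L.2.1) * L.2.1), (L.1.1 * L.2.2 - L.1.2 * L.2.1) * L.1.1))

/-- the conjugated list -/
def conjList (L L' : V × V) (K : List (V × V)) : List (V × V) :=
  K.map fun M => mmul L (mmul M L')

/-- a basis change normalises the given group of order four -/
def normOK (A B : V × V) : Bool :=
  !validAB A B || allMats.any fun L =>
    decide (mmul L (minv L) = I2) && decide (mmul (minv L) L = I2) &&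
      (sameMem (conjList L (minv L) (grpList A B)) C4std ||
        sameMem (conjList L (minv L) (grpList A B)) V4std)

/-- the whole search for the normalisation -/
def normAll : Bool := allMats.all fun A => allMats.all fun B => normOK A B

set_option maxRecDepth 100000 in
theorem normAll_eq : normAll = true := by
  decide +kernel

theorem exists_normalise (A B : V × V) (h : validAB A B = true) :
    ∃ L L' : V × V, mmul L L' = I2 ∧ mmul L' L = I2 ∧
      ((∀ X, X ∈ conjList L L' (grpList A B) ↔ X ∈ C4std) ∨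
        (∀ X, X ∈ conjList L L' (grpList A B) ↔ X ∈ V4std)) := by
  have h1 := normAll_eq
  unfold normAll at h1
  rw [List.all_eq_true] at h1
  have h2 := h1 A (mem_allMats A)
  rw [List.all_eq_true] at h2
  have h3 := h2 B (mem_allMats B)
  unfold normOK at h3
  rw [h] at h3
  simp only [Bool.not_true, Bool.false_or, List.any_eq_true, Bool.and_eq_true, decide_eq_true_eq,
    Bool.or_eq_true] at h3
  obtain ⟨L, -, ⟨e1, e2⟩, h4⟩ := h3
  refine ⟨L, minv L, e1, e2, ?_⟩
  rcases h4 with h4 | h4
  · left; exact sameMem_iff _ _ h4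
  · right; exact sameMem_iff _ _ h4

end Cfsg.Agent.Lib.Helper61.A6
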