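import Mathlib
import Cfsg.Agent.Lib.Helper61.A6Conj

set_option autoImplicit false

namespace Cfsg.Agent.Lib.Helper61.A6

/-- a group of order four consists of `1, a, b, a * b` for suitable `a`, `b` -/
theorem exists_gens_of_card_four {S : Type*} [Group S] (h : Nat.card S = 4) :
    ∃ a b : S, [1, a, b, a * b].Nodup ∧ ∀ x : S, x ∈ [1, a, b, a * b] := by
  classical
  have : Finite S := Nat.finite_of_card_ne_zero (by omega)
  have := Fintype.ofFinite S
  have hc : Fintype.card S = 4 := by rw [← Nat.card_eq_fintype_card]; exact h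
  have key : ∀ a b : S, [1, a, b, a * b].Nodup → ∀ x : S, x ∈ [1, a, b, a * b] := by
    intro a b hnd x
    have h1 : ([1, a, b, a * b] : List S).toFinset.card = 4 := by
      rw [List.toFinset_card_of_nodup hnd]; rfl
    have h2 : ([1, a, b, a * b] : List S).toFinset = Finset.univ :=
      Finset.eq_univ_of_card _ (by rw [h1, hc])
    have : x ∈ ([1, a, b, a * b] : List S).toFinset := by rw [h2]; exact Finset.mem_univ x
    exact List.mem_toFinset.mp this
  have hnt : Nontrivial S := by
    rw [← Finite.one_lt_card_iff_nontrivial, h]; omega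
  obtain ⟨a, ha⟩ := exists_ne (1 : S)
  by_cases haa : a * a = 1
  · obtain ⟨b, hb1, hba⟩ : ∃ b : S, b ≠ 1 ∧ b ≠ a := by
      by_contra hcon
      push Not at hcon
      have hsub : (Finset.univ : Finset S) ⊆ {1, a} := by
        intro x _
        by_cases hx : x = 1
        · simp [hx]
        · simp [hcon x hx]
      have := Finset.card_le_card hsub
      rw [Finset.card_univ, hc] at this
      have h2 : ({1, a} : Finset S).card ≤ 2 := Finset.card_le_two
      omega
    refine ⟨a, b, ?_, key a b ?_⟩ <;>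
    · simp only [List.nodup_cons, List.mem_cons, List.not_mem_nil, or_false, not_or,
        List.nodup_nil, and_true, not_false_eq_true]
      refine ⟨⟨ha.symm, hb1.symm, ?_⟩, ⟨hba.symm, ?_⟩, ?_⟩
      · intro h1
        apply hba
        have : a * b = a * a := by rw [← h1, haa]
        exact mul_left_cancel this
      · intro h1
        apply hb1
        have : a * 1 = a * b := by rw [mul_one]; exact h1
        exact (mul_left_cancel this).symm
      · intro h1
        apply ha
        have : 1 * b = a * b := by rw [one_mul]; exact h1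
        exact (mul_right_cancel this).symm
  · have h4 : a ^ 4 = 1 := by
      rw [← h]; exact pow_card_eq_one'
    refine ⟨a, a * a, ?_, key a (a * a) ?_⟩ <;>
    · simp only [List.nodup_cons, List.mem_cons, List.not_mem_nil, or_false, not_or,
        List.nodup_nil, and_true, not_false_eq_true]
      refine ⟨⟨ha.symm, fun h1 => haa h1.symm, ?_⟩, ⟨?_, ?_⟩, ?_⟩
      · intro h1
        apply ha
        have : a ^ 4 = a * (a * (a * a)) := by
          rw [pow_succ, pow_succ, pow_succ, pow_one]; simp only [mul_assoc]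
        rw [← h1, mul_one, h4] at this
        exact this.symm
      · intro h1
        apply ha
        have : a * 1 = a * a := by rw [mul_one]; exact h1
        exact (mul_left_cancel this).symm
      · intro h1
        apply haa
        have : a * 1 = a * (a * a) := by rw [mul_one]; exact h1
        exact (mul_left_cancel this).symm
      · intro h1
        apply ha
        have : 1 * (a * a) = a * (a * a) := by rw [one_mul]; exact h1
        exact (mul_right_cancel this).symm

theorem lin_ext (M N : V × V) (h : ∀ v, lin M v = lin N v) : M = N := by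
  have e1 := h (1, 0)
  have e2 := h (0, 1)
  rw [lin_fst, lin_fst] at e1
  rw [lin_snd, lin_snd] at e2
  exact Prod.ext e1 e2

/-- the properties of the image of a simple group of order 360 acting on its Sylow
3-subgroups -/
structure Good (Γ : Subgroup (Equiv.Perm Pt)) : Prop where
  tr_mem : ∀ c, tr c ∈ Γ
  lin_of_stab : ∀ γ ∈ Γ, γ none = none → γ (some 0) = some 0 →
    ∃ M : V × V, ∀ v, γ (some v) = some (lin M v)
  card_stab : ∃ S : Subgroup (Equiv.Perm Pt),
    (∀ γ, γ ∈ S ↔ γ ∈ Γ ∧ γ none = none ∧ γ (some 0) = some 0) ∧ Nat.card S = 4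
  swap : ∃ π ∈ Γ, π none = some 0 ∧ π (some 0) = none

variable {Γ : Subgroup (Equiv.Perm Pt)}

theorem Good.exists_norm (hG : Good Γ) :
    ∃ A B : V × V, validAB A B = true ∧ Norm Γ (grpList A B) := by
  obtain ⟨S, hS, hcard⟩ := hG.card_stab
  have hT : ∀ x : S, ∃ M : V × V, ∀ v, x.1 (some v) = some (lin M v) := fun x =>
    hG.lin_of_stab x.1 ((hS _).mp x.2).1 ((hS _).mp x.2).2.1 ((hS _).mp x.2).2.2
  choose T hT using hT
  have T_uniq : ∀ (x : S) (M : V × V), (∀ v, x.1 (some v) = some (lin M v)) → T x = M := by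
    intro x M hM
    apply lin_ext
    intro v
    have := hT x v
    rw [hM v] at this
    exact (Option.some.inj this).symm
  have T_one : T 1 = I2 := by
    apply T_uniq
    intro v
    rw [lin_I2]; rfl
  have T_mul : ∀ x y : S, T (x * y) = mmul (T x) (T y) := by
    intro x y
    apply T_uniq
    intro v
    rw [lin_mmul]
    show x.1 (y.1 (some v)) = _
    rw [hT y v, hT x]
  have T_inj : Function.Injective T := by
    intro x y hxy
    apply Subtype.ext
    apply Equiv.ext
    intro p
    cases p with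
    | none => rw [((hS _).mp x.2).2.1, ((hS _).mp y.2).2.1]
    | some v => rw [hT x v, hT y v, hxy]
  obtain ⟨a, b, hnd, hall⟩ := exists_gens_of_card_four hcard
  have hlist : grpList (T a) (T b) = [1, a, b, a * b].map T := by
    simp only [grpList, List.map_cons, List.map_nil, T_one, T_mul]
  have hmemT : ∀ x : S, T x ∈ grpList (T a) (T b) := by
    intro x
    rw [hlist]
    exact List.mem_map_of_mem (hall x)
  have hexT : ∀ X ∈ grpList (T a) (T b), ∃ x : S, T x = X := by
    intro X hX
    rw [hlist, List.mem_map] at hX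
    obtain ⟨x, -, hx⟩ := hX
    exact ⟨x, hx⟩
  refine ⟨T a, T b, ?_, ?_⟩
  · unfold validAB
    simp only [Bool.and_eq_true, decide_eq_true_eq, List.all_eq_true, List.any_eq_true]
    refine ⟨⟨?_, ?_⟩, ?_⟩
    · rw [hlist]
      exact hnd.map T_inj
    · intro X hX Y hY
      obtain ⟨x, rfl⟩ := hexT X hX
      obtain ⟨y, rfl⟩ := hexT Y hY
      rw [← T_mul]
      exact hmemT _
    · intro X hX
      obtain ⟨x, rfl⟩ := hexT X hX
      refine ⟨T x⁻¹, hmemT _, ?_⟩
      rw [← T_mul, mul_inv_cancel, T_one]
  · refine ⟨hG.tr_mem, ?_, ?_, hG.swap⟩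
    · intro γ hγ h1 h2
      have hγS : γ ∈ S := (hS γ).mpr ⟨hγ, h1, h2⟩
      exact ⟨T ⟨γ, hγS⟩, hmemT _, hT ⟨γ, hγS⟩⟩
    · intro M hM
      obtain ⟨x, rfl⟩ := hexT M hM
      exact ⟨x.1, ((hS _).mp x.2).1, ((hS _).mp x.2).2.1, hT x⟩

/-- a good group is isomorphic to a normalised group in the cyclic case -/
theorem Good.exists_std (hG : Good Γ) :
    ∃ Γ' : Subgroup (Equiv.Perm Pt), Nonempty (Γ ≃* Γ') ∧ Norm Γ' C4std := by
  obtain ⟨A, B, hv, hN⟩ := hG.exists_norm
  obtain ⟨L, L', h1, h2, h3⟩ := exists_normalise A B hv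
  have hN' := hN.conj L L' h1 h2
  refine ⟨conjGrp Γ (linPerm L L' h1 h2), ⟨conjGrpEquiv Γ _⟩, ?_⟩
  rcases h3 with h3 | h3
  · exact hN'.congr h3
  · exact (hN'.congr h3).false_of_V4.elim

/-- two good groups are isomorphic -/
theorem Good.iso {Γ₁ Γ₂ : Subgroup (Equiv.Perm Pt)} (h₁ : Good Γ₁) (h₂ : Good Γ₂) :
    Nonempty (Γ₁ ≃* Γ₂) := by
  obtain ⟨Γ₁', ⟨e₁⟩, hN₁⟩ := h₁.exists_std
  obtain ⟨Γ₂', ⟨e₂⟩, hN₂⟩ := h₂.exists_std
  have := hN₁.unique hN₂
  subst this
  exact ⟨e₁.trans e₂.symm⟩

end Cfsg.Agent.Lib.Helper61.A6
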