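import Mathlib
import Cfsg.Agent.Lib.Helper61.A6Good
import Cfsg.Agent.Lib.Helper17.Misc

set_option autoImplicit false
set_option linter.unusedSectionVars false

namespace Cfsg.Agent.Lib.Helper61.A6

open Cfsg.Agent.Lib.Helper17

theorem pow_val_add {G : Type*} [Group G] (x : G) (hx : x ^ 3 = 1) (i j : ZMod 3) :
    x ^ (i + j).val = x ^ i.val * x ^ j.val := by
  rw [ZMod.val_add, ← pow_add]
  conv_rhs => rw [← Nat.mod_add_div (i.val + j.val) 3]
  rw [pow_add, pow_mul, hx, one_pow, mul_one]

theorem one_zero_ne_zero : ((1, 0) : V) ≠ 0 := by decide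

/-- the data of a frame: a Sylow 3-subgroup with a basis, and a second Sylow 3-subgroup -/
structure Base9 (G : Type*) [Group G] [Fact (Nat.Prime 3)] where
  P : Sylow 3 G
  a : G
  b : G
  ha : a ∈ (P : Subgroup G)
  hb : b ∈ (P : Subgroup G)
  ha3 : a ^ 3 = 1
  hb3 : b ^ 3 = 1
  hab : Commute a b
  hinj : ∀ v : V, a ^ v.1.val * b ^ v.2.val = 1 → v = 0
  Q0 : Sylow 3 G
  hQ0 : Q0 ≠ P
  hfree : ∀ Q : Sylow 3 G, Q ≠ P → ∀ x ∈ (P : Subgroup G), x • Q = Q → x = 1
  hcardP : Nat.card (P : Subgroup G) = 9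
  hcard : Nat.card (Sylow 3 G) = 10
  hN : Nat.card (Subgroup.normalizer ((P : Subgroup G) : Set G)) = 36

section Abstract
variable {G : Type*} [Group G] [Finite G] [Fact (Nat.Prime 3)] (B : Base9 G)

/-- the parametrisation of the Sylow subgroup by the plane -/
def Base9.phi (v : V) : G := B.a ^ v.1.val * B.b ^ v.2.val

theorem Base9.phi_add (v w : V) : B.phi (v + w) = B.phi v * B.phi w := by
  unfold Base9.phi
  rw [Prod.fst_add, Prod.snd_add, pow_val_add _ B.ha3, pow_val_add _ B.hb3]
  exact Commute.mul_mul_mul_comm (B.hab.pow_pow _ _) _ _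

theorem Base9.phi_zero : B.phi 0 = 1 := by
  simp [Base9.phi]

theorem Base9.phi_mem (v : V) : B.phi v ∈ (B.P : Subgroup G) :=
  (B.P : Subgroup G).mul_mem ((B.P : Subgroup G).pow_mem B.ha _)
    ((B.P : Subgroup G).pow_mem B.hb _)

theorem Base9.phi_neg (v : V) : B.phi (-v) = (B.phi v)⁻¹ := by
  apply eq_inv_of_mul_eq_one_left
  rw [← B.phi_add, neg_add_cancel, B.phi_zero]

theorem Base9.phi_injective : Function.Injective B.phi := by
  intro v w h
  have h1 : B.phi (v - w) = 1 := by
    rw [sub_eq_add_neg, B.phi_add, B.phi_neg, h, mul_inv_cancel]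
  have := B.hinj _ h1
  exact sub_eq_zero.mp this

theorem Base9.phi_surj (x : G) (hx : x ∈ (B.P : Subgroup G)) : ∃ v, B.phi v = x := by
  have hinj : Function.Injective (fun v : V => (⟨B.phi v, B.phi_mem v⟩ : (B.P : Subgroup G))) := by
    intro v w h
    exact B.phi_injective (congrArg Subtype.val h)
  have hcard : Nat.card (B.P : Subgroup G) ≤ Nat.card V := by
    rw [B.hcardP, Nat.card_eq_fintype_card]
    decide
  have hbij := hinj.bijective_of_nat_card_le hcard
  obtain ⟨v, hv⟩ := hbij.2 ⟨x, hx⟩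
  exact ⟨v, congrArg Subtype.val hv⟩

theorem Base9.phi_smul_P (v : V) : B.phi v • B.P = B.P :=
  Sylow.smul_eq_iff_mem_normalizer.mpr (Subgroup.le_normalizer (B.phi_mem v))

/-- the labelling of the Sylow subgroups other than `P` -/
def Base9.lab (v : V) : Sylow 3 G := B.phi v • B.Q0

theorem Base9.lab_ne_P (v : V) : B.lab v ≠ B.P := by
  intro h
  apply B.hQ0
  have h2 : B.phi v • B.Q0 = B.phi v • B.P := by rw [B.phi_smul_P]; exact h
  exact smul_left_cancel _ h2

theorem Base9.lab_injective : Function.Injective B.lab := by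
  intro v w h
  unfold Base9.lab at h
  have h2 : B.phi (v - w) • B.Q0 = B.Q0 := by
    have h3 : B.phi (-w) • (B.phi v • B.Q0) = B.phi (-w) • (B.phi w • B.Q0) := by rw [h]
    rw [smul_smul, smul_smul, ← B.phi_add, ← B.phi_add, neg_add_cancel, B.phi_zero, one_smul,
      neg_add_eq_sub] at h3
    exact h3
  have h4 := B.hfree B.Q0 B.hQ0 _ (B.phi_mem _) h2
  rw [← B.phi_zero] at h4
  exact sub_eq_zero.mp (B.phi_injective h4)

theorem Base9.phi_smul_lab (c v : V) : B.phi c • B.lab v = B.lab (v + c) := by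
  unfold Base9.lab
  rw [smul_smul, ← B.phi_add, add_comm]

/-- the labelling of all Sylow subgroups -/
def Base9.e : Pt → Sylow 3 G
  | none => B.P
  | some v => B.lab v

theorem Base9.e_injective : Function.Injective B.e := by
  intro i j h
  cases i with
  | none =>
    cases j with
    | none => rfl
    | some b => exact absurd h.symm (B.lab_ne_P b)
  | some a =>
    cases j with
    | none => exact absurd h (B.lab_ne_P a)
    | some b => rw [B.lab_injective h]

theorem Base9.e_bijective : Function.Bijective B.e := by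
  have : Finite (Sylow 3 G) := Nat.finite_of_card_ne_zero (by rw [B.hcard]; omega)
  rw [Nat.bijective_iff_injective_and_card]
  refine ⟨B.e_injective, ?_⟩
  rw [B.hcard, Nat.card_eq_fintype_card]
  decide

/-- the labelling as an equivalence -/
noncomputable def Base9.E : Pt ≃ Sylow 3 G := Equiv.ofBijective B.e B.e_bijective

/-- the permutation representation on the labels -/
noncomputable def Base9.psi : G →* Equiv.Perm Pt :=
  (B.E.symm.permCongrHom).toMonoidHom.comp (MulAction.toPermHom G (Sylow 3 G))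

theorem Base9.E_psi (g : G) (i : Pt) : B.e (B.psi g i) = g • B.e i := by
  show B.E (B.E.symm (g • B.E i)) = g • B.e i
  rw [Equiv.apply_symm_apply]
  rfl

theorem Base9.psi_eq (g : G) (π : Equiv.Perm Pt) (h : ∀ i, g • B.e i = B.e (π i)) :
    B.psi g = π := by
  apply Equiv.ext
  intro i
  have := B.E_psi g i
  rw [h i] at this
  exact B.e_injective this

theorem Base9.psi_apply_eq_iff (g : G) (i j : Pt) : B.psi g i = j ↔ g • B.e i = B.e j := by
  rw [← B.E_psi]
  exact ⟨fun h => by rw [h], fun h => B.e_injective h⟩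

theorem Base9.psi_phi (c : V) : B.psi (B.phi c) = tr c := by
  apply B.psi_eq
  intro i
  cases i with
  | none => exact B.phi_smul_P c
  | some v => exact B.phi_smul_lab c v

theorem Base9.e_zero : B.e (some 0) = B.Q0 := by
  show B.lab 0 = B.Q0
  unfold Base9.lab
  rw [B.phi_zero, one_smul]

theorem Base9.psi_injective [IsSimpleGroup G] : Function.Injective B.psi := by
  rw [← MonoidHom.ker_eq_bot_iff]
  rcases (B.psi.normal_ker).eq_bot_or_eq_top with h | h
  · exact h
  · exfalso
    have : B.phi (1, 0) ∈ B.psi.ker := by rw [h]; trivial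
    rw [MonoidHom.mem_ker, B.psi_phi] at this
    have h0 := congrArg (fun f : Equiv.Perm Pt => f (some 0)) this
    simp only [tr_some, Equiv.Perm.one_apply, Option.some.injEq, zero_add] at h0
    exact one_zero_ne_zero h0

/-- an element fixing `P` and `Q0` acts linearly -/
theorem Base9.lin_of_stab (x : G) (hP : x • B.P = B.P) (hQ : x • B.Q0 = B.Q0) :
    ∃ M : V × V, ∀ v, B.psi x (some v) = some (lin M v) := by
  have hxN : x ∈ Subgroup.normalizer ((B.P : Subgroup G) : Set G) :=
    Sylow.smul_eq_iff_mem_normalizer.mp hP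
  have hconj : ∀ v : V, ∃ w : V, B.phi w = x * B.phi v * x⁻¹ := by
    intro v
    apply B.phi_surj
    exact (Subgroup.mem_normalizer_iff.mp hxN _).mp (B.phi_mem v)
  choose g hg using hconj
  have hadd : ∀ v w, g (v + w) = g v + g w := by
    intro v w
    apply B.phi_injective
    rw [hg, B.phi_add, B.phi_add, hg, hg]
    group
  refine ⟨(g (1, 0), g (0, 1)), fun v => ?_⟩
  rw [← eq_lin_of_additive g hadd v, B.psi_apply_eq_iff]
  show x • (B.phi v • B.Q0) = B.phi (g v) • B.Q0
  rw [hg]
  have : (x * B.phi v * x⁻¹) • B.Q0 = (x * B.phi v * x⁻¹) • (x • B.Q0) := by rw [hQ]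
  rw [this, smul_smul, smul_smul]
  congr 1
  group

/-- the stabiliser of `P` and `Q0` -/
def Base9.stab : Subgroup G := MulAction.stabilizer G B.P ⊓ MulAction.stabilizer G B.Q0

theorem Base9.mem_stab (x : G) : x ∈ B.stab ↔ x • B.P = B.P ∧ x • B.Q0 = B.Q0 := by
  unfold Base9.stab
  rw [Subgroup.mem_inf, MulAction.mem_stabilizer_iff, MulAction.mem_stabilizer_iff]

theorem Base9.card_stab : Nat.card B.stab = 4 := by
  have hf : ∀ p : V × B.stab, B.phi p.1 * (p.2 : G) ∈
      Subgroup.normalizer ((B.P : Subgroup G) : Set G) := by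
    intro p
    apply Subgroup.mul_mem
    · exact Subgroup.le_normalizer (B.phi_mem _)
    · exact Sylow.smul_eq_iff_mem_normalizer.mp ((B.mem_stab _).mp p.2.2).1
  have hbij : Function.Bijective (fun p : V × B.stab =>
      (⟨B.phi p.1 * (p.2 : G), hf p⟩ : Subgroup.normalizer ((B.P : Subgroup G) : Set G))) := by
    constructor
    · rintro ⟨v, s⟩ ⟨w, t⟩ h
      have h1 : B.phi v * (s : G) = B.phi w * (t : G) := congrArg Subtype.val h
      have h2 : B.phi (v - w) = (t : G) * (s : G)⁻¹ := by
        rw [sub_eq_add_neg, add_comm, B.phi_add, B.phi_neg]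
        have : B.phi v = B.phi w * (t : G) * (s : G)⁻¹ := by rw [← h1]; group
        rw [this]; group
      have h3 : B.phi (v - w) • B.Q0 = B.Q0 := by
        rw [h2]
        exact ((B.mem_stab _).mp (B.stab.mul_mem t.2 (B.stab.inv_mem s.2))).2
      have h4 := B.hfree B.Q0 B.hQ0 _ (B.phi_mem _) h3
      rw [← B.phi_zero] at h4
      have hvw : v = w := sub_eq_zero.mp (B.phi_injective h4)
      subst hvw
      have hst : (s : G) = t := mul_left_cancel h1
      rw [Subtype.ext hst]
    · rintro ⟨x, hx⟩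
      have hxP : x • B.P = B.P := Sylow.smul_eq_iff_mem_normalizer.mpr hx
      obtain ⟨i, hi⟩ := B.e_bijective.2 (x • B.Q0)
      cases i with
      | none =>
        exfalso
        apply B.hQ0
        have : x • B.Q0 = x • B.P := by rw [hxP]; exact hi.symm
        exact smul_left_cancel x this
      | some v =>
        have hv : B.phi v • B.Q0 = x • B.Q0 := hi
        have hs : (B.phi v)⁻¹ * x ∈ B.stab := by
          rw [B.mem_stab]
          constructor
          · rw [mul_smul, hxP, ← B.phi_neg, B.phi_smul_P]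
          · rw [mul_smul, ← hv, inv_smul_smul]
        refine ⟨(v, ⟨_, hs⟩), ?_⟩
        apply Subtype.ext
        show B.phi v * ((B.phi v)⁻¹ * x) = x
        group
  have hcard := Nat.card_congr (Equiv.ofBijective _ hbij)
  rw [Nat.card_prod, B.hN] at hcard
  have hV : Nat.card V = 9 := by
    rw [Nat.card_eq_fintype_card]; decide
  rw [hV] at hcard
  omega

theorem Base9.exists_swap : ∃ w : G, w • B.P = B.Q0 ∧ w • B.Q0 = B.P := by
  have hfin : Finite (Sylow 3 G) := Nat.finite_of_card_ne_zero (by rw [B.hcard]; omega)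
  obtain ⟨r, hr⟩ := MulAction.exists_smul_eq G B.P B.Q0
  obtain ⟨i, hi⟩ := B.e_bijective.2 (r⁻¹ • B.P)
  cases i with
  | none =>
    exfalso
    apply B.hQ0
    have h1 : B.P = r⁻¹ • B.P := hi
    rw [← hr]
    nth_rewrite 1 [h1]
    rw [smul_inv_smul]
  | some v =>
    have hlab : B.lab v = r⁻¹ • B.P := hi
    refine ⟨r * B.phi v, ?_, ?_⟩
    · rw [mul_smul, B.phi_smul_P, hr]
    · rw [mul_smul]
      show r • B.lab v = B.P
      rw [hlab, smul_inv_smul]

/-- the image of the permutation representation is a good group -/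
theorem Base9.good [IsSimpleGroup G] : Good B.psi.range := by
  refine ⟨?_, ?_, ?_, ?_⟩
  · intro c
    exact ⟨B.phi c, B.psi_phi c⟩
  · rintro γ ⟨x, rfl⟩ h1 h2
    have hP : x • B.P = B.P := (B.psi_apply_eq_iff x none none).mp h1
    have hQ : x • B.Q0 = B.Q0 := by
      have := (B.psi_apply_eq_iff x (some 0) (some 0)).mp h2
      rwa [B.e_zero] at this
    exact B.lin_of_stab x hP hQ
  · refine ⟨B.stab.map B.psi, ?_, ?_⟩
    · intro γ
      rw [Subgroup.mem_map]
      constructor
      · rintro ⟨x, hx, rfl⟩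
        rw [B.mem_stab] at hx
        refine ⟨⟨x, rfl⟩, ?_, ?_⟩
        · exact (B.psi_apply_eq_iff x none none).mpr hx.1
        · rw [B.psi_apply_eq_iff, B.e_zero]; exact hx.2
      · rintro ⟨⟨x, rfl⟩, h1, h2⟩
        refine ⟨x, ?_, rfl⟩
        rw [B.mem_stab]
        constructor
        · exact (B.psi_apply_eq_iff x none none).mp h1
        · have := (B.psi_apply_eq_iff x (some 0) (some 0)).mp h2
          rwa [B.e_zero] at this
    · rw [Subgroup.card_map_of_injective B.psi_injective, B.card_stab]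
  · obtain ⟨w, hwP, hwQ⟩ := B.exists_swap
    refine ⟨B.psi w, ⟨w, rfl⟩, ?_, ?_⟩
    · rw [B.psi_apply_eq_iff, B.e_zero]; exact hwP
    · rw [B.psi_apply_eq_iff, B.e_zero]; exact hwQ

end Abstract

end Cfsg.Agent.Lib.Helper61.A6
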