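import Mathlib
import Cfsg.Agent.Lib.Helper17.SylowCard
import Cfsg.Agent.Lib.Helper17.Burnside
import Cfsg.Agent.Lib.Helper17.SimpleIndex
import Cfsg.Agent.Lib.Helper17.SylowInter
import Cfsg.Agent.Lib.Helper17.Misc

set_option autoImplicit false
set_option linter.unusedSectionVars false

namespace Cfsg.Agent.Lib.Helper61.A6

open Cfsg.Agent.Lib.Helper17

theorem fact3' : Fact (Nat.Prime 3) := ⟨by norm_num⟩
theorem fact2' : Fact (Nat.Prime 2) := ⟨by norm_num⟩

section S360
variable {G : Type*} [Group G] [Finite G] [IsSimpleGroup G]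

theorem not_comm_360 (hG : Nat.card G = 360) : ¬ IsMulCommutative G :=
  not_comm_of_simple_of_not_prime (by rw [hG]; norm_num)

/-- a proper subgroup of a simple group of order 360 has index at least six -/
theorem six_le_index (hG : Nat.card G = 360) (H : Subgroup G) (hH : H ≠ ⊤) : 6 ≤ H.index := by
  have h := two_mul_card_dvd_factorial_index_of_simple (not_comm_360 hG) H hH
  rw [hG] at h
  by_contra hlt
  push Not at hlt
  have h5 : (H.index).factorial ∣ Nat.factorial 5 := Nat.factorial_dvd_factorial (by omega)
  have := h.trans h5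
  norm_num [Nat.factorial] at this

variable [Fact (Nat.Prime 3)]

theorem card_sylow3_subgroup (hG : Nat.card G = 360) (P : Sylow 3 G) :
    Nat.card (P : Subgroup G) = 9 := by
  have := sylow_card_of_card_eq P (k := 2) (m := 40) (by rw [hG]; norm_num) (by norm_num)
  simpa using this

theorem card_sylow3 (hG : Nat.card G = 360) : Nat.card (Sylow 3 G) = 10 := by
  have hnc := not_comm_360 hG
  have hdvd : Nat.card (Sylow 3 G) ∣ 40 :=
    card_sylow_dvd_of_card_eq (p := 3) (k := 2) (m := 40) (by rw [hG]; norm_num) (by norm_num)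
  have hmod : Nat.card (Sylow 3 G) % 3 = 1 := card_sylow_modEq_one 3 G
  have hne : Nat.card (Sylow 3 G) ≠ 1 :=
    card_sylow_ne_one_of_simple (p := 3) (k := 2) (m := 40) (by rw [hG]; norm_num) (by norm_num)
      (by norm_num) (by norm_num)
  have hfac := two_mul_card_dvd_factorial_card_sylow_of_simple hnc (p := 3) hne
  rw [hG] at hfac
  have hmem : Nat.card (Sylow 3 G) ∈ Nat.divisors 40 := Nat.mem_divisors.mpr ⟨hdvd, by norm_num⟩
  have hdiv : Nat.divisors 40 = {1, 2, 4, 5, 8, 10, 20, 40} := by decide
  rw [hdiv] at hmem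
  simp only [Finset.mem_insert, Finset.mem_singleton] at hmem
  rcases hmem with h | h | h | h | h | h | h | h
  · exact absurd h hne
  · rw [h] at hmod; omega
  · rw [h] at hfac; norm_num [Nat.factorial] at hfac
  · rw [h] at hmod; omega
  · rw [h] at hmod; omega
  · exact h
  · rw [h] at hmod; omega
  · -- forty Sylow subgroups: the normalizer is the Sylow subgroup, which is abelian
    exfalso
    obtain ⟨P⟩ := (Sylow.nonempty : Nonempty (Sylow 3 G))
    have hP := card_sylow3_subgroup hG P
    have hN := card_sylow_mul_card_normalizer P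
    rw [h, hG] at hN
    have hN9 : Nat.card (Subgroup.normalizer ((P : Subgroup G) : Set G)) = 9 := by omega
    have hle : (P : Subgroup G) ≤ Subgroup.normalizer ((P : Subgroup G) : Set G) :=
      Subgroup.le_normalizer
    have heq : (P : Subgroup G) = Subgroup.normalizer ((P : Subgroup G) : Set G) :=
      Subgroup.eq_of_le_of_card_ge hle (by rw [hN9, hP])
    have hcomm : IsMulCommutative (P : Subgroup G) :=
      IsPGroup.isMulCommutative_of_card_eq_prime_sq (p := 3) (by rw [hP]; norm_num)
    apply not_normalizer_le_centralizer_of_simple hnc P (by rw [hG]; norm_num)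
    rw [← heq]
    intro x hx
    rw [Subgroup.mem_centralizer_iff]
    intro y hy
    have := hcomm.is_comm.comm (⟨y, hy⟩ : (P : Subgroup G)) ⟨x, hx⟩
    exact congrArg Subtype.val this

theorem card_normalizer_sylow3 (hG : Nat.card G = 360) (P : Sylow 3 G) :
    Nat.card (Subgroup.normalizer ((P : Subgroup G) : Set G)) = 36 := by
  have hN := card_sylow_mul_card_normalizer P
  rw [card_sylow3 hG, hG] at hN
  omega

end S360

end Cfsg.Agent.Lib.Helper61.A6
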