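import Mathlib
import Cfsg.Agent.Lib.Helper61.A6Sylow

set_option autoImplicit false
set_option linter.unusedSectionVars false

namespace Cfsg.Agent.Lib.Helper61.A6

open Cfsg.Agent.Lib.Helper17

/-- in a group of order 36 with a central element of order three and more than one Sylow
3-subgroup, the Sylow 2-subgroups are normal -/
theorem sylow2_normal_of_card_36 {C : Type*} [Group C] [Finite C] [Fact (Nat.Prime 2)]
    [Fact (Nat.Prime 3)] (hC : Nat.card C = 36)
    (d : C) (hd : orderOf d = 3) (hdZ : d ∈ Subgroup.center C)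
    (hn3 : Nat.card (Sylow 3 C) ≠ 1) (T : Sylow 2 C) : (T : Subgroup C).Normal := by
  have hT : Nat.card (T : Subgroup C) = 4 := by
    have := sylow_card_of_card_eq T (k := 2) (m := 9) (by rw [hC]; norm_num) (by norm_num)
    simpa using this
  have hTcomm : IsMulCommutative (T : Subgroup C) :=
    IsPGroup.isMulCommutative_of_card_eq_prime_sq (p := 2) (by rw [hT]; norm_num)
  have hTZ : (T : Subgroup C) ≤ Subgroup.centralizer ((T : Subgroup C) : Set C) := by
    intro x hx
    rw [Subgroup.mem_centralizer_iff]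
    intro y hy
    have := hTcomm.is_comm.comm (⟨y, hy⟩ : (T : Subgroup C)) ⟨x, hx⟩
    exact congrArg Subtype.val this
  have hnot : ¬ (Subgroup.normalizer ((T : Subgroup C) : Set C) ≤
      Subgroup.centralizer ((T : Subgroup C) : Set C)) := by
    intro hle
    have hcomp := MonoidHom.ker_transferSylow_isComplement' T hle
    have hcard := hcomp.card_mul_card
    have hKn : (MonoidHom.transferSylow T hle).ker.Normal := MonoidHom.normal_ker _
    rw [hT, hC] at hcard
    have hK : Nat.card (MonoidHom.transferSylow T hle).ker = 9 := by omega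
    have hKp : IsPGroup 3 (MonoidHom.transferSylow T hle).ker :=
      IsPGroup.of_card (n := 2) (by rw [hK]; norm_num)
    obtain ⟨R, hR⟩ := hKp.exists_le_sylow
    have hRc : Nat.card (R : Subgroup C) = 9 := by
      have := sylow_card_of_card_eq R (k := 2) (m := 4) (by rw [hC]; norm_num) (by norm_num)
      simpa using this
    have hKR : (MonoidHom.transferSylow T hle).ker = R :=
      Subgroup.eq_of_le_of_card_ge hR (by rw [hK, hRc])
    have hRn : (R : Subgroup C).Normal := hKR ▸ hKn
    have hu := Sylow.unique_of_normal R hRn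
    exact hn3 Nat.card_unique
  have hZN : Subgroup.centralizer ((T : Subgroup C) : Set C) ≤
      Subgroup.normalizer ((T : Subgroup C) : Set C) := Subgroup.centralizer_le_normalizer _
  have h4 : 4 ∣ Nat.card (Subgroup.centralizer ((T : Subgroup C) : Set C)) := by
    rw [← hT]; exact Subgroup.card_dvd_of_le hTZ
  have hdmem : d ∈ Subgroup.centralizer ((T : Subgroup C) : Set C) := by
    rw [Subgroup.mem_centralizer_iff]
    intro y _
    exact Subgroup.mem_center_iff.mp hdZ y
  have h3 : 3 ∣ Nat.card (Subgroup.centralizer ((T : Subgroup C) : Set C)) := by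
    rw [← hd]; exact Subgroup.orderOf_dvd_natCard _ hdmem
  have h12 : 12 ∣ Nat.card (Subgroup.centralizer ((T : Subgroup C) : Set C)) :=
    Nat.Coprime.mul_dvd_of_dvd_of_dvd (by norm_num : Nat.Coprime 4 3) h4 h3
  have hZN' := Subgroup.card_dvd_of_le hZN
  have hN36 : Nat.card (Subgroup.normalizer ((T : Subgroup C) : Set C)) ∣ 36 := by
    rw [← hC]; exact Subgroup.card_subgroup_dvd_card _
  have hne : Nat.card (Subgroup.centralizer ((T : Subgroup C) : Set C)) ≠
      Nat.card (Subgroup.normalizer ((T : Subgroup C) : Set C)) := by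
    intro h
    apply hnot
    have := Subgroup.eq_of_le_of_card_ge hZN h.ge
    rw [this]
  have hNtop : Nat.card (Subgroup.normalizer ((T : Subgroup C) : Set C)) = 36 := by
    obtain ⟨a, ha⟩ := h12
    obtain ⟨b, hb⟩ := hZN'
    obtain ⟨c, hc⟩ := hN36
    rw [ha] at hb hne
    rw [hb] at hc hne ⊢
    have hb0 : 0 < a * b * c := by
      rcases Nat.eq_zero_or_pos (a * b * c) with h0 | h0
      · exfalso
        have : 12 * a * b * c = 12 * (a * b * c) := by ring
        rw [this, h0] at hc
        omega
      · exact h0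
    have habc : a * b * c = 3 := by
      have : 12 * a * b * c = 12 * (a * b * c) := by ring
      omega
    have ha1 : a ∣ 3 := ⟨b * c, by rw [← habc]; ring⟩
    have hb1 : b ∣ 3 := ⟨a * c, by rw [← habc]; ring⟩
    have ha' : a = 1 ∨ a = 3 := (Nat.dvd_prime (by norm_num)).mp ha1
    have hb' : b = 1 ∨ b = 3 := (Nat.dvd_prime (by norm_num)).mp hb1
    rcases ha' with rfl | rfl <;> rcases hb' with rfl | rfl
    · exact absurd rfl hne
    · rfl
    · exact absurd rfl hne
    · exfalso
      have : 9 * c = 3 := by rw [← habc]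
      omega
  have htop : Subgroup.normalizer ((T : Subgroup C) : Set C) = ⊤ :=
    Subgroup.eq_top_of_card_eq _ (by rw [hNtop, hC])
  exact Subgroup.normalizer_eq_top_iff.mp htop

section S360
variable {G : Type*} [Group G] [Finite G] [IsSimpleGroup G] [Fact (Nat.Prime 2)]
  [Fact (Nat.Prime 3)]

/-- distinct Sylow 3-subgroups of a simple group of order 360 intersect trivially -/
theorem sylow3_TI (hG : Nat.card G = 360) (P Q : Sylow 3 G) (hPQ : P ≠ Q) :
    (P : Subgroup G) ⊓ (Q : Subgroup G) = ⊥ := by
  by_contra hD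
  have hP9 := card_sylow3_subgroup hG P
  have hQ9 := card_sylow3_subgroup hG Q
  have hPcomm : IsMulCommutative (P : Subgroup G) :=
    IsPGroup.isMulCommutative_of_card_eq_prime_sq (p := 3) (by rw [hP9]; norm_num)
  have hQcomm : IsMulCommutative (Q : Subgroup G) :=
    IsPGroup.isMulCommutative_of_card_eq_prime_sq (p := 3) (by rw [hQ9]; norm_num)
  -- the intersection has order three
  have hD3 : Nat.card ((P : Subgroup G) ⊓ (Q : Subgroup G) : Subgroup G) = 3 := by
    have h1 : Nat.card ((P : Subgroup G) ⊓ (Q : Subgroup G) : Subgroup G) ∣ 9 := by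
      rw [← hP9]; exact Subgroup.card_dvd_of_le inf_le_left
    have h2 : Nat.card ((P : Subgroup G) ⊓ (Q : Subgroup G) : Subgroup G) ≠ 1 :=
      fun h => hD (Subgroup.card_eq_one.mp h)
    have h3 : Nat.card ((P : Subgroup G) ⊓ (Q : Subgroup G) : Subgroup G) ≠ 9 := by
      intro h
      have h4 : (P : Subgroup G) ⊓ (Q : Subgroup G) = P :=
        Subgroup.eq_of_le_of_card_ge inf_le_left (by rw [h, hP9])
      have hle : (P : Subgroup G) ≤ Q := by rw [← h4]; exact inf_le_right
      exact hPQ (Sylow.ext (P.is_maximal' Q.isPGroup' hle)).symm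
    have hmem : Nat.card ((P : Subgroup G) ⊓ (Q : Subgroup G) : Subgroup G) ∈ Nat.divisors 9 :=
      Nat.mem_divisors.mpr ⟨h1, by norm_num⟩
    have hdiv : Nat.divisors 9 = {1, 3, 9} := by decide
    rw [hdiv] at hmem
    simp only [Finset.mem_insert, Finset.mem_singleton] at hmem
    rcases hmem with h | h | h
    · exact absurd h h2
    · exact h
    · exact absurd h h3
  -- the centralizer of the intersection
  have hPC : (P : Subgroup G) ≤
      Subgroup.centralizer (((P : Subgroup G) ⊓ (Q : Subgroup G) : Subgroup G) : Set G) := by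
    intro x hx
    rw [Subgroup.mem_centralizer_iff]
    intro y hy
    have := hPcomm.is_comm.comm (⟨y, hy.1⟩ : (P : Subgroup G)) ⟨x, hx⟩
    exact congrArg Subtype.val this
  have hQC : (Q : Subgroup G) ≤
      Subgroup.centralizer (((P : Subgroup G) ⊓ (Q : Subgroup G) : Subgroup G) : Set G) := by
    intro x hx
    rw [Subgroup.mem_centralizer_iff]
    intro y hy
    have := hQcomm.is_comm.comm (⟨y, hy.2⟩ : (Q : Subgroup G)) ⟨x, hx⟩
    exact congrArg Subtype.val this
  obtain ⟨C, hCdef⟩ : ∃ C : Subgroup G, C =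
      Subgroup.centralizer (((P : Subgroup G) ⊓ (Q : Subgroup G) : Subgroup G) : Set G) :=
    ⟨_, rfl⟩
  rw [← hCdef] at hPC hQC
  have hn4 : 3 + 1 ≤ Nat.card (Sylow 3 C) := succ_le_card_sylow_subgroup C P Q hPQ hPC hQC
  have hdvd : Nat.card (Sylow 3 C) * 9 ∣ Nat.card C := by
    rw [← hP9]; exact card_sylow_subgroup_mul_card_dvd C P hPC
  have hCne : C ≠ ⊤ := by
    intro htop
    have hDZ : (P : Subgroup G) ⊓ (Q : Subgroup G) ≤ Subgroup.center G := by
      intro x hx
      rw [Subgroup.mem_center_iff]
      intro g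
      have hg : g ∈ C := by rw [htop]; trivial
      rw [hCdef, Subgroup.mem_centralizer_iff] at hg
      exact (hg x hx).symm
    have hn : (Subgroup.center G).Normal := inferInstance
    rcases hn.eq_bot_or_eq_top with hb | ht
    · rw [hb] at hDZ
      exact hD (le_bot_iff.mp hDZ)
    · apply not_comm_360 hG
      refine ⟨⟨fun a b => ?_⟩⟩
      have ha : a ∈ Subgroup.center G := by rw [ht]; trivial
      exact ((Subgroup.mem_center_iff.1 ha) b).symm
  have hidx := six_le_index hG C hCne
  have hCcard : Nat.card C = 36 ∧ Nat.card (Sylow 3 C) = 4 := by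
    have h1 := Subgroup.index_mul_card C
    rw [hG] at h1
    have hmod : Nat.card (Sylow 3 C) % 3 = 1 := card_sylow_modEq_one 3 C
    obtain ⟨k, hk⟩ := hdvd
    obtain ⟨n, hn⟩ : ∃ n, n = Nat.card (Sylow 3 C) := ⟨_, rfl⟩
    obtain ⟨i, hi⟩ : ∃ i, i = C.index := ⟨_, rfl⟩
    rw [← hn] at hk hmod hn4 ⊢
    rw [← hi] at h1 hidx
    rw [hk] at h1 ⊢
    have hk0 : 0 < k := by
      rcases Nat.eq_zero_or_pos k with h0 | h0
      · rw [h0] at h1; simp at h1
      · exact h0
    have h40 : i * n * k = 40 := by
      have : i * (n * 9 * k) = 9 * (i * n * k) := by ring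
      omega
    have hin : i * n ≤ 40 := by
      calc i * n = i * n * 1 := (mul_one _).symm
        _ ≤ i * n * k := Nat.mul_le_mul_left _ hk0
        _ = 40 := h40
    have hn6 : n ≤ 6 := by
      by_contra hcon
      push Not at hcon
      have : 6 * 7 ≤ i * n := Nat.mul_le_mul hidx hcon
      omega
    have hn4' : n = 4 := by
      interval_cases n <;> omega
    subst hn4'
    have hik : i * k = 10 := by
      have : i * 4 * k = 4 * (i * k) := by ring
      omega
    have hi10 : i ≤ 10 := by
      calc i = i * 1 := (mul_one _).symm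
        _ ≤ i * k := Nat.mul_le_mul_left _ hk0
        _ = 10 := hik
    have hk1 : k = 1 := by
      interval_cases i <;> omega
    subst hk1
    exact ⟨by norm_num, rfl⟩
  obtain ⟨hC36, hnC⟩ := hCcard
  -- a central element of order three in the centralizer
  obtain ⟨x, hxD, hx1⟩ : ∃ x ∈ ((P : Subgroup G) ⊓ (Q : Subgroup G) : Subgroup G), x ≠ 1 := by
    by_contra hcon
    push Not at hcon
    apply hD
    rw [eq_bot_iff]
    intro x hx
    rw [Subgroup.mem_bot]
    exact hcon x hx
  have hx3 : orderOf x = 3 := by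
    have h1 : orderOf x ∣ 3 := by
      rw [← hD3]; exact Subgroup.orderOf_dvd_natCard _ hxD
    rcases (Nat.dvd_prime (by norm_num)).mp h1 with h | h
    · exact absurd (orderOf_eq_one_iff.mp h) hx1
    · exact h
  have hxC : x ∈ C := hPC hxD.1
  have hdZ : (⟨x, hxC⟩ : C) ∈ Subgroup.center C := by
    rw [Subgroup.mem_center_iff]
    intro g
    have hg : (g : G) ∈
        Subgroup.centralizer (((P : Subgroup G) ⊓ (Q : Subgroup G) : Subgroup G) : Set G) :=
      hCdef ▸ g.2
    rw [Subgroup.mem_centralizer_iff] at hg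
    apply Subtype.ext
    exact (hg x hxD).symm
  have hd3 : orderOf (⟨x, hxC⟩ : C) = 3 := by
    rw [Subgroup.orderOf_mk]; exact hx3
  obtain ⟨T⟩ := (Sylow.nonempty : Nonempty (Sylow 2 C))
  have hTn := sylow2_normal_of_card_36 hC36 _ hd3 hdZ (by rw [hnC]; norm_num) T
  have hT4 : Nat.card (T : Subgroup C) = 4 := by
    have := sylow_card_of_card_eq T (k := 2) (m := 9) (by rw [hC36]; norm_num) (by norm_num)
    simpa using this
  -- back in the big group
  obtain ⟨T', hT'def⟩ : ∃ T' : Subgroup G, T' = (T : Subgroup C).map C.subtype := ⟨_, rfl⟩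
  have hT'4 : Nat.card T' = 4 := by
    rw [hT'def, Subgroup.card_map_of_injective C.subtype_injective, hT4]
  have hCN : C ≤ Subgroup.normalizer (T' : Set G) := by
    have h1 := Subgroup.le_normalizer_map (H := (T : Subgroup C)) C.subtype
    rw [Subgroup.normalizer_eq_top_iff.mpr hTn, ← MonoidHom.range_eq_map, Subgroup.range_subtype]
      at h1
    rw [hT'def]
    exact h1
  have hT'p : IsPGroup 2 T' := IsPGroup.of_card (n := 2) (by rw [hT'4]; norm_num)
  obtain ⟨S, hS⟩ := hT'p.exists_le_sylow
  have hS8 : Nat.card (S : Subgroup G) = 8 := by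
    have := sylow_card_of_card_eq S (k := 3) (m := 45) (by rw [hG]; norm_num) (by norm_num)
    simpa using this
  have hSN : (S : Subgroup G) ≤ Subgroup.normalizer (T' : Set G) := by
    rw [← Subgroup.normal_subgroupOf_iff_le_normalizer hS]
    apply Subgroup.normal_of_index_eq_two
    have h1 := Subgroup.index_mul_card (T'.subgroupOf (S : Subgroup G))
    have h2 : Nat.card (T'.subgroupOf (S : Subgroup G)) = 4 := by
      rw [← hT'4]
      exact Nat.card_congr (Subgroup.subgroupOfEquivOfLe hS).toEquiv
    rw [h2, hS8] at h1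
    omega
  have h36 : 36 ∣ Nat.card (Subgroup.normalizer (T' : Set G)) := by
    rw [← hC36]; exact Subgroup.card_dvd_of_le hCN
  have h8 : 8 ∣ Nat.card (Subgroup.normalizer (T' : Set G)) := by
    rw [← hS8]; exact Subgroup.card_dvd_of_le hSN
  have h72 : 72 ∣ Nat.card (Subgroup.normalizer (T' : Set G)) := by
    have := Nat.lcm_dvd h36 h8
    norm_num at this
    exact this
  have hNtop : Subgroup.normalizer (T' : Set G) = ⊤ := by
    by_contra hne
    have h6 := six_le_index hG _ hne
    have h1 := Subgroup.index_mul_card (Subgroup.normalizer (T' : Set G))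
    rw [hG] at h1
    obtain ⟨k, hk⟩ := h72
    rw [hk] at h1
    have hk0 : 0 < k := by
      rcases Nat.eq_zero_or_pos k with h0 | h0
      · rw [h0] at h1; simp at h1
      · exact h0
    have : 6 * (72 * 1) ≤ (Subgroup.normalizer (T' : Set G)).index * (72 * k) :=
      Nat.mul_le_mul h6 (Nat.mul_le_mul_left _ hk0)
    omega
  have hT'n : T'.Normal := Subgroup.normalizer_eq_top_iff.mp hNtop
  rcases hT'n.eq_bot_or_eq_top with hb | ht
  · rw [hb, Subgroup.card_bot] at hT'4
    omega
  · rw [ht, Subgroup.card_top, hG] at hT'4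
    omega

end S360

end Cfsg.Agent.Lib.Helper61.A6
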