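import Mathlib
import Cfsg.Agent.Lib.Helper61.A6TI
import Cfsg.Agent.Lib.Helper17.SimpleTools

set_option autoImplicit false
set_option linter.unusedSectionVars false

namespace Cfsg.Agent.Lib.Helper61.A6

open Cfsg.Agent.Lib.Helper17

section S360
variable {G : Type*} [Group G] [Finite G] [IsSimpleGroup G] [Fact (Nat.Prime 2)]
  [Fact (Nat.Prime 3)]

/-- an element of a Sylow 3-subgroup fixing another Sylow 3-subgroup is trivial -/
theorem eq_one_of_smul_eq (hG : Nat.card G = 360) (P Q : Sylow 3 G) (hQ : Q ≠ P) (x : G)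
    (hx : x ∈ (P : Subgroup G)) (h : x • Q = Q) : x = 1 := by
  have hN : x ∈ Subgroup.normalizer ((Q : Subgroup G) : Set G) :=
    Sylow.smul_eq_iff_mem_normalizer.mp h
  have hpg : IsPGroup 3 (Subgroup.zpowers x) :=
    P.isPGroup'.to_le (Subgroup.zpowers_le.mpr hx)
  have hxQ : x ∈ (Q : Subgroup G) := mem_sylow_of_mem_normalizer Q _ hpg hN
  have hmem : x ∈ (P : Subgroup G) ⊓ (Q : Subgroup G) := ⟨hx, hxQ⟩
  rw [sylow3_TI hG P Q hQ.symm] at hmem
  exact Subgroup.mem_bot.mp hmem

theorem smul_sylow_of_mem (P : Sylow 3 G) (x : G) (hx : x ∈ (P : Subgroup G)) : x • P = P :=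
  Sylow.smul_eq_iff_mem_normalizer.mpr (Subgroup.le_normalizer hx)

/-- a Sylow 3-subgroup is transitive on the other Sylow 3-subgroups -/
theorem exists_smul_eq_of_ne (hG : Nat.card G = 360) (P Q1 Q : Sylow 3 G) (hQ1 : Q1 ≠ P)
    (hQ : Q ≠ P) : ∃ x ∈ (P : Subgroup G), x • Q1 = Q := by
  have hinj : Function.Injective (fun x : (P : Subgroup G) => (x : G) • Q1) := by
    intro x y hxy
    have hxy' : (x : G) • Q1 = (y : G) • Q1 := hxy
    have h1 : ((y : G)⁻¹ * x) • Q1 = Q1 := by
      rw [mul_smul, hxy', inv_smul_smul]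
    have h2 := eq_one_of_smul_eq hG P Q1 hQ1 _
      ((P : Subgroup G).mul_mem ((P : Subgroup G).inv_mem y.2) x.2) h1
    apply Subtype.ext
    exact (inv_mul_eq_one.mp h2).symm
  have hsub : Set.range (fun x : (P : Subgroup G) => (x : G) • Q1) ⊆
      ({P}ᶜ : Set (Sylow 3 G)) := by
    rintro R ⟨x, rfl⟩
    simp only [Set.mem_compl_iff, Set.mem_singleton_iff]
    intro h
    apply hQ1
    have h1 : Q1 = (x : G)⁻¹ • P := by
      have := congrArg (fun R : Sylow 3 G => (x : G)⁻¹ • R) h
      simp only [inv_smul_smul] at this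
      exact this
    rw [h1]
    exact smul_sylow_of_mem P _ ((P : Subgroup G).inv_mem x.2)
  have hcard : ({P}ᶜ : Set (Sylow 3 G)).ncard ≤
      (Set.range (fun x : (P : Subgroup G) => (x : G) • Q1)).ncard := by
    rw [Set.ncard_range_of_injective hinj, card_sylow3_subgroup hG P]
    have := Set.ncard_add_ncard_compl ({P} : Set (Sylow 3 G))
    rw [Set.ncard_singleton, card_sylow3 hG] at this
    omega
  have heq := Set.eq_of_subset_of_ncard_le hsub hcard
  have hmem : Q ∈ ({P}ᶜ : Set (Sylow 3 G)) := by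
    simp only [Set.mem_compl_iff, Set.mem_singleton_iff]
    exact hQ
  rw [← heq] at hmem
  obtain ⟨x, hx⟩ := hmem
  exact ⟨x.1, x.2, hx⟩

theorem exists_sylow3_ne (hG : Nat.card G = 360) (P : Sylow 3 G) : ∃ Q : Sylow 3 G, Q ≠ P := by
  by_contra hcon
  push Not at hcon
  have hsub : Subsingleton (Sylow 3 G) := ⟨fun a b => by rw [hcon a, hcon b]⟩
  have hle : Nat.card (Sylow 3 G) ≤ 1 := Finite.card_le_one_iff_subsingleton.mpr hsub
  rw [card_sylow3 hG] at hle
  omega

/-- an involution centralising a Sylow 3-subgroup does not exist -/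
theorem eq_one_of_centralizes (hG : Nat.card G = 360) (P : Sylow 3 G) (t : G)
    (ht : t ∈ Subgroup.centralizer ((P : Subgroup G) : Set G)) (ht2 : t ^ 2 = 1) : t = 1 := by
  have htP : t • P = P :=
    Sylow.smul_eq_iff_mem_normalizer.mpr (Subgroup.centralizer_le_normalizer _ ht)
  have hpg : IsPGroup 2 (Subgroup.zpowers t) := by
    intro g
    refine ⟨1, ?_⟩
    obtain ⟨g, hg⟩ := g
    obtain ⟨n, rfl⟩ := Subgroup.mem_zpowers_iff.mp hg
    apply Subtype.ext
    show (t ^ n) ^ 2 ^ 1 = 1
    rw [pow_one, ← zpow_natCast, ← zpow_mul, mul_comm, zpow_mul, zpow_natCast, ht2, one_zpow]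
  have hfixP : P ∈ MulAction.fixedPoints (Subgroup.zpowers t) (Sylow 3 G) := by
    intro g
    obtain ⟨g, hg⟩ := g
    obtain ⟨n, rfl⟩ := Subgroup.mem_zpowers_iff.mp hg
    show (t ^ n) • P = P
    exact Sylow.smul_eq_iff_mem_normalizer.mpr
      (Subgroup.zpow_mem _ (Sylow.smul_eq_iff_mem_normalizer.mp htP) n)
  -- a second fixed point
  obtain ⟨Q1, hQ1fix, hQ1⟩ : ∃ Q1 ∈ MulAction.fixedPoints (Subgroup.zpowers t) (Sylow 3 G),
      Q1 ≠ P := by
    by_contra hcon
    push Not at hcon
    have hmod := hpg.card_modEq_card_fixedPoints (Sylow 3 G)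
    have hone : Nat.card (MulAction.fixedPoints (Subgroup.zpowers t) (Sylow 3 G)) = 1 := by
      rw [Nat.card_eq_one_iff_unique]
      refine ⟨⟨fun a b => ?_⟩, ⟨⟨P, hfixP⟩⟩⟩
      apply Subtype.ext
      rw [hcon a.1 a.2, hcon b.1 b.2]
    rw [hone, card_sylow3 hG] at hmod
    exact absurd hmod (by decide)
  have htQ1 : t • Q1 = Q1 := hQ1fix ⟨t, Subgroup.mem_zpowers t⟩
  -- every Sylow subgroup is fixed
  have hall : ∀ Q : Sylow 3 G, t • Q = Q := by
    intro Q
    by_cases hQ : Q = P
    · rw [hQ]; exact htP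
    · obtain ⟨x, hx, rfl⟩ := exists_smul_eq_of_ne hG P Q1 Q hQ1 hQ
      have hcomm : t * x = x * t := by
        rw [Subgroup.mem_centralizer_iff] at ht
        exact (ht x hx).symm
      rw [smul_smul, hcomm, mul_smul, htQ1]
  have hker : t ∈ (MulAction.toPermHom G (Sylow 3 G)).ker := by
    rw [MonoidHom.mem_ker]
    apply Equiv.ext
    intro Q
    exact hall Q
  rcases (MulAction.toPermHom G (Sylow 3 G)).normal_ker.eq_bot_or_eq_top with hb | htop
  · rw [hb] at hker
    exact Subgroup.mem_bot.mp hker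
  · exfalso
    obtain ⟨Q0, hQ0⟩ := exists_sylow3_ne hG P
    obtain ⟨g, hg⟩ := MulAction.exists_smul_eq G P Q0
    have hgk : g ∈ (MulAction.toPermHom G (Sylow 3 G)).ker := by rw [htop]; trivial
    rw [MonoidHom.mem_ker] at hgk
    have := congrArg (fun σ : Equiv.Perm (Sylow 3 G) => σ P) hgk
    simp only [MulAction.toPermHom_apply, MulAction.toPerm_apply, Equiv.Perm.one_apply] at this
    exact hQ0 (by rw [← hg, this])

/-- a Sylow 3-subgroup has exponent three -/
theorem pow_three_eq_one (hG : Nat.card G = 360) (P : Sylow 3 G) (x : G)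
    (hx : x ∈ (P : Subgroup G)) : x ^ 3 = 1 := by
  by_contra hx3
  have hP9 := card_sylow3_subgroup hG P
  have hord : orderOf x = 9 := by
    have h1 : orderOf x ∣ 9 := by
      rw [← hP9]; exact Subgroup.orderOf_dvd_natCard _ hx
    have hmem : orderOf x ∈ Nat.divisors 9 := Nat.mem_divisors.mpr ⟨h1, by norm_num⟩
    have hdiv : Nat.divisors 9 = {1, 3, 9} := by decide
    rw [hdiv] at hmem
    simp only [Finset.mem_insert, Finset.mem_singleton] at hmem
    rcases hmem with h | h | h
    · exfalso; apply hx3; rw [orderOf_eq_one_iff.mp h, one_pow]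
    · exfalso; apply hx3; rw [← h]; exact pow_orderOf_eq_one x
    · exact h
  have hcyc : IsCyclic (P : Subgroup G) := by
    apply isCyclic_of_orderOf_eq_card (⟨x, hx⟩ : (P : Subgroup G))
    rw [Subgroup.orderOf_mk, hord, hP9]
  have haut : Nat.card (MulAut (P : Subgroup G)) = 6 := by
    rw [IsCyclic.card_mulAut, hP9]; decide
  have hrel := relIndex_centralizer_normalizer_dvd_card_mulAut (P : Subgroup G)
  rw [haut] at hrel
  have hcn := card_mul_relIndex_of_le
    (Subgroup.centralizer_le_normalizer ((P : Subgroup G) : Set G))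
  rw [card_normalizer_sylow3 hG P] at hcn
  have hPcomm : IsMulCommutative (P : Subgroup G) :=
    IsPGroup.isMulCommutative_of_card_eq_prime_sq (p := 3) (by rw [hP9]; norm_num)
  have hPC : (P : Subgroup G) ≤ Subgroup.centralizer ((P : Subgroup G) : Set G) := by
    intro a ha
    rw [Subgroup.mem_centralizer_iff]
    intro b hb
    have := hPcomm.is_comm.comm (⟨b, hb⟩ : (P : Subgroup G)) ⟨a, ha⟩
    exact congrArg Subtype.val this
  have h9 : 9 ∣ Nat.card (Subgroup.centralizer ((P : Subgroup G) : Set G)) := by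
    rw [← hP9]; exact Subgroup.card_dvd_of_le hPC
  have h2 : 2 ∣ Nat.card (Subgroup.centralizer ((P : Subgroup G) : Set G)) := by
    obtain ⟨c, hc⟩ := h9
    obtain ⟨r, hr⟩ := hrel
    rw [hc] at hcn ⊢
    have hcr : c * (Subgroup.centralizer ((P : Subgroup G) : Set G)).relIndex
        (Subgroup.normalizer ((P : Subgroup G) : Set G)) = 4 := by
      have : 9 * c * (Subgroup.centralizer ((P : Subgroup G) : Set G)).relIndex
          (Subgroup.normalizer ((P : Subgroup G) : Set G)) = 9 * (c *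
          (Subgroup.centralizer ((P : Subgroup G) : Set G)).relIndex
          (Subgroup.normalizer ((P : Subgroup G) : Set G))) := by ring
      omega
    obtain ⟨i, hi⟩ : ∃ i, i = (Subgroup.centralizer ((P : Subgroup G) : Set G)).relIndex
        (Subgroup.normalizer ((P : Subgroup G) : Set G)) := ⟨_, rfl⟩
    rw [← hi] at hcr hr
    have hi4 : i ∣ 4 := ⟨c, by rw [← hcr]; ring⟩
    have hi6 : i ∣ 6 := ⟨r, hr⟩
    have hi2 : i ∣ 2 := by
      have := Nat.dvd_gcd hi4 hi6
      norm_num at this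
      exact this
    have hi' : i = 1 ∨ i = 2 := (Nat.dvd_prime (by norm_num)).mp hi2
    rcases hi' with rfl | rfl
    · have : c = 4 := by omega
      subst this
      norm_num
    · have : c = 2 := by omega
      subst this
      norm_num
  obtain ⟨t, htC, ht2⟩ := exists_mem_orderOf_eq_of_dvd_card _ 2 h2
  have h1 := eq_one_of_centralizes hG P t htC (by rw [← ht2]; exact pow_orderOf_eq_one t)
  rw [h1, orderOf_one] at ht2
  omega

end S360

end Cfsg.Agent.Lib.Helper61.A6
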