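import Mathlib
import Cfsg.Agent.Lib.Helper61.A6Frame
import Cfsg.Agent.Lib.Helper61.A6Reg

set_option autoImplicit false
set_option linter.unusedSectionVars false

namespace Cfsg.Agent.Lib.Helper61.A6

open Cfsg.Agent.Lib.Helper17

section S360
variable {G : Type*} [Group G] [Finite G] [IsSimpleGroup G] [Fact (Nat.Prime 2)]
  [Fact (Nat.Prime 3)]

/-- a simple group of order 360 has a frame -/
theorem exists_base9 (hG : Nat.card G = 360) : Nonempty (Base9 G) := by
  obtain ⟨P⟩ := (Sylow.nonempty : Nonempty (Sylow 3 G))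
  have hP9 := card_sylow3_subgroup hG P
  have hPcomm : IsMulCommutative (P : Subgroup G) :=
    IsPGroup.isMulCommutative_of_card_eq_prime_sq (p := 3) (by rw [hP9]; norm_num)
  have hcomm : ∀ x ∈ (P : Subgroup G), ∀ y ∈ (P : Subgroup G), x * y = y * x := by
    intro x hx y hy
    have := hPcomm.is_comm.comm (⟨x, hx⟩ : (P : Subgroup G)) ⟨y, hy⟩
    exact congrArg Subtype.val this
  obtain ⟨a, haP, ha1⟩ : ∃ a ∈ (P : Subgroup G), a ≠ 1 := by
    by_contra hcon
    push Not at hcon
    have : (P : Subgroup G) = ⊥ := by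
      rw [eq_bot_iff]
      intro x hx
      rw [Subgroup.mem_bot]
      exact hcon x hx
    rw [this, Subgroup.card_bot] at hP9
    omega
  have ha3 := pow_three_eq_one hG P a haP
  obtain ⟨b, hbP, hbz⟩ : ∃ b ∈ (P : Subgroup G), b ∉ Subgroup.zpowers a := by
    by_contra hcon
    push Not at hcon
    have hle : (P : Subgroup G) ≤ Subgroup.zpowers a := hcon
    have h1 := Subgroup.card_le_of_le hle
    rw [hP9, Nat.card_zpowers] at h1
    have h2 : orderOf a ≤ 3 := orderOf_le_of_pow_eq_one (by norm_num) ha3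
    omega
  have hb3 := pow_three_eq_one hG P b hbP
  obtain ⟨Q0, hQ0⟩ := exists_sylow3_ne hG P
  have hb2 : b ^ 2 ∉ Subgroup.zpowers a := by
    intro h
    apply hbz
    have : b = (b ^ 2) ^ 2 := by
      have h4 : (b ^ 2) ^ 2 = b ^ 3 * b := by
        rw [← pow_mul, pow_succ]
      rw [h4, hb3, one_mul]
    rw [this]
    exact Subgroup.pow_mem _ h 2
  have key : ∀ (k : ℕ) (y : G), y ∉ Subgroup.zpowers a → a ^ k * y = 1 → False := by
    intro k y hy h
    apply hy
    have : y = (a ^ k)⁻¹ := eq_inv_of_mul_eq_one_right h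
    rw [this]
    exact Subgroup.inv_mem _ (Subgroup.pow_mem _ (Subgroup.mem_zpowers a) k)
  refine ⟨⟨P, a, b, haP, hbP, ha3, hb3, hcomm a haP b hbP, ?_, Q0, hQ0, ?_, hP9, card_sylow3 hG,
    card_normalizer_sylow3 hG P⟩⟩
  · rintro ⟨i, j⟩ h
    have v0 : (0 : ZMod 3).val = 0 := rfl
    have v1 : (1 : ZMod 3).val = 1 := rfl
    have v2 : (2 : ZMod 3).val = 2 := rfl
    rcases zmod3_cases i with rfl | rfl | rfl <;> rcases zmod3_cases j with rfl | rfl | rfl <;>
      simp only [v0, v1, v2] at h
    · rfl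
    · rw [pow_one] at h
      exact (key _ _ hbz h).elim
    · exact (key _ _ hb2 h).elim
    · rw [pow_zero, mul_one, pow_one] at h
      exact absurd h ha1
    · rw [pow_one (a := b)] at h
      exact (key _ _ hbz h).elim
    · exact (key _ _ hb2 h).elim
    · rw [pow_zero, mul_one] at h
      exfalso
      apply ha1
      have : a = a ^ 3 * (a ^ 2)⁻¹ := by group
      rw [this, ha3, h, inv_one, mul_one]
    · rw [pow_one (a := b)] at h
      exact (key _ _ hbz h).elim
    · exact (key _ _ hb2 h).elim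
  · intro Q hQ x hx h
    exact eq_one_of_smul_eq hG P Q hQ x hx h

end S360

/-- any two simple groups of order 360 are isomorphic -/
theorem iso_of_simple_360 {G H : Type*} [Group G] [Finite G] [IsSimpleGroup G] [Group H]
    [Finite H] [IsSimpleGroup H] (hG : Nat.card G = 360) (hH : Nat.card H = 360) :
    Nonempty (G ≃* H) := by
  have f2 := fact2'
  have f3 := fact3'
  obtain ⟨B1⟩ := exists_base9 hG
  obtain ⟨B2⟩ := exists_base9 hH
  obtain ⟨e⟩ := Good.iso B1.good B2.good
  exact ⟨(MonoidHom.ofInjective B1.psi_injective).trans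
    (e.trans (MonoidHom.ofInjective B2.psi_injective).symm)⟩

end Cfsg.Agent.Lib.Helper61.A6
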