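import Mathlib
import Cfsg.Prelude.Def_GeometricClasses
import Cfsg.Agent.Lib.Helper94.BHRSP.Defs
import Cfsg.Agent.Lib.Helper94.BHRSP.Kit
import Cfsg.Agent.Lib.Helper94.BHRSP.Kit2
import Cfsg.Agent.Lib.Helper19.BhrspP1
import Cfsg.Agent.Lib.Helper21.BhrspP2
import Cfsg.Agent.Lib.Helper34.BhrspP3
import Cfsg.Agent.Lib.Helper17.BhrspP47
import Cfsg.Agent.Lib.Helper34.BhrspP5
import Cfsg.Agent.Lib.Helper86.BhrspP6
import Cfsg.Agent.Lib.Helper19.BhrspP8
import Cfsg.Agent.Lib.Helper19.BhrspASympdim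

/-!
# BHRSP (helper61): helper94's [PROPER] + [MAX] (`Lib/Helper94/BHRSP/Max.lean.txt`, verbatim proofs) over the LANDED leaves,
in helper61's own namespace so that it cannot clash with helper94's official file.  Used by the rows [ROW-5844], [ROW-5868].
-/

set_option autoImplicit false

namespace Cfsg.Agent.Lib.Helper61.BhrspMax

open Cfsg Cfsg.Geo Cfsg.Agent.Lib.Helper94.BHRSP
open scoped MatrixGroups Matrix Kronecker

variable {F : Type*} [Field F] [Fintype F] {m : ℕ}

namespace Max

theorem card_index_eq : Fintype.card (Fin m ⊕ Fin m) = 2 * m := by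
  rw [Fintype.card_sum, Fintype.card_fin]; ring

/-- `V ≠ 0` has a non-zero vector -/
theorem exists_ne_zero (hm : 1 ≤ m) : ∃ v : Fin m ⊕ Fin m → F, v ≠ 0 := by
  refine ⟨Pi.single (Sum.inl ⟨0, by omega⟩) 1, ?_⟩
  intro h
  have := congrFun h (Sum.inl ⟨0, by omega⟩)
  simp at this

theorem top_not_totallySingular (hm : 1 ≤ m) :
    ¬ IsTotallySingularFor (sympForm m F) (⊤ : Submodule F (Fin m ⊕ Fin m → F)) := by
  intro h
  obtain ⟨v, hv⟩ := exists_ne_zero (F := F) hm
  obtain ⟨x, hx⟩ := exists_sympForm_ne_zero v hv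
  exact hx (h v trivial x trivial)

theorem subfield_ne_top (F₀ : Subfield F) (r : ℕ) (hr : r.Prime)
    (hcard : Fintype.card F = Nat.card F₀ ^ r) : F₀ ≠ ⊤ := by
  intro h
  have h1 : Nat.card F₀ = Fintype.card F := by
    rw [h, ← Nat.card_eq_fintype_card]
    exact Nat.card_congr (Subfield.topEquiv (K := F)).toEquiv
  rw [h1] at hcard
  have hq : 2 ≤ Fintype.card F := Fintype.one_lt_card
  have hr2 := hr.two_le
  have : Fintype.card F ^ 1 < Fintype.card F ^ r := Nat.pow_lt_pow_right (by omega) (by omega)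
  rw [pow_one] at this
  omega

end Max

/-- every member lies in `spGL` -/
theorem le_spGL_of_inSymplecticClassR (M : Subgroup (GL (Fin m ⊕ Fin m) F))
    (hM : InSymplecticClassR m F M) : M ≤ spGL m F := by
  rcases hM with (h | h | h | h | h | h | h) | h | h | h | h
  · obtain ⟨W, -, -, rfl⟩ := h; exact inf_le_right
  · obtain ⟨W, -, -, -, rfl⟩ := h; exact inf_le_right
  · obtain ⟨t, k, D, -, rfl⟩ := h; exact inf_le_right
  · obtain ⟨D, -, -, -, rfl⟩ := h; exact inf_le_right
  · obtain ⟨F₀, r, P, ζ, -, -, -, -, rfl⟩ := h; exact inf_le_right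
  · obtain ⟨R, p, k, -, -, -, -, -, -, -, -, -, -, rfl⟩ := h; exact inf_le_right
  · obtain ⟨Q, -, -, -, rfl⟩ := h; exact inf_le_right
  · obtain ⟨r, K, -, -, -, -, rfl⟩ := h; exact inf_le_right
  · obtain ⟨K, -, -, -, -, rfl⟩ := h; exact inf_le_right
  · obtain ⟨n₁, n₂, e, P, f₁, f₂, -, -, -, -, -, rfl⟩ := h; exact inf_le_right
  · obtain ⟨k, t, e, P, f₁, -, -, -, -, -, -, rfl⟩ := h; exact inf_le_right

/-- **[PROPER]** -/
theorem not_spGL_le_of_inSymplecticClassR' (hm : 2 ≤ m) (M : Subgroup (GL (Fin m ⊕ Fin m) F))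
    (hM : InSymplecticClassR m F M) : ¬ spGL m F ≤ M := by
  rcases hM with (h | h | h | h | h | h | h) | h | h | h | h
  · obtain ⟨W, hW, hts, rfl⟩ := h
    intro hle
    refine not_spGL_le_subspaceStabilizer W hW ?_ (hle.trans inf_le_left)
    rintro rfl
    exact Max.top_not_totallySingular (by omega) hts
  · obtain ⟨W, hW, -, hlt, rfl⟩ := h
    intro hle
    refine not_spGL_le_subspaceStabilizer W hW ?_ (hle.trans inf_le_left)
    rintro rfl
    rw [finrank_top, Module.finrank_fintype_fun_eq_card, Max.card_index_eq] at hlt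
    omega
  · obtain ⟨t, k, D, hD, rfl⟩ := h
    intro hle
    exact not_spGL_le_decompositionStabilizer D hD.decomp (hle.trans inf_le_left)
  · obtain ⟨D, -, hD, -, rfl⟩ := h
    intro hle
    exact not_spGL_le_decompositionStabilizer D hD (hle.trans inf_le_left)
  · obtain ⟨F₀, r, P, ζ, hr, hcard, -, -, rfl⟩ := h
    intro hle
    exact not_spGL_le_subfieldSubgroup (by omega) F₀ (Max.subfield_ne_top F₀ r hr hcard) P
      (hle.trans inf_le_left)
  · obtain ⟨R, p, k, hst, habs, hsim, hp, hpodd, hcard, -, -, -, -, rfl⟩ := h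
    intro hle
    exact not_spGL_le_subgroupNormalizer hm (by rw [hcard]; exact hpodd) R hst.pGroup habs hsim
      (hle.trans inf_le_left)
  · obtain ⟨Q, heven, hQ, hpol, rfl⟩ := h
    intro hle
    exact not_spGL_le_quadSimilarityGroup hm heven Q hQ hpol (hle.trans inf_le_left)
  · obtain ⟨r, K, hr, hK, -, -, rfl⟩ := h
    intro hle
    exact not_spGL_le_subalgebraNormalizer hm r hr.two_le K hK (hle.trans inf_le_left)
  · obtain ⟨K, -, hK, -, -, rfl⟩ := h
    intro hle
    exact not_spGL_le_subalgebraNormalizer hm 2 le_rfl K hK (hle.trans inf_le_left)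
  · obtain ⟨n₁, n₂, e, P, f₁, f₂, -, hn₂, hf₁, -, -, rfl⟩ := h
    intro hle
    have hcard : n₁ * n₂ = 2 * m := by
      have := Fintype.card_congr e
      rw [Max.card_index_eq, Fintype.card_prod, Fintype.card_fin, Fintype.card_fin] at this
      exact this.symm
    have hev := even_of_isSymplecticForm f₁ hf₁
    have hn₁ : 2 ≤ n₁ := by
      obtain ⟨c, hc⟩ := hev
      rcases Nat.eq_zero_or_pos c with h0 | h0
      · subst h0; simp at hc; subst hc; simp at hcard; omega
      · omega
    exact not_spGL_le_tensorProductSubgroup n₁ n₂ hn₁ (by omega) e P (hle.trans inf_le_left)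
  · obtain ⟨k, t, e, P, f₁, -, -, ht, -, hf₁, -, rfl⟩ := h
    intro hle
    have hcard : k ^ t = 2 * m := by
      have := Fintype.card_congr e
      rw [Max.card_index_eq, Fintype.card_fun, Fintype.card_fin, Fintype.card_fin] at this
      exact this.symm
    have hev := even_of_isSymplecticForm f₁ hf₁
    have hk : 2 ≤ k := by
      obtain ⟨c, hc⟩ := hev
      rcases Nat.eq_zero_or_pos c with h0 | h0
      · subst h0; simp at hc; subst hc
        rw [zero_pow (by omega)] at hcard; omega
      · omega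
    exact not_spGL_le_tensorWreathSubgroup k t hk (by omega) e P (hle.trans inf_le_left)

/-- **[MAX]** a maximal subgroup contained in a member equals it. -/
theorem eq_of_le_member' (hm : 2 ≤ m) (H : Subgroup (GL (Fin m ⊕ Fin m) F)) (hH : IsMaximalIn (spGL m F) H)
    (M : Subgroup (GL (Fin m ⊕ Fin m) F)) (hM : InSymplecticClassR m F M) (hle : H ≤ M) : H = M := by
  rcases hH.2 M hle (le_spGL_of_inSymplecticClassR M hM) with h | h
  · exact h.symm
  · exact absurd h.ge (not_spGL_le_of_inSymplecticClassR' hm M hM)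

/-- `spGL` is not scalar -/
theorem not_spGL_le_scalars (hm : 1 ≤ m) : ¬ spGL m F ≤ scalars (Fin m ⊕ Fin m) F := by
  intro hle
  let u : Fin m ⊕ Fin m → F := Pi.single (Sum.inl ⟨0, by omega⟩) 1
  let v : Fin m ⊕ Fin m → F := Pi.single (Sum.inr ⟨0, by omega⟩) 1
  have hu : u ≠ 0 := by
    intro h
    have := congrFun h (Sum.inl ⟨0, by omega⟩)
    simp [u] at this
  have hv : v ≠ 0 := by
    intro h
    have := congrFun h (Sum.inr ⟨0, by omega⟩)
    simp [v] at this
  obtain ⟨g, hg, hguv⟩ := exists_spGL_mulVec_eq u v hu hv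
  obtain ⟨c, hc⟩ := (mem_scalars_iff g).mp (hle hg)
  rw [hc, Matrix.smul_mulVec, Matrix.one_mulVec] at hguv
  have := congrFun hguv (Sum.inr ⟨0, by omega⟩)
  simp [u, v] at this

/-- **[MAX]** a maximal subgroup is a member or residual. -/
theorem maximal_eq_member' (hA : AschR m F) (hm : 2 ≤ m) (hex : ¬ (m = 2 ∧ Fintype.card F = 2))
    (H : Subgroup (GL (Fin m ⊕ Fin m) F)) (hH : IsMaximalIn (spGL m F) H) :
    (∃ M : Subgroup (GL (Fin m ⊕ Fin m) F), InSymplecticClassR m F M ∧ H = M) ∨ InSymplecticResidualClass H := by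
  have hHle : H ≤ spGL m F := hH.1.le
  have hproper : H ⊔ (scalars (Fin m ⊕ Fin m) F ⊓ spGL m F) ≠ spGL m F := by
    intro heq
    -- spGL normalises H
    have hnorm : ∀ g ∈ spGL m F, ∀ x ∈ H, g * x * g⁻¹ ∈ H := by
      have hle : H ⊔ (scalars (Fin m ⊕ Fin m) F ⊓ spGL m F) ≤ Subgroup.normalizer (H : Set (GL (Fin m ⊕ Fin m) F)) := by
        apply sup_le Subgroup.le_normalizer
        intro z hz
        rw [Subgroup.mem_normalizer_iff]
        intro h
        obtain ⟨c, hc⟩ := (mem_scalars_iff z).mp hz.1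
        have hcomm : z * h = h * z := by
          apply Units.ext
          rw [Units.val_mul, Units.val_mul, hc, Matrix.smul_mul, Matrix.mul_smul, one_mul, mul_one]
        have : z * h * z⁻¹ = h := by rw [hcomm, mul_inv_cancel_right]
        rw [this]
      intro g hg x hx
      rw [← heq] at hg
      exact (Subgroup.mem_normalizer_iff.mp (hle hg) x).mp hx
    rcases normal_le_scalars_or_eq hm hex H hHle hnorm with h | h
    · apply not_spGL_le_scalars (F := F) (m := m) (by omega)
      rw [← heq]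
      exact sup_le h inf_le_left
    · exact hH.1.ne h
  rcases hA H hHle hproper with ⟨M, hM, hle⟩ | hres
  · exact Or.inl ⟨M, hM, eq_of_le_member' hm H hH M hM hle⟩
  · exact Or.inr hres

end Cfsg.Agent.Lib.Helper61.BhrspMax
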