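import Mathlib
import Cfsg.Prelude.Def_GeometricClasses
import Cfsg.Agent.Lib.Helper61.BhrspMax61
import Cfsg.Agent.Lib.Helper19.BhrspANondeg
import Cfsg.Agent.Lib.Helper19.BhrspASympdim
import Cfsg.Agent.Lib.Helper21.BhrspADecomp
import Cfsg.Agent.Lib.Helper21.BhrspAC3Of
import Cfsg.Agent.Lib.Helper17.BhrspC3Two
import Cfsg.Agent.Lib.Helper83.BhrspEQ2

/-!
# BHRSP-[ROW-5844] (helper61): the Sp10 row from the refined main theorem `AschR 5 F`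
-/

set_option autoImplicit false
set_option maxHeartbeats 1000000

namespace Cfsg.Agent.Lib.Helper61.BhrspRow

open Cfsg Cfsg.Geo Cfsg.Agent.Lib.Helper94.BHRSP
open scoped MatrixGroups Matrix Kronecker

/-- arithmetic of a non-degenerate decomposition -/
theorem decomp_arith' {F : Type*} [Field F] [Fintype F] {m t k : ℕ} (D : Fin t → Submodule F (Fin m ⊕ Fin m → F))
    (hD : IsNondegenerateMDecomposition (sympForm m F) k D) :
    t * k = 2 * m ∧ Even k ∧ 0 < k ∧ 2 ≤ t := by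
  refine ⟨mul_eq_of_isMDecomposition D hD.decomp, ?_, hD.decomp.pos, hD.decomp.two_le⟩
  have h0 : 0 < t := by have := hD.decomp.two_le; omega
  have := even_finrank_of_nondegenerateOn (D ⟨0, h0⟩) (hD.nondegenerate ⟨0, h0⟩)
  rwa [hD.decomp.finrank_eq] at this

theorem card_index' {m : ℕ} : Fintype.card (Fin m ⊕ Fin m) = 2 * m := by
  rw [Fintype.card_sum, Fintype.card_fin]; ring

/-- arithmetic of a tensor decomposition -/
theorem tensor_arith {F : Type*} [Field F] [Fintype F] {m n₁ n₂ : ℕ} (e : (Fin m ⊕ Fin m) ≃ Fin n₁ × Fin n₂)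
    (f₁ : (Fin n₁ → F) → (Fin n₁ → F) → F) (hf₁ : IsSymplecticForm f₁) :
    n₁ * n₂ = 2 * m ∧ Even n₁ := by
  refine ⟨?_, even_of_isSymplecticForm f₁ hf₁⟩
  have := Fintype.card_congr e
  rw [card_index', Fintype.card_prod, Fintype.card_fin, Fintype.card_fin] at this
  exact this.symm

/-- arithmetic of a tensor power decomposition -/
theorem power_arith {m k t : ℕ} (e : (Fin m ⊕ Fin m) ≃ (Fin t → Fin k)) : k ^ t = 2 * m := by
  have := Fintype.card_congr e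
  rw [card_index', Fintype.card_fun, Fintype.card_fin, Fintype.card_fin] at this
  exact this.symm

/-- **[A-C3]** from helper21's `_of` form and helper86's [A-C3TWO] -/
theorem dvd_of_selfAdjoint_field61 {F : Type*} [Field F] [Fintype F] {m : ℕ} (r : ℕ) (hr : r.Prime)
    (K : Subalgebra F (Matrix (Fin m ⊕ Fin m) (Fin m ⊕ Fin m) F)) (hK : IsFieldSubalgebra r K)
    (hsa : IsSelfAdjointFor (sympForm m F) K) (halt : ∀ k ∈ K, ∀ v, sympForm m F (k *ᵥ v) v = 0) : r ∣ m :=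
  Cfsg.Agent.Lib.Helper21.BHRSP.dvd_of_selfAdjoint_field_of
    (fun K hK hsa halt => even_of_selfAdjoint_degree_two K hK hsa halt) r hr K hK hsa halt

/-- `2 ^ k` is neither `10` nor `12` -/
theorem two_pow_ne {k : ℕ} : 2 ^ k ≠ 10 ∧ 2 ^ k ≠ 12 := by
  have hlt : k < 4 ∨ 4 ≤ k := lt_or_ge k 4
  rcases hlt with h | h
  · interval_cases k <;> norm_num
  · have := Nat.pow_le_pow_right (by norm_num : 0 < 2) h
    constructor <;> omega

/-- `k ^ t` with `t ≥ 3` is neither `10` nor `12` -/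
theorem pow_ne {k t : ℕ} (ht : 3 ≤ t) : k ^ t ≠ 10 ∧ k ^ t ≠ 12 := by
  rcases lt_or_ge k 3 with h | h
  · interval_cases k
    · rw [zero_pow (by omega)]; constructor <;> norm_num
    · rw [one_pow]; constructor <;> norm_num
    · exact two_pow_ne
  · have h1 : 3 ^ 3 ≤ k ^ 3 := Nat.pow_le_pow_left h 3
    have h2 : k ^ 3 ≤ k ^ t := Nat.pow_le_pow_right (by omega) ht
    constructor <;> omega

end Cfsg.Agent.Lib.Helper61.BhrspRow

namespace Cfsg.Agent.Lib.Helper94.BHRSP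

open Cfsg Cfsg.Geo Cfsg.Agent.Lib.Helper61.BhrspRow Cfsg.Agent.Lib.Helper61.BhrspMax
open scoped MatrixGroups Matrix Kronecker

/-- **[ROW-5844]** Sp10. -/
theorem row5844_of {F : Type*} [Field F] [Fintype F] (hA : AschR 5 F) (H : Subgroup (Matrix.GeneralLinearGroup (Fin 5 ⊕ Fin 5) F)) (hH : Cfsg.Geo.IsMaximalIn (Cfsg.spGL 5 F) H) :
    (∃ W : Submodule F (Fin 5 ⊕ Fin 5 → F), W ≠ ⊥ ∧ Cfsg.Geo.IsTotallySingularFor (Cfsg.sympForm 5 F) W ∧ H = Cfsg.Geo.subspaceStabilizer W ⊓ Cfsg.spGL 5 F) ∨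
    (∃ W : Submodule F (Fin 5 ⊕ Fin 5 → F), W ≠ ⊥ ∧ Cfsg.Geo.IsNondegenerateOn (Cfsg.sympForm 5 F) W ∧ Module.finrank F W < 5 ∧ H = Cfsg.Geo.subspaceStabilizer W ⊓ Cfsg.spGL 5 F) ∨
    (3 ≤ Fintype.card F ∧ ∃ D : Fin 5 → Submodule F (Fin 5 ⊕ Fin 5 → F), Cfsg.Geo.IsNondegenerateMDecomposition (Cfsg.sympForm 5 F) 2 D ∧ H = Cfsg.Geo.decompositionStabilizer D ⊓ Cfsg.spGL 5 F) ∨
    (Odd (Fintype.card F) ∧ ∃ D : Fin 2 → Submodule F (Fin 5 ⊕ Fin 5 → F), Cfsg.Geo.IsMDecomposition 5 D ∧ (∀ i, Cfsg.Geo.IsTotallySingularFor (Cfsg.sympForm 5 F) (D i)) ∧ H = Cfsg.Geo.decompositionStabilizer D ⊓ Cfsg.spGL 5 F) ∨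
    (∃ K : Subalgebra F (Matrix (Fin 5 ⊕ Fin 5) (Fin 5 ⊕ Fin 5) F), Cfsg.Geo.IsFieldSubalgebra 5 K ∧ Cfsg.Geo.IsSelfAdjointFor (Cfsg.sympForm 5 F) K ∧ (∀ k ∈ K, ∀ v : (Fin 5 ⊕ Fin 5 → F), (Cfsg.sympForm 5 F) (Matrix.mulVec k v) v = 0) ∧ H = Cfsg.Geo.subalgebraNormalizer K ⊓ Cfsg.spGL 5 F) ∨
    (Odd (Fintype.card F) ∧ ∃ K : Subalgebra F (Matrix (Fin 5 ⊕ Fin 5) (Fin 5 ⊕ Fin 5) F), Cfsg.Geo.IsFieldSubalgebra 2 K ∧ Cfsg.Geo.IsAdjointClosedFor (Cfsg.sympForm 5 F) K ∧ ¬ Cfsg.Geo.IsSelfAdjointFor (Cfsg.sympForm 5 F) K ∧ H = Cfsg.Geo.subalgebraNormalizer K ⊓ Cfsg.spGL 5 F) ∨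
    (Odd (Fintype.card F) ∧ ∃ (e : (Fin 5 ⊕ Fin 5) ≃ Fin 2 × Fin 5) (P : Matrix.GeneralLinearGroup (Fin 5 ⊕ Fin 5) F) (f₁ : (Fin 2 → F) → (Fin 2 → F) → F) (f₂ : (Fin 5 → F) → (Fin 5 → F) → F), Cfsg.Geo.IsSymplecticForm f₁ ∧ Cfsg.Geo.IsSymmetricForm f₂ ∧ Cfsg.Geo.IsTensorFormStructure id (Cfsg.sympForm 5 F) f₁ f₂ e P ∧ H = Cfsg.Geo.tensorProductSubgroup 2 5 e P ⊓ Cfsg.spGL 5 F) ∨
    (∃ (F₀ : Subfield F) (r : ℕ) (P : Matrix.GeneralLinearGroup (Fin 5 ⊕ Fin 5) F) (ζ : F), r.Prime ∧ Fintype.card F = Nat.card F₀ ^ r ∧ ζ ≠ 0 ∧ Cfsg.Geo.IsFormRationalStructure (Cfsg.sympForm 5 F) F₀ ζ P ∧ H = Cfsg.Geo.subfieldSubgroup F₀ P ⊓ Cfsg.spGL 5 F) ∨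
    (¬ Odd (Fintype.card F) ∧ ∃ Q : (Fin 5 ⊕ Fin 5 → F) → F, Cfsg.Geo.IsNondegenerateQuadraticForm Q ∧ (∀ u v : (Fin 5 ⊕ Fin 5 → F), QuadraticMap.polar Q u v = (Cfsg.sympForm 5 F) u v) ∧ H = Cfsg.Geo.quadSimilarityGroup Q ⊓ Cfsg.spGL 5 F) ∨
    Cfsg.Geo.InSymplecticResidualClass H := by
  have hm : (2 : ℕ) ≤ 5 := by norm_num
  have hex : ¬ ((5 : ℕ) = 2 ∧ Fintype.card F = 2) := fun h => absurd h.1 (by norm_num)
  rcases maximal_eq_member' hA hm hex H hH with ⟨M, hM, rfl⟩ | hres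
  · rcases hM with (h | h | h | h | h | h | h) | h | h | h | h
    · exact Or.inl h
    · exact Or.inr (Or.inl h)
    · -- non-degenerate decompositions: `t * k = 10`, `k` even
      obtain ⟨t, k, D, hD, hMeq⟩ := h
      obtain ⟨h1, h2, h3, h4⟩ := decomp_arith' D hD
      have htk : t = 5 ∧ k = 2 := by
        obtain ⟨c, hc⟩ := h2
        have hk2 : 2 ≤ k := by omega
        have ht5 : t ≤ 5 := by nlinarith
        interval_cases t <;> omega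
      obtain ⟨rfl, rfl⟩ := htk
      by_cases hq : 3 ≤ Fintype.card F
      · exact Or.inr (Or.inr (Or.inl ⟨hq, D, hD, hMeq⟩))
      · have hq2 : Fintype.card F = 2 := by
          have := Fintype.one_lt_card (α := F)
          omega
        obtain ⟨Q, hQ, hpol, hle⟩ := decomp_planes_card_two hq2 D hD
        have heven : ¬ Odd (Fintype.card F) := by rw [hq2]; decide
        have hM' : InSymplecticClassR 5 F (quadSimilarityGroup Q ⊓ spGL 5 F) :=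
          Or.inl (Or.inr (Or.inr (Or.inr (Or.inr (Or.inr (Or.inr ⟨Q, heven, hQ, hpol, rfl⟩))))))
        have hEq := eq_of_le_member' hm H hH _ hM' (by rw [hMeq]; exact hle)
        exact Or.inr (Or.inr (Or.inr (Or.inr (Or.inr (Or.inr (Or.inr (Or.inr (Or.inl
          ⟨heven, Q, hQ, hpol, hEq⟩))))))))
    · obtain ⟨D, hodd, hD, hts, hMeq⟩ := h
      exact Or.inr (Or.inr (Or.inr (Or.inl ⟨hodd, D, hD, hts, hMeq⟩)))
    · exact Or.inr (Or.inr (Or.inr (Or.inr (Or.inr (Or.inr (Or.inr (Or.inl h)))))))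
    · -- class 6: `2 ^ k = 10` is impossible
      obtain ⟨R, p, k, -, -, -, -, -, -, -, -, -, hk, -⟩ := h
      exact absurd hk two_pow_ne.1
    · obtain ⟨Q, heven, hQ, hpol, hMeq⟩ := h
      exact Or.inr (Or.inr (Or.inr (Or.inr (Or.inr (Or.inr (Or.inr (Or.inr (Or.inl
        ⟨heven, Q, hQ, hpol, hMeq⟩))))))))
    · -- self-adjoint fields: `r ∣ 5`
      obtain ⟨r, K, hr, hK, hsa, halt, hMeq⟩ := h
      have hdvd := dvd_of_selfAdjoint_field61 r hr K hK hsa halt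
      have hr5 : r = 5 := (Nat.prime_dvd_prime_iff_eq hr (by norm_num)).mp hdvd
      subst hr5
      exact Or.inr (Or.inr (Or.inr (Or.inr (Or.inl ⟨K, hK, hsa, halt, hMeq⟩))))
    · obtain ⟨K, hodd, hK, hac, hnsa, hMeq⟩ := h
      exact Or.inr (Or.inr (Or.inr (Or.inr (Or.inr (Or.inl ⟨hodd, K, hK, hac, hnsa, hMeq⟩)))))
    · -- tensor products: `n₁ * n₂ = 10`, `n₁` even, `3 ≤ n₂`
      obtain ⟨n₁, n₂, e, P, f₁, f₂, hodd, hn₂, hf₁, hf₂, hT, hMeq⟩ := h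
      obtain ⟨h1, h2⟩ := tensor_arith e f₁ hf₁
      have hn : n₁ = 2 ∧ n₂ = 5 := by
        obtain ⟨c, hc⟩ := h2
        have hn₁ : n₁ ≤ 3 := by nlinarith
        interval_cases n₁ <;> omega
      obtain ⟨rfl, rfl⟩ := hn
      exact Or.inr (Or.inr (Or.inr (Or.inr (Or.inr (Or.inr (Or.inl
        ⟨hodd, e, P, f₁, f₂, hf₁, hf₂, hT, hMeq⟩))))))
    · -- tensor powers: `k ^ t = 10` is impossible
      obtain ⟨k, t, e, P, f₁, -, -, ht, -, -, -, -⟩ := h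
      exact absurd (power_arith e) (pow_ne ht).1
  · exact Or.inr (Or.inr (Or.inr (Or.inr (Or.inr (Or.inr (Or.inr (Or.inr (Or.inr hres))))))))

end Cfsg.Agent.Lib.Helper94.BHRSP
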