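import Mathlib
import Cfsg.Agent.Lib.Helper75.PIMSing
import Cfsg.Agent.Lib.Helper16.KSH.Defs

/-!
# KSH-[MAT-IFF], [MAT-TR], [MAT-DIM] (helper16's sheet): the commutator space of a product of matrix
algebras is the space of tuples of trace-zero matrices.
-/

set_option autoImplicit false

namespace Cfsg.Agent.Lib.Helper61.Ksh

open Cfsg.Agent.Lib.Helper16.KSH Matrix

variable {k : Type*} [Field k]

/-- a trace-zero matrix is a sum of commutators -/
theorem mem_commSpace_matrix_of_trace_zero {n : ℕ} (x : Matrix (Fin n) (Fin n) k)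
    (hx : Matrix.trace x = 0) : x ∈ commSpace k (Matrix (Fin n) (Fin n) k) := by
  classical
  rcases Nat.eq_zero_or_pos n with hn | hn
  · subst hn
    have : x = 0 := Subsingleton.elim _ _
    rw [this]
    exact Submodule.zero_mem _
  set a0 : Fin n := ⟨0, hn⟩ with ha0
  -- the pieces
  set t : Fin n → Fin n → Matrix (Fin n) (Fin n) k := fun a b =>
    if a = b then Matrix.single a a (x a a) - Matrix.single a0 a0 (x a a)
    else Matrix.single a b (x a b) with ht
  have hmem : ∀ a b, t a b ∈ commSpace k (Matrix (Fin n) (Fin n) k) := by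
    intro a b
    rw [ht]
    dsimp only
    split_ifs with hab
    · by_cases haa : a = a0
      · rw [haa, sub_self]
        exact Submodule.zero_mem _
      · refine Submodule.subset_span ⟨Matrix.single a a0 (x a a), Matrix.single a0 a 1, ?_⟩
        rw [Matrix.single_mul_single_same, Matrix.single_mul_single_same, mul_one, one_mul]
    · refine Submodule.subset_span ⟨Matrix.single a a 1, Matrix.single a b (x a b), ?_⟩
      rw [Matrix.single_mul_single_same, one_mul,
        Matrix.single_mul_single_of_ne (h := Ne.symm hab), sub_zero]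
  have hsum : x = ∑ a, ∑ b, t a b := by
    have h1 : ∑ a, ∑ b, t a b
        = (∑ a, ∑ b, Matrix.single a b (x a b)) - ∑ a, Matrix.single a0 a0 (x a a) := by
      rw [← Finset.sum_sub_distrib]
      refine Finset.sum_congr rfl fun a _ => ?_
      rw [ht]
      dsimp only
      rw [← Finset.add_sum_erase Finset.univ _ (Finset.mem_univ a),
        ← Finset.add_sum_erase Finset.univ (fun b => Matrix.single a b (x a b)) (Finset.mem_univ a)]
      rw [if_pos rfl]
      have h2 : ∀ b ∈ Finset.univ.erase a,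
          (if a = b then Matrix.single a a (x a a) - Matrix.single a0 a0 (x a a)
            else Matrix.single a b (x a b)) = Matrix.single a b (x a b) := by
        intro b hb
        have hne : a ≠ b := fun h => (Finset.ne_of_mem_erase hb) h.symm
        rw [if_neg hne]
      rw [Finset.sum_congr rfl h2]
      abel
    have h3 : ∑ a, Matrix.single a0 a0 (x a a) = 0 := by
      have : ∑ a, Matrix.single a0 a0 (x a a) = Matrix.single a0 a0 (∑ a, x a a) := by
        rw [← Matrix.singleAddMonoidHom_apply, map_sum]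
        rfl
      rw [this]
      have ht' : ∑ a, x a a = 0 := hx
      rw [ht']
      exact Matrix.single_zero a0 a0
    rw [h1, h3, sub_zero]
    exact Matrix.matrix_eq_sum_single x
  rw [hsum]
  exact Submodule.sum_mem _ fun a _ => Submodule.sum_mem _ fun b _ => hmem a b

/-- the tuple of traces, as a linear map -/
def traceMap {r : ℕ} (d : Fin r → ℕ) :
    (Π i, Matrix (Fin (d i)) (Fin (d i)) k) →ₗ[k] (Fin r → k) :=
  LinearMap.pi fun i => (Matrix.traceLinearMap (Fin (d i)) k k).comp (LinearMap.proj i)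

@[simp] theorem traceMap_apply {r : ℕ} (d : Fin r → ℕ) (s : Π i, Matrix (Fin (d i)) (Fin (d i)) k)
    (i : Fin r) : traceMap d s i = Matrix.trace (s i) := rfl

theorem commSpace_le_ker_traceMap {r : ℕ} (d : Fin r → ℕ) :
    commSpace k (Π i, Matrix (Fin (d i)) (Fin (d i)) k) ≤ LinearMap.ker (traceMap (k := k) d) := by
  unfold commSpace
  rw [Submodule.span_le]
  rintro c ⟨a, b, rfl⟩
  rw [SetLike.mem_coe, LinearMap.mem_ker]
  ext i
  rw [traceMap_apply, Pi.sub_apply, Pi.mul_apply, Pi.mul_apply, Matrix.trace_sub,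
    Matrix.trace_mul_comm, sub_self]
  rfl

theorem single_mem_commSpace {r : ℕ} (d : Fin r → ℕ) (i : Fin r)
    (y : Matrix (Fin (d i)) (Fin (d i)) k) (hy : y ∈ commSpace k (Matrix (Fin (d i)) (Fin (d i)) k)) :
    (Pi.single i y : Π i, Matrix (Fin (d i)) (Fin (d i)) k)
      ∈ commSpace k (Π i, Matrix (Fin (d i)) (Fin (d i)) k) := by
  classical
  have h1 : (commSpace k (Matrix (Fin (d i)) (Fin (d i)) k)).map
      (LinearMap.single k (fun i => Matrix (Fin (d i)) (Fin (d i)) k) i)
      ≤ commSpace k (Π i, Matrix (Fin (d i)) (Fin (d i)) k) := by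
    unfold commSpace
    rw [Submodule.map_span, Submodule.span_le]
    rintro _ ⟨c, ⟨a, b, rfl⟩, rfl⟩
    refine Submodule.subset_span ⟨Pi.single i a, Pi.single i b, ?_⟩
    rw [LinearMap.coe_single, Pi.single_sub, Pi.single_mul, Pi.single_mul]
  exact h1 ⟨y, hy, rfl⟩

end Cfsg.Agent.Lib.Helper61.Ksh

namespace Cfsg.Agent.Lib.Helper16.KSH

open Cfsg.Agent.Lib.Helper61.Ksh Matrix

/-- **[MAT-IFF]** -/
theorem mem_commSpace_pi_matrix_iff {k : Type*} [Field k] {r : ℕ} (d : Fin r → ℕ)
    (s : Π i, Matrix (Fin (d i)) (Fin (d i)) k) :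
    s ∈ commSpace k (Π i, Matrix (Fin (d i)) (Fin (d i)) k) ↔ ∀ i, Matrix.trace (s i) = 0 := by
  classical
  constructor
  · intro hs i
    have := commSpace_le_ker_traceMap d hs
    rw [LinearMap.mem_ker] at this
    have h2 := congrFun this i
    simpa using h2
  · intro hs
    have h1 : s = ∑ i, (Pi.single i (s i) : Π i, Matrix (Fin (d i)) (Fin (d i)) k) :=
      (Finset.univ_sum_single s).symm
    rw [h1]
    refine Submodule.sum_mem _ fun i _ => ?_
    exact single_mem_commSpace d i (s i) (mem_commSpace_matrix_of_trace_zero (s i) (hs i))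

/-- **[MAT-TR]** -/
theorem matrix_trace_pow_char {k : Type*} [Field k] (p : ℕ) [Fact p.Prime] [CharP k p] {n : ℕ}
    (x : Matrix (Fin n) (Fin n) k) : Matrix.trace (x ^ p) = Matrix.trace x ^ p := by
  classical
  have hp2 : 2 ≤ p := (Fact.out : p.Prime).two_le
  have hk : ∀ c : k, p • c = 0 := by
    intro c
    rw [nsmul_eq_mul, CharP.cast_eq_zero, zero_mul]
  have hτ : ∀ a b : Matrix (Fin n) (Fin n) k,
      Matrix.traceAddMonoidHom (Fin n) k (a * b) = Matrix.traceAddMonoidHom (Fin n) k (b * a) :=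
    fun a b => Matrix.trace_mul_comm a b
  have hx : x = ∑ ij : Fin n × Fin n, Matrix.single ij.1 ij.2 (x ij.1 ij.2) := by
    rw [Fintype.sum_prod_type]
    exact Matrix.matrix_eq_sum_single x
  have h1 := Cfsg.Agent.Lib.Helper75.PIM.trace_sum_pow p hk (Matrix.traceAddMonoidHom (Fin n) k) hτ
    (fun ij : Fin n × Fin n => Matrix.single ij.1 ij.2 (x ij.1 ij.2))
  rw [← hx] at h1
  have hdiag : ∀ (i : Fin n) (c : k) (m : ℕ), 1 ≤ m →
      (Matrix.single i i c) ^ m = Matrix.single i i (c ^ m) := by
    intro i c m hm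
    induction m, hm using Nat.le_induction with
    | base => simp
    | succ m _ ih => rw [pow_succ, ih, Matrix.single_mul_single_same, ← pow_succ]
  have hoff : ∀ (i j : Fin n) (c : k), i ≠ j → (Matrix.single i j c) ^ p = 0 := by
    intro i j c hij
    obtain ⟨m, rfl⟩ := Nat.exists_eq_add_of_le hp2
    rw [pow_add, pow_two, Matrix.single_mul_single_of_ne (h := Ne.symm hij), zero_mul]
  have h2 : ∀ ij : Fin n × Fin n,
      Matrix.traceAddMonoidHom (Fin n) k ((Matrix.single ij.1 ij.2 (x ij.1 ij.2)) ^ p)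
        = if ij.1 = ij.2 then (x ij.1 ij.2) ^ p else 0 := by
    rintro ⟨i, j⟩
    dsimp only
    split_ifs with hij
    · subst hij
      rw [hdiag i _ p (by omega)]
      exact Matrix.trace_single_eq_same i _
    · rw [hoff i j _ hij]
      exact map_zero _
  have h3 : Matrix.trace (x ^ p) = ∑ ij : Fin n × Fin n,
      (if ij.1 = ij.2 then (x ij.1 ij.2) ^ p else 0) := by
    have : Matrix.trace (x ^ p) = Matrix.traceAddMonoidHom (Fin n) k (x ^ p) := rfl
    rw [this, h1]
    exact Finset.sum_congr rfl fun ij _ => h2 ij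
  rw [h3, Fintype.sum_prod_type]
  have h4 : ∀ i : Fin n, (∑ j : Fin n, if i = j then (x i j) ^ p else 0) = (x i i) ^ p := by
    intro i
    rw [Finset.sum_ite_eq Finset.univ i]
    simp
  rw [Finset.sum_congr rfl fun i _ => h4 i]
  unfold Matrix.trace
  rw [sum_pow_char]
  rfl

theorem matrix_trace_pow_char_pow {k : Type*} [Field k] (p : ℕ) [Fact p.Prime] [CharP k p] {n : ℕ}
    (x : Matrix (Fin n) (Fin n) k) (e : ℕ) :
    Matrix.trace (x ^ p ^ e) = Matrix.trace x ^ p ^ e := by
  induction e with
  | zero => simp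
  | succ e ih => rw [pow_succ, pow_mul, matrix_trace_pow_char, ih, ← pow_mul]

theorem mem_commSpace_pi_matrix_of_pow {k : Type*} [Field k] (p : ℕ) [Fact p.Prime] [CharP k p] {r : ℕ}
    (d : Fin r → ℕ) (s : Π i, Matrix (Fin (d i)) (Fin (d i)) k) (e : ℕ)
    (hs : s ^ p ^ e ∈ commSpace k (Π i, Matrix (Fin (d i)) (Fin (d i)) k)) :
    s ∈ commSpace k (Π i, Matrix (Fin (d i)) (Fin (d i)) k) := by
  rw [mem_commSpace_pi_matrix_iff] at hs ⊢
  intro i
  have h1 := hs i
  rw [Pi.pow_apply, matrix_trace_pow_char_pow] at h1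
  exact pow_eq_zero_iff (pow_ne_zero _ (Fact.out : p.Prime).ne_zero) |>.mp h1

/-- **[MAT-DIM]** -/
theorem finrank_quot_commSpace_pi_matrix {k : Type*} [Field k] {r : ℕ} (d : Fin r → ℕ)
    (hd : ∀ i, NeZero (d i)) :
    Module.finrank k ((Π i, Matrix (Fin (d i)) (Fin (d i)) k) ⧸
      commSpace k (Π i, Matrix (Fin (d i)) (Fin (d i)) k)) = r := by
  classical
  have hker : commSpace k (Π i, Matrix (Fin (d i)) (Fin (d i)) k)
      = LinearMap.ker (traceMap (k := k) d) := by
    ext s
    rw [mem_commSpace_pi_matrix_iff, LinearMap.mem_ker]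
    constructor
    · intro h
      ext i
      simpa using h i
    · intro h i
      have := congrFun h i
      simpa using this
  have hsurj : Function.Surjective (traceMap (k := k) d) := by
    intro c
    refine ⟨fun i => Matrix.single (⟨0, Nat.pos_of_ne_zero (hd i).out⟩ : Fin (d i))
      ⟨0, Nat.pos_of_ne_zero (hd i).out⟩ (c i), ?_⟩
    ext i
    rw [traceMap_apply]
    exact Matrix.trace_single_eq_same _ _
  rw [hker, LinearEquiv.finrank_eq (LinearMap.quotKerEquivOfSurjective _ hsurj),
    Module.finrank_fin_fun]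

end Cfsg.Agent.Lib.Helper16.KSH
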