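import Mathlib

/-!
# KSH-[WED] (helper16's sheet): Wedderburn for `A / J(A)` over an algebraically closed field.
-/

set_option autoImplicit false

namespace Cfsg.Agent.Lib.Helper16.KSH

/-- **[WED]** -/
theorem exists_wedderburn {k : Type*} [Field k] [IsAlgClosed k] (A : Type*) [Ring A] [Algebra k A]
    [FiniteDimensional k A] :
    ∃ (r : ℕ) (d : Fin r → ℕ) (_ : ∀ i, NeZero (d i))
      (π : A →ₐ[k] (Π i, Matrix (Fin (d i)) (Fin (d i)) k)),
      Function.Surjective π ∧ ∀ a : A, π a = 0 ↔ a ∈ Ring.jacobson A := by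
  have hart : IsArtinianRing A := IsArtinianRing.of_finite k A
  have h2 : IsSemisimpleRing (A ⧸ Ring.jacobson A) := inferInstance
  obtain ⟨r, d, hd, ⟨e⟩⟩ :=
    IsSemisimpleRing.exists_algEquiv_pi_matrix_of_isAlgClosed k (A ⧸ Ring.jacobson A)
  refine ⟨r, d, hd, (e : (A ⧸ Ring.jacobson A) →ₐ[k] _).comp (Ideal.Quotient.mkₐ k (Ring.jacobson A)),
    ?_, ?_⟩
  · intro s
    obtain ⟨x, hx⟩ := Ideal.Quotient.mk_surjective (e.symm s)
    refine ⟨x, ?_⟩
    simp only [AlgHom.coe_comp, Function.comp_apply, Ideal.Quotient.mkₐ_eq_mk]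
    rw [hx]
    simp
  · intro a
    simp only [AlgHom.coe_comp, Function.comp_apply, Ideal.Quotient.mkₐ_eq_mk]
    constructor
    · intro h
      have h1 : (Ideal.Quotient.mk (Ring.jacobson A)) a = 0 := by
        have := congrArg e.symm h
        simpa using this
      exact Ideal.Quotient.eq_zero_iff_mem.mp h1
    · intro h
      rw [Ideal.Quotient.eq_zero_iff_mem.mpr h]
      simp

end Cfsg.Agent.Lib.Helper16.KSH
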