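import Cfsg.Agent.Lib.Helper7.SteinerUnique4511
import Cfsg.Agent.Lib.Helper7.SimpleLemmas

/-!
# The automorphism group of the reference Steiner system `S(4, 5, 11)` (helper61)

Concrete part: tables of automorphisms, the stabiliser chain and the brute-force check that
an automorphism fixing `0, 1, 2, 3` is the identity.
-/

set_option autoImplicit false

namespace Cfsg.Agent.Lib.Helper61.M11Aut

open Cfsg Cfsg.Agent.Lib.Helper7
open scoped Pointwise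

/-- The reference Steiner system `S(4, 5, 11)` on `Fin 11`. -/
abbrev Bref : Set (Finset (Fin 11)) := sysOf 11 S4511.refH

theorem Bref_steiner : IsSteinerSystem 4 5 Bref :=
  isSteinerSystem_sysOf S4511.tsT S4511.ksT S4511.refH S4511.tsT_eq S4511.ksT_eq S4511.refH_ok

/-- Membership in the automorphism group in terms of images of blocks. -/
theorem mem_aut_iff {α : Type*} [DecidableEq α] {L : Set (Finset α)} (g : Equiv.Perm α) :
    g ∈ setSystemAut L ↔ (fun b : Finset α => b.image g) '' L = L := by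
  rw [MulAction.mem_stabilizer_iff]
  have : g • L = (fun b : Finset α => b.image g) '' L := by
    ext b
    simp only [Set.mem_smul_set, Set.mem_image]
    constructor
    · rintro ⟨c, hc, rfl⟩
      exact ⟨c, hc, rfl⟩
    · rintro ⟨c, hc, rfl⟩
      exact ⟨c, hc, rfl⟩
  rw [this]

/-- The table `σ` maps every block of the reference system to a block. -/
def imgOK (σ : List ℕ) : Bool :=
  S4511.refH.all fun m => S4511.refH.contains (permMask σ 11 m)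

theorem refH_lt {m : ℕ} (hm : m ∈ S4511.refH) : m < 2 ^ 11 := by
  have hok := S4511.refH_ok
  simp only [refOK, Bool.and_eq_true, List.all_eq_true, List.contains_iff_mem] at hok
  have h1 : m ∈ subsetsOfCard 11 5 := by rw [← S4511.ksT_eq]; exact hok.1 m hm
  exact (mem_subsetsOfCard h1).1

/-- A valid table passing `imgOK` is an automorphism. -/
theorem permOf_mem {σ : List ℕ} (h : validPerm σ 11 = true) (hi : imgOK σ = true) :
    permOf σ h ∈ setSystemAut Bref := by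
  rw [mem_aut_iff]
  symm
  apply (steiner_eq_of_subset (by decide) (steiner_image Bref_steiner _) Bref_steiner ?_).symm
  rintro _ ⟨b, hb, rfl⟩
  show encF (b.image (permOf σ h)) ∈ S4511.refH
  rw [encF_image_permOf]
  simp only [imgOK, List.all_eq_true, List.contains_iff_mem] at hi
  exact hi _ hb

/-- The table of a permutation of `Fin 11`. -/
def tbl (g : Equiv.Perm (Fin 11)) : List ℕ := List.ofFn fun i : Fin 11 => (g i).val

theorem tbl_getD (g : Equiv.Perm (Fin 11)) (i : Fin 11) : (tbl g).getD i 0 = (g i).val := by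
  unfold tbl
  rw [List.getD_eq_getElem _ _ (by rw [List.length_ofFn]; exact i.isLt), List.getElem_ofFn]

theorem tbl_valid (g : Equiv.Perm (Fin 11)) : validPerm (tbl g) 11 = true := by
  simp only [validPerm, Bool.and_eq_true, beq_iff_eq, List.all_eq_true, decide_eq_true_eq]
  refine ⟨⟨by simp [tbl], ?_⟩, ?_⟩
  · intro x hx
    simp only [tbl, List.mem_ofFn] at hx
    obtain ⟨i, rfl⟩ := hx
    exact (g i).isLt
  · unfold tbl
    rw [List.nodup_ofFn]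
    intro i j hij
    exact g.injective (Fin.ext hij)

theorem permOf_tbl (g : Equiv.Perm (Fin 11)) : permOf (tbl g) (tbl_valid g) = g := by
  ext i
  rw [permOf_apply, tbl_getD]

theorem imgOK_tbl {g : Equiv.Perm (Fin 11)} (hg : g ∈ setSystemAut Bref) :
    imgOK (tbl g) = true := by
  simp only [imgOK, List.all_eq_true, List.contains_iff_mem]
  intro m hm
  have hlt := refH_lt hm
  rw [mem_aut_iff] at hg
  have hb : decF 11 m ∈ Bref := by
    show encF (decF 11 m) ∈ S4511.refH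
    rw [encF_decF hlt]; exact hm
  have h2 : (decF 11 m).image g ∈ Bref := by
    rw [← hg]; exact ⟨_, hb, rfl⟩
  have h3 : encF ((decF 11 m).image (permOf (tbl g) (tbl_valid g))) ∈ S4511.refH := by
    rw [permOf_tbl]; exact h2
  rwa [encF_image_permOf, encF_decF hlt] at h3


/-! ### Sharpness: brute force -/

/-- Every automorphism table fixing `0, 1, 2, 3` is the identity table. -/
def sharpOK : Bool :=
  (List.permutations' [4, 5, 6, 7, 8, 9, 10]).all fun σ =>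
    !imgOK (0 :: 1 :: 2 :: 3 :: σ) || σ == [4, 5, 6, 7, 8, 9, 10]

set_option maxRecDepth 1000000 in
theorem sharpOK_eq : sharpOK = true := by decide +kernel

theorem getD_idT (i : Fin 11) : [0, 1, 2, 3, 4, 5, 6, 7, 8, 9, 10].getD i.val 0 = i.val := by
  fin_cases i <;> rfl

/-- An automorphism fixing `0, 1, 2, 3` is trivial. -/
theorem eq_one_of_fix {g : Equiv.Perm (Fin 11)} (hg : g ∈ setSystemAut Bref)
    (h0 : g 0 = 0) (h1 : g 1 = 1) (h2 : g 2 = 2) (h3 : g 3 = 3) : g = 1 := by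
  have himg := imgOK_tbl hg
  set σ : List ℕ := List.ofFn fun i : Fin 7 => (g i.succ.succ.succ.succ).val with hσ
  have htbl : tbl g = 0 :: 1 :: 2 :: 3 :: σ := by
    unfold tbl
    rw [List.ofFn_succ, List.ofFn_succ, List.ofFn_succ, List.ofFn_succ]
    have e0 : ((g 0 : Fin 11) : ℕ) = 0 := by rw [h0]; rfl
    have e1 : ((g (Fin.succ 0) : Fin 11) : ℕ) = 1 := by
      have : (Fin.succ 0 : Fin 11) = 1 := rfl
      rw [this, h1]; rfl
    have e2 : ((g (Fin.succ (Fin.succ 0)) : Fin 11) : ℕ) = 2 := by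
      have : (Fin.succ (Fin.succ 0) : Fin 11) = 2 := rfl
      rw [this, h2]; rfl
    have e3 : ((g (Fin.succ (Fin.succ (Fin.succ 0))) : Fin 11) : ℕ) = 3 := by
      have : (Fin.succ (Fin.succ (Fin.succ 0)) : Fin 11) = 3 := rfl
      rw [this, h3]; rfl
    rw [e0, e1, e2, e3]
  have hnd : σ.Nodup := by
    rw [hσ, List.nodup_ofFn]
    intro i j hij
    have := g.injective (Fin.ext hij)
    simpa using this
  have hsub : σ ⊆ [4, 5, 6, 7, 8, 9, 10] := by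
    intro x hx
    rw [hσ, List.mem_ofFn] at hx
    obtain ⟨i, rfl⟩ := hx
    have hlt := (g i.succ.succ.succ.succ).isLt
    have hne : ∀ k : Fin 11, g k = k → k.val < 4 → (g i.succ.succ.succ.succ).val ≠ k.val := by
      intro k hk hk4 heq
      have h5 : g i.succ.succ.succ.succ = g k := by rw [hk]; exact Fin.ext heq
      have h6 := congrArg Fin.val (g.injective h5)
      simp only [Fin.val_succ] at h6
      omega
    have n0 := hne 0 h0 (by decide)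
    have n1 := hne 1 h1 (by decide)
    have n2 := hne 2 h2 (by decide)
    have n3 := hne 3 h3 (by decide)
    simp only [Fin.val_zero, Fin.val_one, Fin.val_two] at n0 n1 n2
    have e3 : ((3 : Fin 11) : ℕ) = 3 := rfl
    rw [e3] at n3
    simp only [List.mem_cons, List.not_mem_nil, or_false]
    omega
  have hperm : σ.Perm [4, 5, 6, 7, 8, 9, 10] :=
    (List.subperm_of_subset hnd hsub).perm_of_length_le (by simp [hσ])
  have hmem : σ ∈ List.permutations' [4, 5, 6, 7, 8, 9, 10] := List.mem_permutations'.mpr hperm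
  have hs := sharpOK_eq
  simp only [sharpOK, List.all_eq_true] at hs
  have hs' := hs σ hmem
  rw [← htbl, himg] at hs'
  simp only [Bool.not_true, Bool.false_or, beq_iff_eq] at hs'
  rw [hs'] at htbl
  ext i
  have := tbl_getD g i
  rw [htbl, getD_idT] at this
  rw [← this]; rfl

/-! ### Elements of order dividing 11 and the stabiliser chain -/

/-- The map of a table. -/
def app (σ : List ℕ) (j : ℕ) : ℕ := σ.getD j 0

/-- The eleventh power of the table is the identity. -/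
def pow11OK (σ : List ℕ) : Bool := (List.range 11).all fun i => (app σ)^[11] i == i

/-- The table is an automorphism whose eleventh power is trivial. -/
def isE11 (σ : List ℕ) : Bool := validPerm σ 11 && imgOK σ && pow11OK σ

theorem iterate_permOf {σ : List ℕ} (h : validPerm σ 11 = true) (n : ℕ) (i : Fin 11) :
    (((permOf σ h)^[n] i : Fin 11) : ℕ) = (app σ)^[n] i.val := by
  induction n with
  | zero => rfl
  | succ n ih =>
    rw [Function.iterate_succ_apply', Function.iterate_succ_apply', permOf_apply, ih]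
    rfl

theorem isE11_spec {σ : List ℕ} (hσ : isE11 σ = true) :
    ∃ h : validPerm σ 11 = true, permOf σ h ∈ setSystemAut Bref ∧ (permOf σ h) ^ 11 = 1 := by
  simp only [isE11, Bool.and_eq_true] at hσ
  obtain ⟨⟨hv, hi⟩, hp⟩ := hσ
  refine ⟨hv, permOf_mem hv hi, ?_⟩
  ext i
  rw [← Equiv.Perm.iterate_eq_pow, iterate_permOf]
  simp only [pow11OK, List.all_eq_true, List.mem_range, beq_iff_eq] at hp
  rw [hp _ i.isLt]; rfl

/-- Stage `k` of the chain: for every `t ≥ k` a product of two elements of `isE11` fixing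
`0, …, k-1` and mapping `k` to `t`. -/
def stageOK (k : ℕ) (reps : List (List ℕ × List ℕ)) : Bool :=
  (List.range 11).all fun t => decide (t < k) ||
    (isE11 (reps.getD t ([], [])).1 && isE11 (reps.getD t ([], [])).2 &&
      ((List.range k).all fun j =>
        app (reps.getD t ([], [])).1 (app (reps.getD t ([], [])).2 j) == j) &&
      app (reps.getD t ([], [])).1 (app (reps.getD t ([], [])).2 k) == t)

theorem stage_sound {k : ℕ} (hk : k < 11) {reps : List (List ℕ × List ℕ)}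
    (h : stageOK k reps = true) (M : Subgroup (Equiv.Perm (Fin 11)))
    (hM : ∀ c ∈ setSystemAut Bref, c ^ 11 = 1 → c ∈ M) (t : Fin 11) (ht : k ≤ t.val) :
    ∃ g ∈ M, (∀ j : Fin 11, j.val < k → g j = j) ∧ g ⟨k, hk⟩ = t := by
  simp only [stageOK, List.all_eq_true, List.mem_range, Bool.or_eq_true, decide_eq_true_eq,
    Bool.and_eq_true, beq_iff_eq] at h
  rcases h t.val t.isLt with h | ⟨⟨⟨hc, hd⟩, hfix⟩, hmap⟩
  · omega
  obtain ⟨hcv, hcG, hc11⟩ := isE11_spec hc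
  obtain ⟨hdv, hdG, hd11⟩ := isE11_spec hd
  refine ⟨permOf _ hcv * permOf _ hdv, M.mul_mem (hM _ hcG hc11) (hM _ hdG hd11), ?_, ?_⟩
  · intro j hj
    apply Fin.ext
    rw [Equiv.Perm.mul_apply, permOf_apply, permOf_apply]
    exact hfix j.val hj
  · apply Fin.ext
    rw [Equiv.Perm.mul_apply, permOf_apply, permOf_apply]
    exact hmap

/-- Representatives for stage 0. -/
def reps0 : List (List ℕ × List ℕ) :=
  [
    ([0, 1, 2, 3, 4, 5, 6, 7, 8, 9, 10], [0, 1, 2, 3, 4, 5, 6, 7, 8, 9, 10]),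
    ([1, 2, 3, 6, 8, 0, 4, 5, 9, 10, 7], [0, 1, 2, 3, 4, 5, 6, 7, 8, 9, 10]),
    ([2, 3, 6, 4, 9, 1, 8, 0, 10, 7, 5], [0, 1, 2, 3, 4, 5, 6, 7, 8, 9, 10]),
    ([3, 6, 4, 8, 10, 2, 9, 1, 7, 5, 0], [0, 1, 2, 3, 4, 5, 6, 7, 8, 9, 10]),
    ([4, 8, 9, 10, 5, 6, 7, 3, 0, 1, 2], [0, 1, 2, 3, 4, 5, 6, 7, 8, 9, 10]),
    ([5, 0, 1, 2, 6, 7, 3, 10, 4, 8, 9], [0, 1, 2, 3, 4, 5, 6, 7, 8, 9, 10]),
    ([6, 4, 8, 9, 7, 3, 10, 2, 5, 0, 1], [0, 1, 2, 3, 4, 5, 6, 7, 8, 9, 10]),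
    ([7, 5, 0, 1, 3, 10, 2, 9, 6, 4, 8], [0, 1, 2, 3, 4, 5, 6, 7, 8, 9, 10]),
    ([8, 9, 10, 7, 0, 4, 5, 6, 1, 2, 3], [0, 1, 2, 3, 4, 5, 6, 7, 8, 9, 10]),
    ([9, 10, 7, 5, 1, 8, 0, 4, 2, 3, 6], [0, 1, 2, 3, 4, 5, 6, 7, 8, 9, 10]),
    ([10, 7, 5, 0, 2, 9, 1, 8, 3, 6, 4], [0, 1, 2, 3, 4, 5, 6, 7, 8, 9, 10])]

/-- Representatives for stage 1. -/
def reps1 : List (List ℕ × List ℕ) :=
  [
    ([0, 1, 2, 3, 4, 5, 6, 7, 8, 9, 10], [0, 1, 2, 3, 4, 5, 6, 7, 8, 9, 10]),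
    ([0, 1, 2, 3, 4, 5, 6, 7, 8, 9, 10], [0, 1, 2, 3, 4, 5, 6, 7, 8, 9, 10]),
    ([1, 3, 0, 6, 9, 10, 8, 5, 7, 2, 4], [2, 9, 1, 0, 10, 8, 4, 6, 7, 5, 3]),
    ([1, 2, 3, 6, 8, 0, 4, 5, 9, 10, 7], [5, 2, 0, 6, 1, 9, 4, 10, 7, 8, 3]),
    ([1, 2, 3, 6, 8, 0, 4, 5, 9, 10, 7], [5, 6, 0, 1, 2, 10, 8, 3, 4, 7, 9]),
    ([1, 2, 3, 6, 8, 0, 4, 5, 9, 10, 7], [5, 7, 1, 6, 8, 4, 2, 10, 9, 3, 0]),
    ([1, 2, 3, 6, 8, 0, 4, 5, 9, 10, 7], [5, 3, 0, 7, 1, 10, 9, 8, 2, 4, 6]),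
    ([1, 2, 3, 6, 8, 0, 4, 5, 9, 10, 7], [5, 10, 0, 7, 2, 1, 4, 9, 3, 6, 8]),
    ([1, 2, 3, 6, 8, 0, 4, 5, 9, 10, 7], [5, 4, 0, 1, 10, 6, 3, 9, 2, 8, 7]),
    ([1, 2, 3, 6, 8, 0, 4, 5, 9, 10, 7], [5, 8, 0, 1, 9, 3, 2, 4, 7, 10, 6]),
    ([1, 2, 3, 6, 8, 0, 4, 5, 9, 10, 7], [5, 9, 0, 7, 6, 8, 1, 2, 4, 10, 3])]

/-- Representatives for stage 2. -/
def reps2 : List (List ℕ × List ℕ) :=
  [
    ([0, 1, 2, 3, 4, 5, 6, 7, 8, 9, 10], [0, 1, 2, 3, 4, 5, 6, 7, 8, 9, 10]),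
    ([0, 1, 2, 3, 4, 5, 6, 7, 8, 9, 10], [0, 1, 2, 3, 4, 5, 6, 7, 8, 9, 10]),
    ([0, 1, 2, 3, 4, 5, 6, 7, 8, 9, 10], [0, 1, 2, 3, 4, 5, 6, 7, 8, 9, 10]),
    ([1, 2, 4, 7, 5, 3, 0, 10, 6, 8, 9], [6, 0, 5, 2, 1, 9, 7, 8, 10, 4, 3]),
    ([1, 2, 3, 6, 8, 0, 4, 5, 9, 10, 7], [5, 0, 6, 1, 2, 8, 10, 9, 7, 4, 3]),
    ([1, 2, 3, 6, 8, 0, 4, 5, 9, 10, 7], [5, 0, 7, 2, 10, 6, 9, 1, 3, 4, 8]),
    ([1, 2, 3, 6, 8, 0, 4, 5, 9, 10, 7], [5, 0, 3, 7, 1, 9, 10, 6, 4, 2, 8]),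
    ([1, 2, 3, 6, 8, 0, 4, 5, 9, 10, 7], [5, 0, 10, 4, 1, 2, 7, 9, 3, 8, 6]),
    ([1, 2, 3, 6, 8, 0, 4, 5, 9, 10, 7], [5, 0, 4, 2, 9, 8, 7, 3, 6, 10, 1]),
    ([1, 2, 3, 6, 8, 0, 4, 5, 9, 10, 7], [5, 0, 8, 1, 9, 2, 3, 6, 10, 7, 4]),
    ([1, 2, 4, 7, 5, 3, 0, 10, 6, 8, 9], [6, 0, 7, 9, 5, 3, 8, 1, 10, 2, 4])]

/-- Representatives for stage 3. -/
def reps3 : List (List ℕ × List ℕ) :=
  [
    ([0, 1, 2, 3, 4, 5, 6, 7, 8, 9, 10], [0, 1, 2, 3, 4, 5, 6, 7, 8, 9, 10]),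
    ([0, 1, 2, 3, 4, 5, 6, 7, 8, 9, 10], [0, 1, 2, 3, 4, 5, 6, 7, 8, 9, 10]),
    ([0, 1, 2, 3, 4, 5, 6, 7, 8, 9, 10], [0, 1, 2, 3, 4, 5, 6, 7, 8, 9, 10]),
    ([0, 1, 2, 3, 4, 5, 6, 7, 8, 9, 10], [0, 1, 2, 3, 4, 5, 6, 7, 8, 9, 10]),
    ([3, 4, 8, 2, 7, 9, 0, 6, 10, 1, 5], [6, 9, 3, 1, 0, 7, 10, 2, 4, 8, 5]),
    ([1, 3, 0, 6, 9, 10, 8, 5, 7, 2, 4], [2, 0, 9, 7, 3, 10, 1, 5, 4, 8, 6]),
    ([1, 3, 0, 8, 10, 6, 9, 2, 4, 7, 5], [2, 0, 7, 5, 10, 1, 8, 6, 4, 3, 9]),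
    ([1, 3, 4, 10, 9, 0, 2, 8, 5, 7, 6], [5, 0, 6, 9, 7, 4, 3, 2, 1, 10, 8]),
    ([1, 3, 4, 5, 8, 6, 7, 10, 9, 0, 2], [9, 0, 10, 4, 6, 7, 8, 1, 2, 3, 5]),
    ([1, 2, 3, 10, 7, 9, 5, 0, 4, 8, 6], [7, 0, 1, 5, 3, 9, 4, 6, 10, 8, 2]),
    ([1, 2, 3, 6, 8, 0, 4, 5, 9, 10, 7], [5, 0, 1, 9, 8, 10, 4, 3, 7, 2, 6])]

set_option maxRecDepth 1000000 in
theorem stage0_ok : stageOK 0 reps0 = true := by decide +kernel

set_option maxRecDepth 1000000 in
theorem stage1_ok : stageOK 1 reps1 = true := by decide +kernel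

set_option maxRecDepth 1000000 in
theorem stage2_ok : stageOK 2 reps2 = true := by decide +kernel

set_option maxRecDepth 1000000 in
theorem stage3_ok : stageOK 3 reps3 = true := by decide +kernel

end Cfsg.Agent.Lib.Helper61.M11Aut
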