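import Cfsg.Agent.Lib.Helper61.M11Aut

/-!
# `Aut S(4, 5, 11)` is sharply 4-transitive, simple, of order 7920 (helper61)
-/

set_option autoImplicit false

namespace Cfsg.Agent.Lib.Helper61.M11Aut

open Cfsg Cfsg.Agent.Lib.Helper7
open scoped Pointwise

theorem perm_inv_apply {α : Type*} (f : Equiv.Perm α) (x : α) : f⁻¹ (f x) = x :=
  f.symm_apply_apply x

theorem perm_apply_inv {α : Type*} (f : Equiv.Perm α) (x : α) : f (f⁻¹ x) = x :=
  f.apply_symm_apply x

section Chain

variable (M : Subgroup (Equiv.Perm (Fin 11)))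
  (hM : ∀ c ∈ setSystemAut Bref, c ^ 11 = 1 → c ∈ M)

include hM

/-- One step of the stabiliser chain. -/
theorem chain_step {k : ℕ} (hk : k < 11)
    (hstage : ∀ t : Fin 11, k ≤ t.val →
      ∃ g ∈ M, (∀ j : Fin 11, j.val < k → g j = j) ∧ g ⟨k, hk⟩ = t)
    (x : ℕ → Fin 11) (hx : ∀ i, i < k → x i ≠ x k)
    (hprev : ∃ g ∈ M, ∀ j : Fin 11, j.val < k → g j = x j.val) :
    ∃ g ∈ M, ∀ j : Fin 11, j.val < k + 1 → g j = x j.val := by
  obtain ⟨g, hgM, hg⟩ := hprev
  have hkt : k ≤ (g⁻¹ (x k)).val := by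
    by_contra hlt
    push Not at hlt
    have h1 := hg _ hlt
    rw [perm_apply_inv] at h1
    exact hx _ hlt h1.symm
  obtain ⟨g2, hg2M, hfix, hmap⟩ := hstage _ hkt
  refine ⟨g * g2, M.mul_mem hgM hg2M, ?_⟩
  intro j hj
  rw [Equiv.Perm.mul_apply]
  by_cases hjk : j.val < k
  · rw [hfix j hjk, hg j hjk]
  · have hjk' : j = ⟨k, hk⟩ := Fin.ext (by simp only; omega)
    rw [hjk', hmap, perm_apply_inv]

theorem chain_two (x : ℕ → Fin 11) (hx : x 0 ≠ x 1) :
    ∃ g ∈ M, ∀ j : Fin 11, j.val < 2 → g j = x j.val := by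
  have h0 : ∃ g ∈ M, ∀ j : Fin 11, j.val < 0 → g j = x j.val :=
    ⟨1, M.one_mem, fun j hj => absurd hj (Nat.not_lt_zero _)⟩
  have h1 := chain_step M hM (by norm_num) (stage_sound (by norm_num) stage0_ok M hM) x
    (fun i hi => absurd hi (Nat.not_lt_zero _)) h0
  exact chain_step M hM (by norm_num) (stage_sound (by norm_num) stage1_ok M hM) x
    (fun i hi => by
      have : i = 0 := by omega
      rw [this]; exact hx) h1

theorem chain_four (x : ℕ → Fin 11) (hx : ∀ i j, i < j → j < 4 → x i ≠ x j) :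
    ∃ g ∈ M, ∀ j : Fin 11, j.val < 4 → g j = x j.val := by
  have h2 := chain_two M hM x (hx 0 1 (by norm_num) (by norm_num))
  have h3 := chain_step M hM (by norm_num) (stage_sound (by norm_num) stage2_ok M hM) x
    (fun i hi => hx i 2 hi (by norm_num)) h2
  exact chain_step M hM (by norm_num) (stage_sound (by norm_num) stage3_ok M hM) x
    (fun i hi => hx i 3 hi (by norm_num)) h3

end Chain

/-- The base 4-tuple `(0, 1, 2, 3)`. -/
def x0 : Fin 4 ↪ Fin 11 := Fin.castLEEmb (by norm_num)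

theorem x0_val (i : Fin 4) : (x0 i).val = i.val := rfl

/-- Any subgroup containing the automorphisms of order dividing 11 is transitive on
injective 4-tuples (from the base tuple). -/
theorem exists_map_x0 (M : Subgroup (Equiv.Perm (Fin 11)))
    (hM : ∀ c ∈ setSystemAut Bref, c ^ 11 = 1 → c ∈ M) (y : Fin 4 ↪ Fin 11) :
    ∃ g ∈ M, ∀ i : Fin 4, g (x0 i) = y i := by
  obtain ⟨g, hgM, hg⟩ := chain_four M hM (fun n => if h : n < 4 then y ⟨n, h⟩ else 0) (by
    intro i j hij hj
    have hi : i < 4 := by omega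
    rw [dif_pos hi, dif_pos hj]
    intro h
    have := congrArg Fin.val (y.injective h)
    simp only at this
    omega)
  refine ⟨g, hgM, fun i => ?_⟩
  have := hg (x0 i) (by rw [x0_val]; exact i.isLt)
  rw [this, dif_pos (by rw [x0_val]; exact i.isLt)]
  rfl

theorem exists_two (M : Subgroup (Equiv.Perm (Fin 11)))
    (hM : ∀ c ∈ setSystemAut Bref, c ^ 11 = 1 → c ∈ M) (a b : Fin 11) (hab : a ≠ b) :
    ∃ g ∈ M, g 0 = a ∧ g 1 = b := by
  obtain ⟨g, hgM, hg⟩ := chain_two M hM (fun n => if n = 0 then a else b) (by simpa using hab)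
  refine ⟨g, hgM, ?_, ?_⟩
  · simpa using hg 0 (by decide)
  · simpa using hg 1 (by decide)

/-- An automorphism fixing the base tuple is trivial. -/
theorem eq_one_of_fix_x0 {g : Equiv.Perm (Fin 11)} (hg : g ∈ setSystemAut Bref)
    (h : ∀ i : Fin 4, g (x0 i) = x0 i) : g = 1 :=
  eq_one_of_fix hg (h 0) (h 1) (h 2) (h 3)

/-- The automorphism group of the reference system. -/
abbrev G : Subgroup (Equiv.Perm (Fin 11)) := setSystemAut Bref

theorem G_trans (x y : Fin 4 ↪ Fin 11) : ∃ g ∈ G, ∀ i, g (x i) = y i := by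
  obtain ⟨gx, hgx, hx⟩ := exists_map_x0 G (fun c hc _ => hc) x
  obtain ⟨gy, hgy, hy⟩ := exists_map_x0 G (fun c hc _ => hc) y
  refine ⟨gy * gx⁻¹, G.mul_mem hgy (G.inv_mem hgx), fun i => ?_⟩
  rw [Equiv.Perm.mul_apply, ← hx i, perm_inv_apply, hy]

theorem G_sharp (x : Fin 4 ↪ Fin 11) {g : Equiv.Perm (Fin 11)} (hg : g ∈ G)
    (h : ∀ i, g (x i) = x i) : g = 1 := by
  obtain ⟨gx, hgx, hx⟩ := exists_map_x0 G (fun c hc _ => hc) x
  have h1 : gx⁻¹ * g * gx = 1 := by
    apply eq_one_of_fix_x0 (G.mul_mem (G.mul_mem (G.inv_mem hgx) hg) hgx)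
    intro i
    rw [Equiv.Perm.mul_apply, Equiv.Perm.mul_apply, hx, h, ← hx, perm_inv_apply]
  have : g = gx * (gx⁻¹ * g * gx) * gx⁻¹ := by group
  rw [this, h1]; group

/-- `g ↦ g • x0` is a bijection of `G` onto the injective 4-tuples. -/
theorem G_card : Nat.card G = 7920 := by
  have hbij : Function.Bijective (fun g : G => (x0.trans (g : Equiv.Perm (Fin 11)).toEmbedding)) := by
    constructor
    · intro g g' hgg'
      have h1 : ((g' : Equiv.Perm (Fin 11))⁻¹ * g) = 1 := by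
        apply eq_one_of_fix_x0 (G.mul_mem (G.inv_mem g'.2) g.2)
        intro i
        have := congrArg (fun f : Fin 4 ↪ Fin 11 => f i) hgg'
        simp only [Function.Embedding.trans_apply, Equiv.coe_toEmbedding] at this
        rw [Equiv.Perm.mul_apply, this, perm_inv_apply]
      apply Subtype.ext
      rw [inv_mul_eq_one] at h1
      exact h1.symm
    · intro y
      obtain ⟨g, hg, hy⟩ := exists_map_x0 G (fun c hc _ => hc) y
      refine ⟨⟨g, hg⟩, ?_⟩
      ext i
      simp only [Function.Embedding.trans_apply, Equiv.coe_toEmbedding]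
      rw [hy]
  rw [Nat.card_eq_of_bijective _ hbij, Nat.card_eq_fintype_card, Fintype.card_embedding_eq]
  simp [Nat.descFactorial]

theorem G_simple : IsSimpleGroup G := by
  have hfin : Finite G := inferInstance
  have hnt : Nontrivial G := by
    rw [← Finite.one_lt_card_iff_nontrivial, G_card]; norm_num
  refine ⟨fun N hN => ?_⟩
  by_cases hN1 : N = ⊥
  · exact Or.inl hN1
  right
  -- `N` is transitive on `Fin 11`
  have ht := exists_mem_normal_smul_eq (G := G) (Ω := Fin 11) Set.univ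
    (by
      intro a _ b _ c _ d _ hab hcd
      obtain ⟨g1, hg1, h10, h11⟩ := exists_two G (fun c hc _ => hc) a b hab
      obtain ⟨g2, hg2, h20, h21⟩ := exists_two G (fun c hc _ => hc) c d hcd
      refine ⟨⟨g2 * g1⁻¹, G.mul_mem hg2 (G.inv_mem hg1)⟩, ?_, ?_⟩
      · show (g2 * g1⁻¹) a = c
        rw [Equiv.Perm.mul_apply, ← h10, perm_inv_apply, h20]
      · show (g2 * g1⁻¹) b = d
        rw [Equiv.Perm.mul_apply, ← h11, perm_inv_apply, h21])
    (fun _ _ _ => Set.mem_univ _)
    (by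
      intro g hg
      apply Subtype.ext
      ext a
      have := hg a (Set.mem_univ _)
      exact congrArg Fin.val this)
    N hN1
  have hdvd := ncard_dvd_card_of_transitive (G := G) (Ω := Fin 11) Set.univ N
    (fun _ _ _ _ => Set.mem_univ _) ht ⟨0, Set.mem_univ _⟩
  rw [Set.ncard_univ, Nat.card_eq_fintype_card, Fintype.card_fin] at hdvd
  have hE : ∀ c : G, c ^ 11 = 1 → c ∈ N := fun c hc =>
    mem_normal_of_pow_prime_eq_one N 11 (by norm_num) hdvd (by rw [G_card]; norm_num) c hc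
  rw [eq_top_iff]
  intro g _
  obtain ⟨m, hm, hmg⟩ := exists_map_x0 (N.map G.subtype) (by
    intro c hc hc11
    exact ⟨⟨c, hc⟩, hE ⟨c, hc⟩ (Subtype.ext hc11), rfl⟩)
    (x0.trans (g : Equiv.Perm (Fin 11)).toEmbedding)
  obtain ⟨n, hnN, rfl⟩ := hm
  have h1 : ((n : Equiv.Perm (Fin 11))⁻¹ * g) = 1 := by
    apply eq_one_of_fix_x0 (G.mul_mem (G.inv_mem n.2) g.2)
    intro i
    have := hmg i
    simp only [Function.Embedding.trans_apply, Equiv.coe_toEmbedding] at this
    rw [Equiv.Perm.mul_apply, ← this]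
    exact perm_inv_apply _ _
  rw [inv_mul_eq_one] at h1
  have : g = n := Subtype.ext h1.symm
  rw [this]; exact hnN

end Cfsg.Agent.Lib.Helper61.M11Aut
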