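import Cfsg.Agent.Lib.Helper61.M12SylData
import Cfsg.Agent.S0184
import Cfsg.Agent.Lib.Helper98.FusionCyclicQuot

/-!
# A Sylow 2-subgroup of `M₁₂`

`M₁₂` is the stabilizer of the dodecad of squares in `M₂₄`.  We exhibit a subgroup `S0` of order 64 generated by four
involutions, show that its centre is generated by an involution `z`, that it is its own normalizer, and that a
nontrivial subgroup of `S0` closed under fusion in `M₁₂` is `S0`.
-/

set_option autoImplicit false

namespace Cfsg.Agent.Lib.Helper61.M12Syl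

open Cfsg Cfsg.Agent.Lib.Helper7 Cfsg.Agent.Lib.Helper92 Cfsg.Agent.S5522
open Cfsg.Agent.Lib.Helper98.FusionCyclicQuot

/-- The group `M₁₂` as the stabilizer of the dodecad of squares. -/
abbrev G : Type := ↥(stabM24 D)

/-- The table function of an element. -/
def tb (x : G) (j : ℕ) : ℕ := idx ((x : Equiv.Perm GolayPt) (pt j))

theorem tb_lt (x : G) (j : ℕ) : tb x j < 24 := idx_lt _

theorem apply_pt (x : G) (j : ℕ) : (x : Equiv.Perm GolayPt) (pt j) = pt (tb x j) := (pt_idx _).symm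

theorem tb_mul (x y : G) (j : ℕ) : tb (x * y) j = tb x (tb y j) := by
  unfold tb
  rw [Subgroup.coe_mul, Equiv.Perm.mul_apply, pt_idx]

theorem tb_one {j : ℕ} (hj : j < 24) : tb 1 j = j := by
  unfold tb
  rw [Subgroup.coe_one, Equiv.Perm.one_apply, idx_pt hj]

theorem ext_tb {x y : G} (h : ∀ j < 24, tb x j = tb y j) : x = y := by
  apply Subtype.ext
  apply Equiv.ext
  intro p
  have h1 := h (idx p) (idx_lt p)
  have h2 := apply_pt x (idx p)
  have h3 := apply_pt y (idx p)
  rw [pt_idx] at h2 h3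
  rw [h2, h3, h1]

theorem word_mem {w : List ℕ} (h : OKw w) : m24Word w ∈ stabM24 D := by
  rw [mem_stabM24]
  exact ⟨m24Word_mem w, m24Word_smul_setOf w dsqMask dsqMask rfl h⟩

/-- The element of `G` given by a word (the identity when the word does not preserve the dodecad). -/
noncomputable def mk (w : List ℕ) : G := if h : OKw w then ⟨m24Word w, word_mem h⟩ else 1

theorem mk_coe {w : List ℕ} (h : OKw w) : ((mk w : G) : Equiv.Perm GolayPt) = m24Word w := by
  unfold mk
  rw [dif_pos h]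

theorem tb_mk {w : List ℕ} (h : OKw w) {j : ℕ} (hj : j < 24) : tb (mk w) j = m24Eval w j := by
  unfold tb
  rw [mk_coe h, m24Word_apply_pt w hj, idx_pt (m24Eval_lt w hj)]

theorem m24Eval_app (u v : List ℕ) (j : ℕ) : m24Eval (u ++ v) j = m24Eval u (m24Eval v j) := by
  simp [m24Eval, List.foldr_append]

/-- The inverse of a word element. -/
theorem mk_inv {w wi : List ℕ} (h : OKw w) (hi : OKw wi) (hinv : ∀ j < 24, m24Eval (w ++ wi) j = j) :
    (mk w)⁻¹ = mk wi := by
  symm
  apply eq_inv_of_mul_eq_one_right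
  apply ext_tb
  intro j hj
  rw [tb_mul, tb_one hj, tb_mk hi hj, tb_mk h (m24Eval_lt wi hj), ← m24Eval_app, hinv j hj]

/-- Conjugation certificate. -/
theorem conj_eq {h hi u : List ℕ} {y : G} (hh : OKw h) (hhi : OKw hi) (hu : OKw u)
    (hinv : ∀ j < 24, m24Eval (h ++ hi) j = j)
    (hy : ∀ j < 24, m24Eval (h ++ u ++ hi) j = tb y j) : mk h * mk u * (mk h)⁻¹ = y := by
  rw [mk_inv hh hhi hinv]
  apply ext_tb
  intro j hj
  rw [tb_mul, tb_mul, tb_mk hhi hj, tb_mk hu (m24Eval_lt hi hj),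
    tb_mk hh (m24Eval_lt u (m24Eval_lt hi hj)), ← m24Eval_app, ← m24Eval_app, hy j hj]

/-! ### The generators and the subgroup -/

/-- The generators. -/
noncomputable def X (i : ℕ) : G := mk (gWd i)

theorem tb_X {i : ℕ} (hi : i < 4) {j : ℕ} (hj : j < 24) : tb (X i) j = gTd i j := by
  obtain ⟨h1, h2⟩ := gens_ok i hi
  unfold X
  rw [tb_mk h1 hj, h2 j hj]

theorem X_mul_self {i : ℕ} (hi : i < 4) : X i * X i = 1 := by
  apply ext_tb
  intro j hj
  rw [tb_mul, tb_one hj, tb_X hi hj]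
  have hlt : gTd i j < 24 := by rw [← tb_X hi hj]; exact tb_lt _ _
  rw [tb_X hi hlt, gens_inv i hi j hj]

theorem X_inv {i : ℕ} (hi : i < 4) : (X i)⁻¹ = X i := inv_eq_of_mul_eq_one_right (X_mul_self hi)

/-- The set of generators. -/
def gset : Set G := {x | ∃ i < 4, x = X i}

/-- The Sylow 2-subgroup. -/
noncomputable def S0 : Subgroup G := Subgroup.closure gset

theorem X_mem {i : ℕ} (hi : i < 4) : X i ∈ S0 := Subgroup.subset_closure ⟨i, hi, rfl⟩

/-- The element has the `a`-th table. -/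
def HasT (x : G) (a : ℕ) : Prop := ∀ j < 24, tb x j = eT a j

theorem hasT_mul_X {x : G} {a : ℕ} (ha : a < 64) (hxa : HasT x a) {i : ℕ} (hi : i < 4) :
    rmd a i < 64 ∧ HasT (x * X i) (rmd a i) := by
  obtain ⟨h1, h2⟩ := rm_ok a ha i hi
  refine ⟨h1, fun j hj => ?_⟩
  rw [tb_mul, hxa _ (tb_lt _ _), tb_X hi hj, h2 j hj]

theorem exists_idx {x : G} (hx : x ∈ S0) : ∃ a < 64, HasT x a := by
  unfold S0 at hx
  induction hx using Subgroup.closure_induction_right with
  | one => exact ⟨0, by norm_num, fun j hj => by rw [tb_one hj, el_zero j hj]⟩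
  | mul_right x hx y hy ih =>
    obtain ⟨a, ha, hxa⟩ := ih
    obtain ⟨i, hi, rfl⟩ := hy
    exact ⟨rmd a i, hasT_mul_X ha hxa hi⟩
  | mul_inv_cancel x hx y hy ih =>
    obtain ⟨a, ha, hxa⟩ := ih
    obtain ⟨i, hi, rfl⟩ := hy
    rw [X_inv hi]
    exact ⟨rmd a i, hasT_mul_X ha hxa hi⟩

theorem exists_elem : ∀ a < 64, ∃ x ∈ S0, HasT x a := by
  intro a
  induction a using Nat.strong_induction_on with
  | _ a ih =>
    intro ha
    rcases Nat.eq_zero_or_pos a with rfl | hpos
    · exact ⟨1, S0.one_mem, fun j hj => by rw [tb_one hj, el_zero j hj]⟩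
    · obtain ⟨p, hp, i, hi, hpi⟩ := par_ok a ha hpos
      obtain ⟨x, hx, hxp⟩ := ih p hp (by omega)
      have := hasT_mul_X (by omega : p < 64) hxp hi
      rw [hpi] at this
      exact ⟨x * X i, S0.mul_mem hx (X_mem hi), this.2⟩

theorem eq_of_hasT {x y : G} {a : ℕ} (hx : HasT x a) (hy : HasT y a) : x = y :=
  ext_tb fun j hj => by rw [hx j hj, hy j hj]

theorem card_S0 : Nat.card S0 = 64 := by
  classical
  choose f hf1 hf2 using exists_elem
  let F : Fin 64 → S0 := fun a => ⟨f a.1 a.2, hf1 a.1 a.2⟩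
  have hinj : Function.Injective F := by
    intro a b h
    have h' : f a.1 a.2 = f b.1 b.2 := congrArg Subtype.val h
    apply Fin.ext
    apply el_inj a.1 a.2 b.1 b.2
    intro j hj
    rw [← hf2 a.1 a.2 j hj, h', hf2 b.1 b.2 j hj]
  have hsurj : Function.Surjective F := by
    rintro ⟨x, hx⟩
    obtain ⟨a, ha, hxa⟩ := exists_idx hx
    exact ⟨⟨a, ha⟩, Subtype.ext (eq_of_hasT (hf2 a ha) hxa)⟩
  rw [← Nat.card_congr (Equiv.ofBijective F ⟨hinj, hsurj⟩), Nat.card_fin]

/-! ### The central involution -/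

/-- The central involution. -/
noncomputable def z : G := mk zW

theorem tb_z {j : ℕ} (hj : j < 24) : tb z j = eT 54 j := by
  unfold z
  rw [tb_mk z_ok.1 hj, z_ok.2 j hj]

theorem z_mem : z ∈ S0 := by
  obtain ⟨x, hx, hx54⟩ := exists_elem 54 (by norm_num)
  have : x = z := eq_of_hasT hx54 (fun j hj => tb_z hj)
  rwa [← this]

theorem z_ne_one : z ≠ 1 := by
  intro h
  have h1 := tb_z (j := 2) (by norm_num)
  rw [h, tb_one (by norm_num), z_vals.1] at h1
  exact absurd h1 (by norm_num)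

theorem z_comm_X {i : ℕ} (hi : i < 4) : z * X i = X i * z := by
  apply ext_tb
  intro j hj
  rw [tb_mul, tb_mul, tb_z (tb_lt _ _), tb_X hi (tb_lt _ _), tb_X hi hj, tb_z hj, z_comm i hi j hj]

theorem z_comm_mem {x : G} (hx : x ∈ S0) : x * z = z * x := by
  have hle : S0 ≤ Subgroup.centralizer {z} := by
    unfold S0
    rw [Subgroup.closure_le]
    rintro y ⟨i, hi, rfl⟩
    rw [SetLike.mem_coe, Subgroup.mem_centralizer_iff]
    intro w hw
    rw [Set.mem_singleton_iff] at hw
    rw [hw]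
    exact z_comm_X hi
  have := Subgroup.mem_centralizer_iff.mp (hle hx) z (Set.mem_singleton z)
  exact this.symm

theorem center_cases {x : G} (hx : x ∈ S0) (hc : ∀ i < 4, x * X i = X i * x) : x = 1 ∨ x = z := by
  obtain ⟨a, ha, hxa⟩ := exists_idx hx
  have h1 : ∀ i < 4, ∀ j < 24, eT a (gTd i j) = gTd i (eT a j) := by
    intro i hi j hj
    have h2 := congrArg (fun y => tb y j) (hc i hi)
    simp only [tb_mul] at h2
    rw [hxa _ (tb_lt _ _), tb_X hi hj, tb_X hi (tb_lt _ _), hxa j hj] at h2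
    exact h2
  rcases center_ok a ha h1 with rfl | rfl
  · left
    exact eq_of_hasT hxa (fun j hj => by rw [tb_one hj, el_zero j hj])
  · right
    exact eq_of_hasT hxa (fun j hj => tb_z hj)

/-! ### The normalizer -/

theorem normalizer_le_centralizer {g : G} (hg : g ∈ Subgroup.normalizer (S0 : Set G)) :
    g * z = z * g := by
  have hw : g * z * g⁻¹ ∈ S0 := (Subgroup.mem_normalizer_iff.mp hg z).mp z_mem
  have hg' : g⁻¹ ∈ Subgroup.normalizer (S0 : Set G) := Subgroup.inv_mem _ hg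
  have hc : ∀ i < 4, g * z * g⁻¹ * X i = X i * (g * z * g⁻¹) := by
    intro i hi
    have hy : g⁻¹ * X i * g ∈ S0 := by
      have := (Subgroup.mem_normalizer_iff.mp hg' (X i)).mp (X_mem hi)
      rwa [inv_inv] at this
    have hyz := z_comm_mem hy
    calc g * z * g⁻¹ * X i = g * (z * (g⁻¹ * X i * g)) * g⁻¹ := by group
      _ = g * ((g⁻¹ * X i * g) * z) * g⁻¹ := by rw [hyz]
      _ = X i * (g * z * g⁻¹) := by group
  rcases center_cases hw hc with h | h
  · exfalso
    apply z_ne_one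
    have : z = g⁻¹ * (g * z * g⁻¹) * g := by group
    rw [this, h]
    group
  · calc g * z = (g * z * g⁻¹) * g := by group
      _ = z * g := by rw [h]

/-- The centralizer of the central involution. -/
noncomputable def Cz : Subgroup G := Subgroup.centralizer {z}

theorem mem_Cz {c : G} : c ∈ Cz ↔ c * z = z * c := by
  unfold Cz
  rw [Subgroup.mem_centralizer_iff]
  constructor
  · intro h
    exact (h z (Set.mem_singleton z)).symm
  · intro h w hw
    rw [Set.mem_singleton_iff] at hw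
    rw [hw]
    exact h.symm

theorem pt_inj' {i j : ℕ} (hi : i < 24) (hj : j < 24) (h : pt i = pt j) : i = j := by
  have := congrArg idx h
  rwa [idx_pt hi, idx_pt hj] at this

theorem tb_inj (x : G) {i j : ℕ} (hi : i < 24) (hj : j < 24) (h : tb x i = tb x j) : i = j := by
  have h1 : (x : Equiv.Perm GolayPt) (pt i) = (x : Equiv.Perm GolayPt) (pt j) := by
    rw [apply_pt, apply_pt, h]
  exact pt_inj' hi hj ((x : Equiv.Perm GolayPt).injective h1)

theorem tb_D (x : G) {j : ℕ} (hj : j < 24) (hjD : dsqMask.testBit j = true) :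
    dsqMask.testBit (tb x j) = true := by
  have : (x : Equiv.Perm GolayPt) (pt j) ∈ D := by
    rw [apply_mem_of_mem_stabM24 x.2, mem_setOf, idx_pt hj]
    exact hjD
  exact mem_setOf.mp this

/-- Images under an element of the centralizer. -/
theorem img_props {c : G} (hc : c ∈ Cz) {j : ℕ} (hj : j < 24) (hjD : dsqMask.testBit j = true) :
    dsqMask.testBit (tb c j) = true ∧ (eT 54 (tb c j) = tb c j ↔ eT 54 j = j) := by
  refine ⟨tb_D c hj hjD, ?_⟩
  have key : eT 54 (tb c j) = tb c (eT 54 j) := by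
    have h1 := congrArg (fun y => tb y j) (mem_Cz.mp hc)
    simp only [tb_mul] at h1
    rw [tb_z hj, tb_z (tb_lt _ _)] at h1
    exact h1.symm
  have hlt : eT 54 j < 24 := by rw [← tb_z hj]; exact tb_lt _ _
  rw [key]
  constructor
  · intro h
    exact tb_inj c hlt hj h
  · intro h
    rw [h]

/-- The target of the counting map. -/
def S192 : Finset (ℕ × ℕ × ℕ × ℕ) :=
  ((({0, 1, 4, 12} : Finset ℕ) ×ˢ ({0, 1, 4, 12} : Finset ℕ) ×ˢ ({0, 1, 4, 12} : Finset ℕ) ×ˢ
    ({2, 3, 6, 8, 9, 13, 16, 18} : Finset ℕ))).filter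
      fun x => x.1 ≠ x.2.1 ∧ x.1 ≠ x.2.2.1 ∧ x.2.1 ≠ x.2.2.1

theorem S192_card : S192.card = 192 := by decide +kernel

/-- The counting map. -/
def fC (c : ↥Cz) : ℕ × ℕ × ℕ × ℕ := (tb c.1 0, tb c.1 1, tb c.1 4, tb c.1 2)

theorem fC_mem (c : ↥Cz) : fC c ∈ S192 := by
  obtain ⟨a1, a2⟩ := img_props c.2 (j := 0) (by norm_num) (by decide)
  obtain ⟨b1, b2⟩ := img_props c.2 (j := 1) (by norm_num) (by decide)
  obtain ⟨c1, c2⟩ := img_props c.2 (j := 4) (by norm_num) (by decide)
  obtain ⟨d1, d2⟩ := img_props c.2 (j := 2) (by norm_num) (by decide)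
  have ha := fix_cases _ (tb_lt c.1 0) a1 (a2.mpr z_vals.2.1)
  have hb := fix_cases _ (tb_lt c.1 1) b1 (b2.mpr z_vals.2.2.1)
  have hc := fix_cases _ (tb_lt c.1 4) c1 (c2.mpr z_vals.2.2.2)
  have hd := mv_cases _ (tb_lt c.1 2) d1 (fun h => by
    have := d2.mp h
    rw [z_vals.1] at this
    exact absurd this (by norm_num))
  have n01 : tb c.1 0 ≠ tb c.1 1 := fun h =>
    absurd (tb_inj c.1 (by norm_num) (by norm_num) h) (by norm_num)
  have n04 : tb c.1 0 ≠ tb c.1 4 := fun h =>
    absurd (tb_inj c.1 (by norm_num) (by norm_num) h) (by norm_num)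
  have n14 : tb c.1 1 ≠ tb c.1 4 := fun h =>
    absurd (tb_inj c.1 (by norm_num) (by norm_num) h) (by norm_num)
  unfold S192 fC
  rw [Finset.mem_filter, Finset.mem_product, Finset.mem_product, Finset.mem_product]
  refine ⟨⟨?_, ?_, ?_, ?_⟩, n01, n04, n14⟩
  · simpa using ha
  · simpa using hb
  · simpa using hc
  · simpa using hd

theorem fC_injective : Function.Injective fC := by
  intro c c' h
  unfold fC at h
  simp only [Prod.mk.injEq] at h
  obtain ⟨h0, h1, h4, h2⟩ := h
  have h3 : tb c.1 3 = tb c'.1 3 := by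
    have k1 := congrArg (fun y => tb y 2) (mem_Cz.mp c.2)
    have k2 := congrArg (fun y => tb y 2) (mem_Cz.mp c'.2)
    simp only [tb_mul] at k1 k2
    rw [tb_z (by norm_num), z_vals.1, tb_z (tb_lt _ _)] at k1 k2
    rw [k1, k2, h2]
  have hk : ∀ i < 5, tb c.1 i = tb c'.1 i := by
    intro i hi
    interval_cases i
    · exact h0
    · exact h1
    · exact h2
    · exact h3
    · exact h4
  let y : Fin 5 ↪ GolayPt := stdEmb.trans (c.1 : Equiv.Perm GolayPt).toEmbedding
  have hy : ∀ i, y i ∈ D := by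
    intro i
    show (c.1 : Equiv.Perm GolayPt) (stdEmb i) ∈ _
    rw [apply_mem_of_mem_stabM24 c.1.2]
    exact stdEmb_mem i
  obtain ⟨k, _, huniq⟩ := existsUnique_stabM24_map dsq_mem_dodecads stdEmb y stdEmb_mem hy
  have hk1 : (c.1 : Equiv.Perm GolayPt) = k := huniq _ ⟨c.1.2, fun i => rfl⟩
  have hk2 : (c'.1 : Equiv.Perm GolayPt) = k := by
    apply huniq
    refine ⟨c'.1.2, ?_⟩
    intro i
    show (c'.1 : Equiv.Perm GolayPt) (pt i.val) = (c.1 : Equiv.Perm GolayPt) (pt i.val)
    rw [apply_pt, apply_pt, hk i.val i.isLt]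
  exact Subtype.ext (Subtype.ext (hk1.trans hk2.symm))

theorem card_Cz_le : Nat.card ↥Cz ≤ 192 := by
  have h : Nat.card ↥Cz ≤ Nat.card ↥S192 :=
    Nat.card_le_card_of_injective (fun c => (⟨fC c, fC_mem c⟩ : ↥S192))
      (fun a b h => fC_injective (congrArg Subtype.val h))
  have h2 : Nat.card ↥S192 = 192 := by
    rw [Nat.card_eq_fintype_card, Fintype.card_coe, S192_card]
  rwa [h2] at h

/-- The witness in the centralizer outside the normalizer. -/
noncomputable def c0 : G := mk cW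

theorem c0_mem : c0 ∈ Cz := by
  obtain ⟨h1, h2, h3, h4, -⟩ := c_ok
  rw [mem_Cz]
  have : c0 * z * c0⁻¹ = z := by
    unfold c0 z
    apply conj_eq h1 h2 z_ok.1 h3
    intro j hj
    rw [h4 j hj]
    exact (tb_z hj).symm
  calc c0 * z = (c0 * z * c0⁻¹) * c0 := by group
    _ = z * c0 := by rw [this]

theorem c0_not_mem : c0 ∉ Subgroup.normalizer (S0 : Set G) := by
  intro h
  obtain ⟨h1, h2, h3, -, h5⟩ := c_ok
  have hmem : c0 * X 1 * c0⁻¹ ∈ S0 := (Subgroup.mem_normalizer_iff.mp h (X 1)).mp (X_mem (by norm_num))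
  obtain ⟨a, ha, hxa⟩ := exists_idx hmem
  obtain ⟨j, hj, hne⟩ := h5 a ha
  apply hne
  rw [← hxa j hj]
  have hg := (gens_ok 1 (by norm_num)).1
  unfold c0 X
  rw [mk_inv h1 h2 h3, tb_mul, tb_mul, tb_mk h2 hj, tb_mk hg (m24Eval_lt _ hj),
    tb_mk h1 (m24Eval_lt _ (m24Eval_lt _ hj)), ← m24Eval_app, ← m24Eval_app]

theorem normalizer_eq : Subgroup.normalizer (S0 : Set G) = S0 := by
  have hle : S0 ≤ Subgroup.normalizer (S0 : Set G) := Subgroup.le_normalizer
  have hNC : Subgroup.normalizer (S0 : Set G) ≤ Cz := fun g hg =>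
    mem_Cz.mpr (normalizer_le_centralizer hg)
  have hne : Subgroup.normalizer (S0 : Set G) ≠ Cz := fun h => c0_not_mem (h ▸ c0_mem)
  have d1 : Nat.card S0 ∣ Nat.card (Subgroup.normalizer (S0 : Set G)) := Subgroup.card_dvd_of_le hle
  have d2 : Nat.card (Subgroup.normalizer (S0 : Set G)) ∣ Nat.card Cz := Subgroup.card_dvd_of_le hNC
  have hcne : Nat.card (Subgroup.normalizer (S0 : Set G)) ≠ Nat.card Cz := fun h =>
    hne (Subgroup.eq_of_le_of_card_ge hNC h.ge)
  have hpos : 0 < Nat.card (Subgroup.normalizer (S0 : Set G)) := Nat.card_pos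
  have hCpos : 0 < Nat.card Cz := Nat.card_pos
  have hC := card_Cz_le
  rw [card_S0] at d1
  obtain ⟨m, hm⟩ := d1
  obtain ⟨k, hk⟩ := d2
  have hcard : Nat.card (Subgroup.normalizer (S0 : Set G)) ≤ Nat.card S0 := by
    rw [card_S0]
    have hk2 : 2 ≤ k := by
      rcases k with _ | _ | k
      · rw [hk] at hCpos; simp at hCpos
      · exfalso; apply hcne; rw [hk]; simp
      · omega
    have hm1 : m ≤ 1 := by
      by_contra hcon
      have : 2 ≤ m := by omega
      have : 64 * 2 * 2 ≤ Nat.card Cz := by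
        rw [hk, hm]
        exact Nat.mul_le_mul (Nat.mul_le_mul le_rfl this) hk2
      omega
    rw [hm]
    calc 64 * m ≤ 64 * 1 := Nat.mul_le_mul le_rfl hm1
      _ = 64 := by norm_num
  exact (Subgroup.eq_of_le_of_card_ge hle hcard).symm

/-! ### Fusion-closed subgroups -/

theorem isPGroup_S0 : IsPGroup 2 S0 := IsPGroup.of_card (n := 6) (by rw [card_S0]; norm_num)

theorem eq_of_fusClosed (T : Subgroup G) (hTS : T ≤ S0) (hT : FusClosed T S0) (hne : T ≠ ⊥) :
    T = S0 := by
  have : Fact (Nat.Prime 2) := ⟨Nat.prime_two⟩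
  -- `z ∈ T`
  have hN : (T.subgroupOf S0).Normal := by
    refine ⟨fun n hn g => ?_⟩
    rw [Subgroup.mem_subgroupOf] at hn ⊢
    have := hT _ hn (g : G) (S0.mul_mem (S0.mul_mem g.2 n.2) (S0.inv_mem g.2))
    simpa using this
  have hNne : T.subgroupOf S0 ≠ ⊥ := by
    intro h
    apply hne
    rw [eq_bot_iff]
    intro t ht
    have : (⟨t, hTS ht⟩ : S0) ∈ T.subgroupOf S0 := by
      rw [Subgroup.mem_subgroupOf]; exact ht
    rw [h, Subgroup.mem_bot] at this
    rw [Subgroup.mem_bot]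
    exact congrArg Subtype.val this
  have hfin : Finite S0 := inferInstance
  obtain ⟨w, hwN, hw1, hwc⟩ :=
    Cfsg.Agent.S0184.normal_inf_center_ne_bot (p := 2) isPGroup_S0 (T.subgroupOf S0) hNne
  rw [Subgroup.mem_subgroupOf] at hwN
  have hzT : z ∈ T := by
    have hcases := center_cases w.2 (fun i hi => by
      have := hwc ⟨X i, X_mem hi⟩
      have h2 := congrArg Subtype.val this
      simpa using h2.symm)
    rcases hcases with h | h
    · exfalso
      exact hw1 (Subtype.ext h)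
    · rwa [← h]
  -- the first three generators
  have hX : ∀ i < 3, X i ∈ T := by
    intro i hi
    obtain ⟨h1, h2, h3, h4⟩ := h_ok i hi
    have hconj : mk (hWd i) * z * (mk (hWd i))⁻¹ = X i := by
      unfold z
      apply conj_eq h1 h2 z_ok.1 h3
      intro j hj
      rw [h4 j hj, tb_X (by omega) hj]
    have := hT z hzT (mk (hWd i)) (by rw [hconj]; exact X_mem (by omega))
    rwa [hconj] at this
  -- the fourth generator
  have hX3 : X 3 ∈ T := by
    obtain ⟨h1, h2, h3, h4, h5⟩ := a_ok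
    have g0 := (gens_ok 0 (by norm_num)).1
    have g1 := (gens_ok 1 (by norm_num)).1
    have g2 := (gens_ok 2 (by norm_num)).1
    have ha : mk (gWd 1 ++ gWd 0 ++ gWd 2) = X 1 * X 0 * X 2 := by
      apply ext_tb
      intro j hj
      unfold X
      rw [tb_mk h3 hj, tb_mul, tb_mul, tb_mk g2 hj, tb_mk g0 (m24Eval_lt _ hj),
        tb_mk g1 (m24Eval_lt _ (m24Eval_lt _ hj)), ← m24Eval_app, ← m24Eval_app]
    have haT : mk (gWd 1 ++ gWd 0 ++ gWd 2) ∈ T := by
      rw [ha]
      exact T.mul_mem (T.mul_mem (hX 1 (by norm_num)) (hX 0 (by norm_num))) (hX 2 (by norm_num))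
    have hconj : mk hA * mk (gWd 1 ++ gWd 0 ++ gWd 2) * (mk hA)⁻¹ = X 3 := by
      apply conj_eq h1 h2 h3 h4
      intro j hj
      rw [h5 j hj, tb_X (by norm_num) hj]
    have := hT _ haT (mk hA) (by rw [hconj]; exact X_mem (by norm_num))
    rwa [hconj] at this
  apply le_antisymm hTS
  unfold S0
  rw [Subgroup.closure_le]
  rintro y ⟨i, hi, rfl⟩
  rcases Nat.lt_or_ge i 3 with h | h
  · exact hX i h
  · have : i = 3 := by omega
    rw [this]
    exact hX3

end Cfsg.Agent.Lib.Helper61.M12Syl
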