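import Cfsg.Agent.S5522

/-!
# Data for a Sylow 2-subgroup of `M₁₂` (stabilizer of the dodecad of squares in `M₂₄`)

Words are in the letters of `Cfsg.Agent.Lib.Helper92.m24Word`; tables are lists of the images of the points
`0, …, 23`.  The checks are decided by the kernel.
-/

set_option autoImplicit false

namespace Cfsg.Agent.Lib.Helper61.M12Syl

open Cfsg Cfsg.Agent.Lib.Helper7 Cfsg.Agent.Lib.Helper92 Cfsg.Agent.S5522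

/-- Words of the four generating involutions. -/
def gW : List (List ℕ) :=
  [[1, 1, 2, 0, 4, 2, 0, 3, 4, 1, 1, 2, 0, 4, 2, 0, 3, 4, 2, 1, 3, 0, 2, 0, 0, 0, 2, 1, 1, 2, 0, 4, 2, 0, 3, 4],
   [4, 1, 2, 3, 1, 2, 0, 0, 3, 3, 2, 1, 3, 0, 2, 0, 0, 0, 2, 4],
   [4, 1, 2, 3, 1, 2, 0, 0, 4, 1, 2, 3, 1, 2, 0, 0, 3, 3, 2, 1, 3, 0, 2, 0, 0, 0, 2, 4, 1, 1, 2, 0, 4, 2, 0, 3],
   [4, 2, 1, 3, 0, 2, 0, 0, 0, 2, 4, 4, 1, 1, 2, 0, 4, 2, 0, 3, 4, 4]]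

/-- Tables of the four generating involutions. -/
def gT : List (List ℕ) :=
  [[1, 0, 2, 3, 12, 14, 6, 7, 13, 9, 10, 22, 4, 8, 5, 20, 18, 17, 16, 21, 15, 19, 11, 23],
   [0, 4, 3, 2, 1, 5, 18, 7, 8, 16, 10, 11, 12, 13, 22, 23, 9, 20, 6, 21, 17, 19, 14, 15],
   [12, 1, 13, 8, 4, 5, 6, 19, 3, 9, 21, 11, 0, 2, 22, 15, 18, 23, 16, 7, 20, 10, 14, 17],
   [4, 12, 6, 9, 0, 11, 2, 17, 18, 3, 23, 5, 1, 16, 22, 19, 13, 7, 8, 15, 21, 20, 14, 10]]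

/-- Tables of the 64 elements. -/
def elT : List (List ℕ) :=
  [[0, 1, 2, 3, 4, 5, 6, 7, 8, 9, 10, 11, 12, 13, 14, 15, 16, 17, 18, 19, 20, 21, 22, 23],
   [1, 0, 2, 3, 12, 14, 6, 7, 13, 9, 10, 22, 4, 8, 5, 20, 18, 17, 16, 21, 15, 19, 11, 23],
   [0, 4, 3, 2, 1, 5, 18, 7, 8, 16, 10, 11, 12, 13, 22, 23, 9, 20, 6, 21, 17, 19, 14, 15],
   [12, 1, 13, 8, 4, 5, 6, 19, 3, 9, 21, 11, 0, 2, 22, 15, 18, 23, 16, 7, 20, 10, 14, 17],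
   [4, 12, 6, 9, 0, 11, 2, 17, 18, 3, 23, 5, 1, 16, 22, 19, 13, 7, 8, 15, 21, 20, 14, 10],
   [1, 12, 3, 2, 0, 14, 16, 7, 13, 18, 10, 22, 4, 8, 11, 23, 9, 15, 6, 19, 17, 21, 5, 20],
   [4, 0, 8, 13, 12, 14, 6, 21, 3, 9, 19, 22, 1, 2, 11, 20, 16, 23, 18, 7, 15, 10, 5, 17],
   [12, 4, 6, 9, 1, 22, 2, 17, 16, 3, 23, 14, 0, 18, 11, 21, 8, 7, 13, 20, 19, 15, 5, 10],
   [4, 0, 3, 2, 12, 22, 18, 7, 13, 16, 10, 14, 1, 8, 5, 17, 6, 20, 9, 19, 23, 21, 11, 15],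
   [12, 4, 13, 8, 1, 5, 18, 21, 2, 16, 19, 11, 0, 3, 14, 23, 6, 15, 9, 7, 17, 10, 22, 20],
   [1, 12, 18, 16, 0, 11, 3, 20, 6, 2, 15, 5, 4, 9, 14, 21, 13, 7, 8, 23, 19, 17, 22, 10],
   [1, 12, 13, 8, 0, 22, 6, 19, 2, 9, 21, 14, 4, 3, 5, 20, 16, 23, 18, 10, 15, 7, 11, 17],
   [12, 4, 8, 13, 1, 5, 16, 19, 3, 18, 21, 11, 0, 2, 14, 17, 9, 20, 6, 10, 23, 7, 22, 15],
   [4, 0, 6, 9, 12, 11, 13, 23, 16, 8, 17, 5, 1, 18, 14, 7, 2, 19, 3, 15, 10, 20, 22, 21],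
   [4, 0, 9, 6, 12, 11, 8, 17, 18, 13, 23, 5, 1, 16, 14, 10, 3, 21, 2, 20, 7, 15, 22, 19],
   [1, 12, 16, 18, 0, 11, 2, 15, 9, 3, 20, 5, 4, 6, 14, 19, 8, 10, 13, 17, 21, 23, 22, 7],
   [12, 1, 3, 2, 4, 11, 16, 7, 8, 18, 10, 5, 0, 13, 14, 17, 6, 15, 9, 21, 23, 19, 22, 20],
   [4, 12, 8, 13, 0, 14, 16, 19, 2, 18, 21, 22, 1, 3, 5, 23, 6, 20, 9, 7, 17, 10, 11, 15],
   [0, 4, 16, 18, 1, 22, 3, 15, 6, 2, 20, 14, 12, 9, 5, 19, 8, 7, 13, 23, 21, 17, 11, 10],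
   [0, 4, 8, 13, 1, 11, 6, 21, 2, 9, 19, 5, 12, 3, 14, 15, 18, 23, 16, 10, 20, 7, 22, 17],
   [4, 12, 13, 8, 0, 14, 18, 21, 3, 16, 19, 22, 1, 2, 5, 17, 9, 15, 6, 10, 23, 7, 11, 20],
   [12, 1, 6, 9, 4, 22, 8, 23, 18, 13, 17, 14, 0, 16, 5, 7, 2, 21, 3, 20, 10, 15, 11, 19],
   [12, 1, 9, 6, 4, 22, 13, 17, 16, 8, 23, 14, 0, 18, 5, 10, 3, 19, 2, 15, 7, 20, 11, 21],
   [0, 4, 18, 16, 1, 22, 2, 20, 9, 3, 15, 14, 12, 6, 5, 21, 13, 10, 8, 17, 19, 23, 11, 7],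
   [4, 12, 2, 3, 0, 22, 9, 7, 13, 6, 10, 14, 1, 8, 11, 15, 16, 23, 18, 21, 20, 19, 5, 17],
   [1, 0, 8, 13, 12, 22, 18, 19, 2, 16, 21, 14, 4, 3, 11, 17, 9, 15, 6, 7, 23, 10, 5, 20],
   [12, 1, 18, 16, 4, 14, 3, 20, 9, 2, 15, 22, 0, 6, 11, 19, 8, 7, 13, 17, 21, 23, 5, 10],
   [12, 1, 8, 13, 4, 5, 9, 21, 2, 6, 19, 11, 0, 3, 22, 20, 16, 17, 18, 10, 15, 7, 14, 23],
   [1, 0, 18, 16, 12, 11, 13, 15, 9, 8, 20, 5, 4, 6, 22, 7, 3, 21, 2, 23, 10, 17, 14, 19],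
   [1, 0, 16, 18, 12, 11, 8, 20, 6, 13, 15, 5, 4, 9, 22, 10, 2, 19, 3, 17, 7, 23, 14, 21],
   [4, 12, 9, 6, 0, 11, 3, 23, 16, 2, 17, 5, 1, 18, 22, 21, 8, 10, 13, 20, 19, 15, 14, 7],
   [4, 12, 3, 2, 0, 22, 6, 10, 8, 9, 7, 14, 1, 13, 11, 20, 18, 17, 16, 19, 15, 21, 5, 23],
   [0, 4, 6, 9, 1, 14, 13, 23, 18, 8, 17, 22, 12, 16, 11, 10, 3, 19, 2, 20, 7, 15, 5, 21],
   [0, 4, 2, 3, 1, 5, 16, 10, 13, 18, 7, 11, 12, 8, 22, 17, 6, 15, 9, 19, 23, 21, 14, 20],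
   [0, 4, 9, 6, 1, 14, 8, 17, 16, 13, 23, 22, 12, 18, 11, 7, 2, 21, 3, 15, 10, 20, 5, 19],
   [12, 1, 16, 18, 4, 14, 2, 15, 6, 3, 20, 22, 0, 9, 11, 21, 13, 10, 8, 23, 19, 17, 5, 7],
   [12, 4, 2, 3, 1, 11, 9, 7, 8, 6, 10, 5, 0, 13, 22, 20, 18, 23, 16, 19, 15, 21, 14, 17],
   [0, 1, 13, 8, 4, 11, 16, 21, 2, 18, 19, 5, 12, 3, 22, 17, 9, 20, 6, 7, 23, 10, 14, 15],
   [4, 0, 16, 18, 12, 5, 3, 15, 9, 2, 20, 11, 1, 6, 22, 21, 13, 7, 8, 17, 19, 23, 14, 10],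
   [4, 0, 13, 8, 12, 14, 9, 19, 2, 6, 21, 22, 1, 3, 11, 15, 18, 17, 16, 10, 20, 7, 5, 23],
   [0, 1, 16, 18, 4, 22, 8, 20, 9, 13, 15, 14, 12, 6, 11, 7, 3, 19, 2, 23, 10, 17, 5, 21],
   [0, 1, 18, 16, 4, 22, 13, 15, 6, 8, 20, 14, 12, 9, 11, 10, 2, 21, 3, 17, 7, 23, 5, 19],
   [12, 4, 9, 6, 1, 22, 3, 23, 18, 2, 17, 14, 0, 16, 11, 19, 13, 10, 8, 15, 21, 20, 5, 7],
   [12, 4, 3, 2, 1, 11, 6, 10, 13, 9, 7, 5, 0, 8, 22, 15, 16, 17, 18, 21, 20, 19, 14, 23],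
   [1, 12, 6, 9, 0, 5, 8, 23, 16, 13, 17, 11, 4, 18, 22, 10, 3, 21, 2, 15, 7, 20, 14, 19],
   [1, 12, 2, 3, 0, 14, 18, 10, 8, 16, 7, 22, 4, 13, 11, 17, 6, 20, 9, 21, 23, 19, 5, 15],
   [1, 12, 9, 6, 0, 5, 13, 17, 18, 8, 23, 11, 4, 16, 22, 7, 2, 19, 3, 20, 10, 15, 14, 21],
   [4, 0, 18, 16, 12, 5, 2, 20, 6, 3, 15, 11, 1, 9, 22, 19, 8, 10, 13, 23, 21, 17, 14, 7],
   [1, 12, 8, 13, 0, 22, 9, 21, 3, 6, 19, 14, 4, 2, 5, 15, 18, 17, 16, 7, 20, 10, 11, 23],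
   [0, 1, 9, 6, 4, 14, 2, 23, 18, 3, 17, 22, 12, 16, 5, 21, 8, 7, 13, 15, 19, 20, 11, 10],
   [0, 1, 8, 13, 4, 11, 18, 19, 3, 16, 21, 5, 12, 2, 22, 23, 6, 15, 9, 10, 17, 7, 14, 20],
   [12, 4, 18, 16, 1, 14, 8, 15, 6, 13, 20, 22, 0, 9, 5, 7, 3, 19, 2, 17, 10, 23, 11, 21],
   [12, 4, 16, 18, 1, 14, 13, 20, 9, 8, 15, 22, 0, 6, 5, 10, 2, 21, 3, 23, 7, 17, 11, 19],
   [0, 1, 6, 9, 4, 14, 3, 17, 16, 2, 23, 22, 12, 18, 5, 19, 13, 10, 8, 20, 21, 15, 11, 7],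
   [0, 1, 3, 2, 4, 5, 9, 10, 13, 6, 7, 11, 12, 8, 14, 20, 18, 23, 16, 21, 15, 19, 22, 17],
   [4, 0, 2, 3, 12, 22, 16, 10, 8, 18, 7, 14, 1, 13, 5, 23, 9, 15, 6, 21, 17, 19, 11, 20],
   [0, 4, 13, 8, 1, 11, 9, 19, 3, 6, 21, 5, 12, 2, 14, 20, 16, 17, 18, 7, 15, 10, 22, 23],
   [1, 0, 9, 6, 12, 5, 2, 23, 16, 3, 17, 11, 4, 18, 14, 19, 13, 7, 8, 20, 21, 15, 22, 10],
   [1, 0, 13, 8, 12, 22, 16, 21, 3, 18, 19, 14, 4, 2, 11, 23, 6, 20, 9, 10, 17, 7, 5, 15],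
   [4, 12, 16, 18, 0, 5, 13, 20, 6, 8, 15, 11, 1, 9, 14, 7, 3, 21, 2, 17, 10, 23, 22, 19],
   [4, 12, 18, 16, 0, 5, 8, 15, 9, 13, 20, 11, 1, 6, 14, 10, 2, 19, 3, 23, 7, 17, 22, 21],
   [1, 0, 6, 9, 12, 5, 3, 17, 18, 2, 23, 11, 4, 16, 14, 21, 8, 10, 13, 15, 19, 20, 22, 7],
   [1, 0, 3, 2, 12, 14, 9, 10, 8, 6, 7, 22, 4, 13, 5, 15, 16, 23, 18, 19, 20, 21, 11, 17],
   [12, 1, 2, 3, 4, 11, 18, 10, 13, 16, 7, 5, 0, 8, 14, 23, 9, 20, 6, 19, 17, 21, 22, 15]]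

/-- Right multiplication of the elements by the generators. -/
def rm : List (List ℕ) :=
  [[1, 2, 3, 4],
   [0, 5, 6, 7],
   [8, 0, 9, 10],
   [11, 12, 0, 13],
   [7, 14, 15, 0],
   [16, 1, 17, 18],
   [19, 20, 1, 21],
   [4, 22, 23, 1],
   [2, 24, 25, 26],
   [20, 27, 2, 28],
   [26, 29, 30, 2],
   [3, 25, 31, 32],
   [17, 3, 33, 29],
   [32, 30, 28, 3],
   [34, 4, 29, 27],
   [35, 28, 4, 33],
   [5, 36, 37, 38],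
   [12, 39, 5, 40],
   [38, 41, 42, 5],
   [6, 37, 43, 44],
   [9, 6, 45, 41],
   [44, 42, 40, 6],
   [46, 7, 41, 39],
   [47, 40, 7, 45],
   [36, 8, 48, 49],
   [50, 11, 8, 51],
   [10, 52, 53, 8],
   [48, 9, 54, 14],
   [41, 15, 13, 9],
   [40, 10, 14, 12],
   [42, 13, 10, 54],
   [43, 55, 11, 53],
   [13, 49, 52, 11],
   [55, 54, 12, 15],
   [14, 53, 51, 48],
   [15, 51, 49, 55],
   [24, 16, 56, 57],
   [58, 19, 16, 59],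
   [18, 60, 61, 16],
   [56, 17, 62, 22],
   [29, 23, 21, 17],
   [28, 18, 22, 20],
   [30, 21, 18, 62],
   [31, 63, 19, 61],
   [21, 57, 60, 19],
   [63, 62, 20, 23],
   [22, 61, 59, 56],
   [23, 59, 57, 63],
   [27, 58, 24, 34],
   [57, 32, 35, 24],
   [25, 56, 63, 60],
   [60, 35, 34, 25],
   [59, 26, 32, 58],
   [61, 34, 26, 31],
   [62, 33, 27, 30],
   [33, 31, 58, 35],
   [39, 50, 36, 46],
   [49, 44, 47, 36],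
   [37, 48, 55, 52],
   [52, 47, 46, 37],
   [51, 38, 44, 50],
   [53, 46, 38, 43],
   [54, 45, 39, 42],
   [45, 43, 50, 47]]

/-- Word of the central involution. -/
def zW : List ℕ := [4, 1, 2, 3, 1, 2, 0, 0, 3, 1, 1, 2, 0, 4, 2, 0, 3, 4, 2, 1, 3, 0, 2, 0, 0, 0, 2, 4, 1, 2, 3, 1, 2, 0, 0, 4]

/-- Conjugators from the central involution to the first three generators. -/
def hW : List (List ℕ) :=
  [[2, 1, 1, 1, 2, 1, 4, 0, 2, 4, 2, 1, 1, 1, 2, 1, 4, 0, 2, 4, 4],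
   [3, 4, 1, 2, 3, 1, 2, 0, 0, 4],
   [4, 1, 2, 3, 1, 2, 0, 0, 3, 4, 1, 2, 3, 1, 2, 0, 0, 4]]

/-- Their inverses. -/
def hWi : List (List ℕ) :=
  [[3, 3, 2, 1, 3, 0, 2, 0, 0, 0, 2, 3, 2, 1, 3, 0, 2, 0, 0, 0, 2],
   [3, 1, 1, 2, 0, 4, 2, 0, 3, 4],
   [3, 1, 1, 2, 0, 4, 2, 0, 3, 4, 1, 1, 2, 0, 4, 2, 0, 3]]

/-- Conjugator from the product of the first three generators (in the order `1, 0, 2`) to the fourth generator. -/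
def hA : List ℕ := [1, 1, 2, 0, 4, 2, 0, 3, 2, 1, 1, 1, 2, 1, 4, 0, 2, 4]

/-- Its inverse. -/
def hAi : List ℕ := [3, 2, 1, 3, 0, 2, 0, 0, 0, 2, 4, 1, 2, 3, 1, 2, 0, 0]

/-- An element centralizing the central involution but not normalizing the group. -/
def cW : List ℕ := [1, 1, 2, 0, 4, 2, 0, 3, 2, 1, 1, 1, 2, 1, 4, 0, 2, 4]

/-- Its inverse. -/
def cWi : List ℕ := [3, 2, 1, 3, 0, 2, 0, 0, 0, 2, 4, 1, 2, 3, 1, 2, 0, 0]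

/-- Lookup: word of the `i`-th generator. -/
def gWd (i : ℕ) : List ℕ := gW.getD i []

/-- Lookup: table of the `i`-th generator. -/
def gTd (i j : ℕ) : ℕ := (gT.getD i []).getD j 0

/-- Lookup: table of the `a`-th element. -/
def eT (a j : ℕ) : ℕ := (elT.getD a []).getD j 0

/-- Lookup: index of the product of the `a`-th element with the `i`-th generator. -/
def rmd (a i : ℕ) : ℕ := (rm.getD a []).getD i 0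

/-- Lookup: the `i`-th conjugator. -/
def hWd (i : ℕ) : List ℕ := hW.getD i []

/-- Lookup: the inverse of the `i`-th conjugator. -/
def hWid (i : ℕ) : List ℕ := hWi.getD i []

/-- The word preserves the dodecad of squares. -/
def OKw (w : List ℕ) : Prop :=
  ∀ j < 24, dsqMask.testBit j = true → dsqMask.testBit (m24Eval w j) = true

instance OKw.dec (w : List ℕ) : Decidable (OKw w) := by unfold OKw; infer_instance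

set_option maxRecDepth 1000000 in
theorem gens_ok : ∀ i < 4, OKw (gWd i) ∧ ∀ j < 24, m24Eval (gWd i) j = gTd i j := by
  decide +kernel

set_option maxRecDepth 1000000 in
theorem gens_inv : ∀ i < 4, ∀ j < 24, gTd i (gTd i j) = j := by decide +kernel

set_option maxRecDepth 1000000 in
theorem el_zero : ∀ j < 24, eT 0 j = j := by decide +kernel

set_option maxRecDepth 1000000 in
theorem rm_ok : ∀ a < 64, ∀ i < 4, rmd a i < 64 ∧ ∀ j < 24, eT a (gTd i j) = eT (rmd a i) j := by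
  decide +kernel

set_option maxRecDepth 1000000 in
theorem par_ok : ∀ a < 64, 0 < a → ∃ p < a, ∃ i < 4, rmd p i = a := by decide +kernel

set_option maxRecDepth 1000000 in
theorem el_inj : ∀ a < 64, ∀ b < 64, (∀ j < 24, eT a j = eT b j) → a = b := by decide +kernel

set_option maxRecDepth 1000000 in
theorem center_ok : ∀ a < 64, (∀ i < 4, ∀ j < 24, eT a (gTd i j) = gTd i (eT a j)) →
    a = 0 ∨ a = 54 := by decide +kernel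

set_option maxRecDepth 1000000 in
theorem z_ok : OKw zW ∧ ∀ j < 24, m24Eval zW j = eT 54 j := by decide +kernel

set_option maxRecDepth 1000000 in
theorem z_comm : ∀ i < 4, ∀ j < 24, eT 54 (gTd i j) = gTd i (eT 54 j) := by decide +kernel

set_option maxRecDepth 1000000 in
theorem h_ok : ∀ i < 3, OKw (hWd i) ∧ OKw (hWid i) ∧ (∀ j < 24, m24Eval (hWd i ++ hWid i) j = j) ∧
    ∀ j < 24, m24Eval (hWd i ++ zW ++ hWid i) j = gTd i j := by decide +kernel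

set_option maxRecDepth 1000000 in
theorem a_ok : OKw hA ∧ OKw hAi ∧ OKw (gWd 1 ++ gWd 0 ++ gWd 2) ∧
    (∀ j < 24, m24Eval (hA ++ hAi) j = j) ∧
    ∀ j < 24, m24Eval (hA ++ (gWd 1 ++ gWd 0 ++ gWd 2) ++ hAi) j = gTd 3 j := by decide +kernel

set_option maxRecDepth 1000000 in
theorem c_ok : OKw cW ∧ OKw cWi ∧ (∀ j < 24, m24Eval (cW ++ cWi) j = j) ∧
    (∀ j < 24, m24Eval (cW ++ zW ++ cWi) j = eT 54 j) ∧
    ∀ a < 64, ∃ j < 24, eT a j ≠ m24Eval (cW ++ gWd 1 ++ cWi) j := by decide +kernel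

set_option maxRecDepth 1000000 in
theorem fix_cases : ∀ j < 24, dsqMask.testBit j = true → eT 54 j = j → j ∈ [0, 1, 4, 12] := by
  decide +kernel

set_option maxRecDepth 1000000 in
theorem mv_cases : ∀ j < 24, dsqMask.testBit j = true → eT 54 j ≠ j →
    j ∈ [2, 3, 6, 8, 9, 13, 16, 18] := by decide +kernel

set_option maxRecDepth 1000000 in
theorem z_vals : eT 54 2 = 3 ∧ eT 54 0 = 0 ∧ eT 54 1 = 1 ∧ eT 54 4 = 4 := by decide +kernel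

end Cfsg.Agent.Lib.Helper61.M12Syl
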