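import Cfsg.Agent.Lib.Helper71.MargDefs

/-!
# Marggraf's theorem (S3620), MODULE E: the 3-cycle endgame (helper61)

`marggraf_primitive_of_transOn`: a primitive group with a Jordan set `Γ`, `1 < |Γ|`, `2|Γ| < n`, in which the
pointwise stabiliser of every set `Y` with `|Y| ≤ |Γᶜ|` is transitive on `Yᶜ`, induces every even permutation.
-/

set_option autoImplicit false

namespace Cfsg.Agent.Lib.Helper61.MargE

open MulAction Cfsg.Agent.Lib.Helper71.Marg
open scoped Pointwise

variable {G Ω : Type*} [Group G] [MulAction G Ω]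

/-- The image of `G` in `Perm Ω` is primitive if `G` is. -/
theorem isPreprimitive_range (hprim : IsPreprimitive G Ω) :
    IsPreprimitive ↥(MulAction.toPermHom G Ω).range Ω := by
  let φ : G → ↥(MulAction.toPermHom G Ω).range := fun g => (MulAction.toPermHom G Ω).rangeRestrict g
  let f : Ω →ₑ[φ] Ω :=
    { toFun := id
      map_smul' := fun g x => rfl }
  exact IsPreprimitive.of_surjective (f := f) Function.surjective_id

/-- The commutator `g h g⁻¹ h⁻¹` is a 3-cycle, when `g` fixes the support of `h` except for one point `α`,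
which it moves outside the support. -/
theorem toPerm_comm_eq [DecidableEq Ω] (g h : G) (α δ : Ω) (hα : h • α ≠ α) (hδ : h • δ = δ)
    (hg : ∀ y, h • y ≠ y → y ≠ α → g • y = y) (hgα : g • α = δ) :
    (MulAction.toPerm (g * h * g⁻¹ * h⁻¹) : Equiv.Perm Ω)
      = Equiv.swap α (h • α) * Equiv.swap α δ := by
  have hαδ : α ≠ δ := fun e => hα (e ▸ hδ)
  have hβδ : h • α ≠ δ := by
    intro e
    apply hα
    have : h • (h • α) = h • α := by rw [e, hδ]
    exact smul_left_cancel h this
  -- points moved by `h`: their `h`-images and `h`-preimages are moved too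
  have hmv : ∀ y : Ω, h • y ≠ y → h • (h • y) ≠ h • y := fun y hy e => hy (smul_left_cancel h e)
  have hmv' : ∀ y : Ω, h • y ≠ y → h • (h⁻¹ • y) ≠ h⁻¹ • y := by
    intro y hy e
    rw [smul_inv_smul] at e
    apply hy
    conv_lhs => rw [e]
    rw [smul_inv_smul]
  -- `g⁻¹ α` is not moved by `h`
  have hginv : h • (g⁻¹ • α) = g⁻¹ • α := by
    by_contra hne
    by_cases hp : g⁻¹ • α = α
    · have : g • α = α := by
        conv_lhs => rw [← hp]
        rw [smul_inv_smul]
      exact hαδ (this.symm.trans hgα)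
    · have h1 := hg _ hne hp
      rw [smul_inv_smul] at h1
      exact hp h1.symm
  -- `h' = g h g⁻¹` fixes every point not moved by `h`, except `δ`
  have hfix' : ∀ z : Ω, h • z = z → z ≠ δ → g • h • g⁻¹ • z = z := by
    intro z hz hzδ
    have h1 : h • (g⁻¹ • z) = g⁻¹ • z := by
      by_contra hne
      by_cases hp : g⁻¹ • z = α
      · apply hzδ
        rw [← hgα, ← hp, smul_inv_smul]
      · have h2 := hg _ hne hp
        rw [smul_inv_smul] at h2
        rw [← h2] at hne
        exact hne hz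
    rw [h1, smul_inv_smul]
  apply Equiv.ext
  intro z
  simp only [MulAction.toPerm_apply, Equiv.Perm.coe_mul, Function.comp_apply, mul_smul]
  by_cases hz : h • z = z
  · -- `z` not moved by `h`
    have hz' : h⁻¹ • z = z := by
      conv_lhs => rw [← hz]
      rw [inv_smul_smul]
    have hzα : z ≠ α := fun e => hα (e ▸ hz)
    have hzβ : z ≠ h • α := by
      intro e
      apply hmv α hα
      rw [← e, hz]
    rw [hz']
    by_cases hzδ : z = δ
    · subst hzδ
      rw [Equiv.swap_apply_right, Equiv.swap_apply_left]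
      have : g⁻¹ • z = α := by rw [← hgα, inv_smul_smul]
      rw [this]
      exact hg _ (hmv α hα) (fun e => hα e)
    · rw [Equiv.swap_apply_of_ne_of_ne hzα hzδ, Equiv.swap_apply_of_ne_of_ne hzα hzβ]
      exact hfix' z hz hzδ
  · -- `z` moved by `h`
    have hzδ : z ≠ δ := fun e => hz (e ▸ hδ)
    have hw := hmv' z hz
    by_cases hzα : z = α
    · subst hzα
      rw [Equiv.swap_apply_left, Equiv.swap_apply_of_ne_of_ne (Ne.symm hαδ) (Ne.symm hβδ)]
      have hwα : h⁻¹ • z ≠ z := by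
        intro e
        apply hz
        conv_lhs => rw [← e]
        rw [smul_inv_smul]
      have h1 : g⁻¹ • h⁻¹ • z = h⁻¹ • z := by
        have := hg _ hw hwα
        conv_lhs => rw [← this]
        rw [inv_smul_smul]
      rw [h1, smul_inv_smul, hgα]
    · rw [Equiv.swap_apply_of_ne_of_ne hzα hzδ]
      by_cases hzβ : z = h • α
      · rw [hzβ, Equiv.swap_apply_right, inv_smul_smul, hginv, smul_inv_smul]
      · rw [Equiv.swap_apply_of_ne_of_ne hzα hzβ]
        have hwα : h⁻¹ • z ≠ α := by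
          intro e
          apply hzβ
          rw [← e, smul_inv_smul]
        have h1 : g⁻¹ • h⁻¹ • z = h⁻¹ • z := by
          have := hg _ hw hwα
          conv_lhs => rw [← this]
          rw [inv_smul_smul]
        rw [h1, smul_inv_smul]
        exact hg _ hz hzα

/-- MODULE E with the multiple-transitivity statement (`transOn_of_card_le`, MODULE L) as a hypothesis. -/
theorem marggraf_primitive_of_transOn [Fintype Ω] [DecidableEq Ω] {Γ : Set Ω}
    (hprim : IsPreprimitive G Ω)
    (hΓ : IsJordan G Γ) (h2 : 1 < Γ.ncard) (hhalf : 2 * Γ.ncard < Fintype.card Ω)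
    (htrans : ∀ Y : Set Ω, Y.ncard ≤ Γᶜ.ncard → TransOn (fixingSubgroup G Y) Yᶜ) :
    ∀ σ : Equiv.Perm Ω, Equiv.Perm.sign σ = 1 → ∃ x : G, (MulAction.toPerm x : Equiv.Perm Ω) = σ := by
  classical
  -- two points of `Γ` and an element `h` of the Jordan group moving one to the other
  obtain ⟨α, hαΓ, β, hβΓ, hαβ⟩ := (Set.one_lt_ncard (Set.toFinite Γ)).mp h2
  obtain ⟨h, hh, hhα⟩ := hΓ α hαΓ β hβΓ
  have hhfix : ∀ x, x ∉ Γ → h • x = x := mem_fixingSubgroup_compl_iff.mp hh
  have hcard : Γ.ncard + Γᶜ.ncard = Fintype.card Ω := by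
    rw [Set.ncard_add_ncard_compl, Nat.card_eq_fintype_card]
  -- a point `δ` outside `Γ`
  have hcne : Γᶜ.Nonempty := by
    rw [← Set.ncard_pos (Set.toFinite _)]
    omega
  obtain ⟨δ, hδ⟩ := hcne
  have hδΓ : δ ∉ Γ := hδ
  -- `Y` : the points moved by `h`, except `α`
  let Y : Set Ω := {x | h • x ≠ x} \ {α}
  have hYΓ : Y ⊆ Γ \ {α} := by
    rintro x ⟨hx1, hx2⟩
    refine ⟨?_, hx2⟩
    by_contra hx
    exact hx1 (hhfix x hx)
  have hYcard : Y.ncard ≤ Γᶜ.ncard := by
    have h1 : Y.ncard ≤ (Γ \ {α}).ncard := Set.ncard_le_ncard hYΓ (Set.toFinite _)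
    have h3 : (Γ \ {α}).ncard = Γ.ncard - 1 := Set.ncard_sdiff_singleton_of_mem hαΓ
    omega
  have hαY : α ∈ Yᶜ := fun hx => hx.2 rfl
  have hδY : δ ∈ Yᶜ := fun hx => hδΓ (hYΓ hx).1
  obtain ⟨g, hg, hgα⟩ := htrans Y hYcard α hαY δ hδY
  have hgfix : ∀ y, h • y ≠ y → y ≠ α → g • y = y := by
    intro y hy1 hy2
    exact (mem_fixingSubgroup_iff G).mp hg y ⟨hy1, hy2⟩
  have hα : h • α ≠ α := by rw [hhα]; exact fun e => hαβ e.symm
  have key := toPerm_comm_eq g h α δ hα (hhfix δ hδΓ) hgfix hgα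
  have hαδ : α ≠ δ := fun e => hδΓ (e ▸ hαΓ)
  have hβδ : h • α ≠ δ := by rw [hhα]; exact fun e => hδΓ (e ▸ hβΓ)
  have h3 : Equiv.Perm.IsThreeCycle (Equiv.swap α (h • α) * Equiv.swap α δ) :=
    Equiv.Perm.isThreeCycle_swap_mul_swap_same (Ne.symm hα) hαδ hβδ
  have hmem : Equiv.swap α (h • α) * Equiv.swap α δ ∈ (MulAction.toPermHom G Ω).range :=
    ⟨g * h * g⁻¹ * h⁻¹, key⟩
  have hle := Equiv.Perm.alternatingGroup_le_of_isPreprimitive_of_isThreeCycle_mem
    (isPreprimitive_range hprim) h3 hmem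
  intro σ hσ
  obtain ⟨x, hx⟩ := hle (Equiv.Perm.mem_alternatingGroup.mpr hσ)
  exact ⟨x, hx⟩

end Cfsg.Agent.Lib.Helper61.MargE
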