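import Cfsg.Agent.Lib.Helper71.MargDefs

/-!
# Marggraf's theorem (S3620), MODULE Q: quasiprimitive ⇒ primitive (helper61)

A faithful quasiprimitive group with a Jordan set `Γ`, `1 < |Γ|`, `2|Γ| < n`, which is not primitive, acts
faithfully and quasiprimitively on a block system, with the blocks inside `Γ` as a Jordan set satisfying the same
bounds. If the group induced on the block system contains the alternating group, a commutator computation gives a
contradiction. Hence, by strong induction on the degree, the primitive case implies the quasiprimitive one.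
-/

set_option autoImplicit false

namespace Cfsg.Agent.Lib.Helper61.MargQ

open MulAction Cfsg.Agent.Lib.Helper71.Marg
open scoped Pointwise

section Kernel

variable {G Ω : Type*} [Group G] [MulAction G Ω]

/-- The kernel of the action on the translates of a set `B`. -/
def bker (G : Type*) {Ω : Type*} [Group G] [MulAction G Ω] (B : Set Ω) : Subgroup G where
  carrier := {n | ∀ g : G, n • (g • B) = g • B}
  one_mem' := by intro g; simp
  mul_mem' := by
    intro a b ha hb g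
    rw [mul_smul, hb g, ha g]
  inv_mem' := by
    intro a ha g
    have := ha g
    rw [inv_smul_eq_iff]
    exact this.symm

theorem bker_normal (B : Set Ω) : (bker G B).Normal := by
  constructor
  intro n hn h g
  have := hn (h⁻¹ * g)
  rw [mul_smul, mul_smul, ← mul_smul h⁻¹ g B, this, ← mul_smul, mul_inv_cancel_left]

theorem mem_bker_iff (B : Set Ω) (n : G) : n ∈ bker G B ↔ ∀ g : G, n • (g • B) = g • B := Iff.rfl

end Kernel

section EvenPerm

/-- An even permutation fixing `c ∈ S` and moving all other points of `S` outside `S`, when `2|S| < |β|`. -/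
theorem exists_even_perm {β : Type*} [Fintype β] [DecidableEq β] (S : Set β) (c : β) (hc : c ∈ S)
    (hS : 2 * S.ncard < Fintype.card β) :
    ∃ σ : Equiv.Perm β, Equiv.Perm.sign σ = 1 ∧ σ c = c ∧ ∀ b ∈ S, b ≠ c → σ b ∉ S := by
  classical
  have hcardS : Nat.card ↥S = S.ncard := Nat.card_coe_set_eq S
  have hcardSc : Nat.card ↥(Sᶜ : Set β) = Fintype.card β - S.ncard := by
    rw [Nat.card_coe_set_eq, Set.ncard_compl, Nat.card_eq_fintype_card]
  let e : ↥S ≃ Fin S.ncard := (Finite.equivFin ↥S).trans (finCongr hcardS)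
  let e1 : Fin S.ncard ↪ β := e.symm.toEmbedding.trans (Function.Embedding.subtype _)
  obtain ⟨f⟩ : Nonempty (Fin S.ncard ↪ ↥(Sᶜ : Set β)) := by
    apply Function.Embedding.nonempty_of_card_le
    rw [Fintype.card_fin, ← Nat.card_eq_fintype_card, hcardSc]
    omega
  let i0 : Fin S.ncard := e ⟨c, hc⟩
  let e2 : Fin S.ncard ↪ β :=
    ⟨fun i => if i = i0 then c else (f i : β), by
      intro i j hij
      simp only at hij
      by_cases hi : i = i0
      · by_cases hj : j = i0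
        · rw [hi, hj]
        · rw [if_pos hi, if_neg hj] at hij
          exact absurd (hij ▸ hc) (f j).2
      · by_cases hj : j = i0
        · rw [if_neg hi, if_pos hj] at hij
          exact absurd (hij ▸ hc) (f i).2
        · rw [if_neg hi, if_neg hj] at hij
          exact f.injective (Subtype.ext hij)⟩
  have := alternatingGroup.isMultiplyPretransitive β
  have hmt : IsMultiplyPretransitive (alternatingGroup β) β S.ncard :=
    isMultiplyPretransitive_of_le (n := Nat.card β - 2)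
      (by rw [Nat.card_eq_fintype_card]; omega) (Nat.sub_le _ _)
  obtain ⟨g, hg⟩ := hmt.exists_smul_eq e1 e2
  have hg' : ∀ i, (g : Equiv.Perm β) (e1 i) = e2 i := by
    intro i
    have := DFunLike.congr_fun hg i
    simpa [Function.Embedding.smul_apply, Subgroup.smul_def, Equiv.Perm.smul_def] using this
  refine ⟨g.1, Equiv.Perm.mem_alternatingGroup.mp g.2, ?_, ?_⟩
  · have h1 : e1 i0 = c := by
      show ((e.symm (e ⟨c, hc⟩) : ↥S) : β) = c
      rw [Equiv.symm_apply_apply]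
    have h2 := hg' i0
    rw [h1] at h2
    rw [h2]
    show (if i0 = i0 then c else (f i0 : β)) = c
    rw [if_pos rfl]
  · intro b hb hbc
    have h1 : e1 (e ⟨b, hb⟩) = b := by
      show ((e.symm (e ⟨b, hb⟩) : ↥S) : β) = b
      rw [Equiv.symm_apply_apply]
    have h2 := hg' (e ⟨b, hb⟩)
    rw [h1] at h2
    rw [h2]
    have hne : e ⟨b, hb⟩ ≠ i0 := by
      intro h
      apply hbc
      have := e.injective h
      exact congrArg Subtype.val this
    show (if e ⟨b, hb⟩ = i0 then c else (f (e ⟨b, hb⟩) : β)) ∉ S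
    rw [if_neg hne]
    exact (f (e ⟨b, hb⟩)).2

end EvenPerm

section Step

universe u v

variable {G : Type u} {Ω : Type v} [Group G] [MulAction G Ω]

/-- Two translates of a block which meet are equal. -/
theorem eq_of_mem_orbit_of_nonempty {B0 : Set Ω} (hB0 : IsBlock G B0) {B1 B2 : Set Ω}
    (h1 : B1 ∈ orbit G B0) (h2 : B2 ∈ orbit G B0) (h : (B1 ∩ B2).Nonempty) : B1 = B2 := by
  obtain ⟨g1, rfl⟩ := h1
  obtain ⟨g2, rfl⟩ := h2
  exact hB0.smul_eq_smul_of_nonempty h

theorem smul_mem_orbit_set {B0 B : Set Ω} (hB : B ∈ orbit G B0) (k : G) : k • B ∈ orbit G B0 := by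
  obtain ⟨g, rfl⟩ := hB
  exact ⟨k * g, mul_smul k g B0⟩

theorem smul_set_eq_of_forall_fix (k : G) (B : Set Ω) (h : ∀ y ∈ B, k • y = y) : k • B = B := by
  ext y
  constructor
  · rintro ⟨y', hy', rfl⟩
    show k • y' ∈ B
    rw [h y' hy']
    exact hy'
  · intro hy
    exact ⟨y, hy, h y hy⟩

/-- The main step: a non-primitive quasiprimitive group with a small Jordan set cannot exist, if the theorem
holds in all smaller degrees. -/
theorem false_of_not_isPreprimitive [FaithfulSMul G Ω] [Fintype Ω]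
    (hqp : ∀ N : Subgroup G, N.Normal → N ≠ ⊥ → IsPretransitive ↥N Ω)
    (Γ : Set Ω) (hΓ : IsJordan G Γ) (h2 : 1 < Γ.ncard) (hhalf : 2 * Γ.ncard < Fintype.card Ω)
    (hnp : ¬ IsPreprimitive G Ω)
    (IH : ∀ (Ω' : Type v) [MulAction G Ω'] [FaithfulSMul G Ω'] [Fintype Ω'] [DecidableEq Ω'],
      Fintype.card Ω' < Fintype.card Ω →
      (∀ N : Subgroup G, N.Normal → N ≠ ⊥ → IsPretransitive ↥N Ω') →
      ∀ Γ' : Set Ω', IsJordan G Γ' → 1 < Γ'.ncard → 2 * Γ'.ncard < Fintype.card Ω' →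
      ∀ σ : Equiv.Perm Ω', Equiv.Perm.sign σ = 1 →
        ∃ x : G, (MulAction.toPerm x : Equiv.Perm Ω') = σ) : False := by
  classical
  -- the Jordan group `K`
  have hKfix : ∀ k ∈ fixingSubgroup G Γᶜ, ∀ x, x ∉ Γ → k • x = x :=
    fun k hk => mem_fixingSubgroup_compl_iff.mp hk
  have hKΓ : ∀ k ∈ fixingSubgroup G Γᶜ, ∀ x ∈ Γ, k • x ∈ Γ :=
    fun k hk x hx => smul_mem_of_mem_fixingSubgroup_compl hk hx
  obtain ⟨α, hαΓ, β, hβΓ, hαβ⟩ := (Set.one_lt_ncard (Set.toFinite Γ)).mp h2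
  obtain ⟨h0, hh0, hh0α⟩ := hΓ α hαΓ β hβΓ
  have hh01 : h0 ≠ 1 := by
    rintro rfl
    rw [one_smul] at hh0α
    exact hαβ hh0α
  -- `G` is transitive
  have htop : (⊤ : Subgroup G) ≠ ⊥ := by
    intro h
    have : h0 ∈ (⊥ : Subgroup G) := h ▸ Subgroup.mem_top _
    exact hh01 (Subgroup.mem_bot.mp this)
  have htrans : IsPretransitive G Ω := by
    have h1 := hqp ⊤ inferInstance htop
    constructor
    intro x y
    obtain ⟨g, hg⟩ := h1.exists_smul_eq x y
    exact ⟨(g : G), hg⟩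
  -- a nontrivial block
  obtain ⟨B0, hB0, hB0nt⟩ : ∃ B0 : Set Ω, IsBlock G B0 ∧ ¬ IsTrivialBlock B0 := by
    by_contra hcon
    push Not at hcon
    exact hnp ⟨fun {B} hB => hcon B hB⟩
  have hB0ns : ¬ B0.Subsingleton := fun hs => hB0nt (Or.inl hs)
  have hB0nu : B0 ≠ Set.univ := fun hs => hB0nt (Or.inr hs)
  rw [Set.not_subsingleton_iff] at hB0ns
  obtain ⟨w0, hw0, w0', hw0', hw0ne⟩ := hB0ns
  have hB0ne : B0.Nonempty := ⟨w0, hw0⟩
  obtain ⟨z0, hz0⟩ : ∃ z0, z0 ∉ B0 := by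
    by_contra hcon
    push Not at hcon
    exact hB0nu (Set.eq_univ_of_forall hcon)
  -- every point lies in a translate of `B0`
  have hcover : ∀ ω : Ω, ∃ B ∈ orbit G B0, ω ∈ B := by
    intro ω
    obtain ⟨g, hg⟩ := exists_smul_eq G w0 ω
    exact ⟨g • B0, ⟨g, rfl⟩, hg ▸ Set.smul_mem_smul_set hw0⟩
  have hmeet : ∀ {B1 B2 : Set Ω}, B1 ∈ orbit G B0 → B2 ∈ orbit G B0 → (B1 ∩ B2).Nonempty → B1 = B2 :=
    fun h1 h2 h => eq_of_mem_orbit_of_nonempty hB0 h1 h2 h
  -- every translate has two distinct points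
  have htwo : ∀ B ∈ orbit G B0, ∃ w ∈ B, ∃ w' ∈ B, w ≠ w' := by
    rintro B ⟨g, rfl⟩
    exact ⟨g • w0, Set.smul_mem_smul_set hw0, g • w0', Set.smul_mem_smul_set hw0',
      fun e => hw0ne (smul_left_cancel g e)⟩
  -- the kernel of the action on the translates is trivial
  have hker : bker G B0 = ⊥ := by
    by_contra hne
    have h1 := hqp _ (bker_normal B0) hne
    obtain ⟨n, hn⟩ := h1.exists_smul_eq w0 z0
    have h3 : (n : G) • B0 = B0 := by
      have := (mem_bker_iff B0 (n : G)).mp n.2 1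
      simpa using this
    apply hz0
    rw [← h3, ← hn]
    exact Set.smul_mem_smul_set hw0
  -- an element fixing every translate is trivial
  have htriv : ∀ k : G, (∀ B ∈ orbit G B0, k • B = B) → k = 1 := by
    intro k hk
    have : k ∈ bker G B0 := fun g => hk _ ⟨g, rfl⟩
    rw [hker] at this
    exact Subgroup.mem_bot.mp this
  -- a translate meeting `Γ` lies in `Γ`
  have hsubΓ : ∀ B ∈ orbit G B0, (B ∩ Γ).Nonempty → B ⊆ Γ := by
    intro B hB hBΓ
    by_contra hnot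
    obtain ⟨d, hdB, hdΓ⟩ := Set.not_subset.mp hnot
    obtain ⟨c, hcB, hcΓ⟩ := hBΓ
    have hBblock : IsBlock G B := by
      obtain ⟨g, rfl⟩ := hB
      exact hB0.translate g
    -- `Γ ⊆ B`
    have hKB : ∀ k ∈ fixingSubgroup G Γᶜ, k • B = B := by
      intro k hk
      apply hmeet (smul_mem_orbit_set hB k) hB
      exact ⟨d, ⟨d, hdB, hKfix k hk d hdΓ⟩, hdB⟩
    have hΓB : Γ ⊆ B := by
      intro y hy
      obtain ⟨k, hk, hky⟩ := hΓ c hcΓ y hy
      rw [← hky, ← hKB k hk]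
      exact Set.smul_mem_smul_set hcB
    apply hh01
    apply htriv
    intro B' hB'
    by_cases hBB' : B' = B
    · rw [hBB']; exact hKB h0 hh0
    · have hdisj : ∀ y ∈ B', y ∉ Γ := by
        intro y hy hyΓ
        exact hBB' (hmeet hB' hB ⟨y, hy, hΓB hyΓ⟩)
      exact smul_set_eq_of_forall_fix h0 B' fun y hy => hKfix h0 hh0 y (hdisj y hy)
  -- a translate not inside `Γ` is fixed pointwise by `K`
  have hKout : ∀ B ∈ orbit G B0, ¬ B ⊆ Γ → ∀ k ∈ fixingSubgroup G Γᶜ, ∀ y ∈ B, k • y = y := by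
    intro B hB hBΓ k hk y hy
    apply hKfix k hk
    intro hyΓ
    exact hBΓ (hsubΓ B hB ⟨y, hy, hyΓ⟩)
  have hKout' : ∀ B ∈ orbit G B0, ¬ B ⊆ Γ → ∀ k ∈ fixingSubgroup G Γᶜ, k • B = B := by
    intro B hB hBΓ k hk
    exact smul_set_eq_of_forall_fix k B (hKout B hB hBΓ k hk)
  -- `K` maps translates inside `Γ` to translates inside `Γ`
  have hKin : ∀ B : Set Ω, B ⊆ Γ → ∀ k ∈ fixingSubgroup G Γᶜ, k • B ⊆ Γ := by
    rintro B hBΓ k hk _ ⟨y, hy, rfl⟩
    exact hKΓ k hk y (hBΓ hy)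
  -- the block system
  let BB := ↥(orbit G B0)
  have : Fintype BB := Fintype.ofFinite _
  -- the action on the block system is faithful
  have hfaith : FaithfulSMul G BB := by
    constructor
    intro g1 g2 hg
    have h1 : g2⁻¹ * g1 = 1 := by
      apply htriv
      intro B hB
      have : g1 • B = g2 • B := congrArg Subtype.val (hg ⟨B, hB⟩)
      rw [mul_smul, this, inv_smul_smul]
    calc g1 = g2 * (g2⁻¹ * g1) := by group
      _ = g2 := by rw [h1, mul_one]
  -- and quasiprimitive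
  have hqpBB : ∀ N : Subgroup G, N.Normal → N ≠ ⊥ → IsPretransitive ↥N BB := by
    intro N hN hNne
    have h1 := hqp N hN hNne
    constructor
    rintro ⟨B1, hB1⟩ ⟨B2, hB2⟩
    obtain ⟨w1, hw1, -⟩ := htwo B1 hB1
    obtain ⟨w2, hw2, -⟩ := htwo B2 hB2
    obtain ⟨n, hn⟩ := h1.exists_smul_eq w1 w2
    refine ⟨n, Subtype.ext ?_⟩
    show (n : G) • B1 = B2
    exact hmeet (smul_mem_orbit_set hB1 (n : G)) hB2 ⟨w2, hn ▸ Set.smul_mem_smul_set hw1, hw2⟩
  -- cardinalities
  have hcardBB : B0.ncard * Fintype.card BB = Fintype.card Ω := by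
    have := hB0.ncard_block_mul_ncard_orbit_eq hB0ne
    rw [Nat.card_eq_fintype_card] at this
    rw [← this, ← Nat.card_eq_fintype_card, Nat.card_coe_set_eq]
  have hB0card : 2 ≤ B0.ncard := by
    have : 1 < B0.ncard := (Set.one_lt_ncard (Set.toFinite B0)).mpr ⟨w0, hw0, w0', hw0', hw0ne⟩
    omega
  have hΩpos : 0 < Fintype.card Ω := Fintype.card_pos_iff.mpr ⟨w0⟩
  have hBBlt : Fintype.card BB < Fintype.card Ω := by
    have hpos : 0 < Fintype.card BB := by
      rcases Nat.eq_zero_or_pos (Fintype.card BB) with h | h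
      · rw [h, mul_zero] at hcardBB; omega
      · exact h
    nlinarith
  -- the Jordan set of blocks
  let Γb : Set BB := {B | (B : Set Ω) ⊆ Γ}
  -- the block of a point of `Γ`
  have hblockΓ : ∀ y ∈ Γ, ∃ B : BB, B ∈ Γb ∧ y ∈ (B : Set Ω) := by
    intro y hy
    obtain ⟨B, hB, hyB⟩ := hcover y
    exact ⟨⟨B, hB⟩, hsubΓ B hB ⟨y, hyB, hy⟩, hyB⟩
  have hJb : IsJordan G Γb := by
    intro B1 hB1 B2 hB2
    obtain ⟨w1, hw1, -⟩ := htwo B1.1 B1.2
    obtain ⟨w2, hw2, -⟩ := htwo B2.1 B2.2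
    obtain ⟨k, hk, hkw⟩ := hΓ w1 (hB1 hw1) w2 (hB2 hw2)
    refine ⟨k, ?_, ?_⟩
    · rw [mem_fixingSubgroup_iff]
      intro B hB
      apply Subtype.ext
      rw [orbit.coe_smul]
      exact hKout' B.1 B.2 hB k hk
    · apply Subtype.ext
      rw [orbit.coe_smul]
      exact hmeet (smul_mem_orbit_set B1.2 k) B2.2 ⟨w2, hkw ▸ Set.smul_mem_smul_set hw1, hw2⟩
  -- two distinct blocks inside `Γ`
  obtain ⟨C, hCΓ, hαC⟩ := hblockΓ α hαΓ
  obtain ⟨C', hC'Γ, hCC'⟩ : ∃ C' : BB, C' ∈ Γb ∧ C' ≠ C := by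
    by_contra hcon
    push Not at hcon
    -- then `Γ = C` and `K` fixes every block
    have hΓC : Γ ⊆ (C : Set Ω) := by
      intro y hy
      obtain ⟨B, hBΓ, hyB⟩ := hblockΓ y hy
      rw [← hcon B hBΓ]
      exact hyB
    apply hh01
    apply htriv
    intro B hB
    by_cases hBΓ : B ⊆ Γ
    · have hBC : (⟨B, hB⟩ : BB) = C := hcon ⟨B, hB⟩ hBΓ
      have hBC' : B = (C : Set Ω) := congrArg Subtype.val hBC
      have hΓB : Γ = B := by
        rw [hBC']
        exact Set.Subset.antisymm hΓC hCΓ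
      rw [← hΓB]
      ext y
      constructor
      · rintro ⟨y', hy', rfl⟩
        exact hKΓ h0 hh0 y' hy'
      · intro hy
        refine ⟨h0⁻¹ • y, ?_, smul_inv_smul h0 y⟩
        exact hKΓ h0⁻¹ (inv_mem hh0) y hy
    · exact hKout' B hB hBΓ h0 hh0
  have hΓb1 : 1 < Γb.ncard :=
    (Set.one_lt_ncard (Set.toFinite Γb)).mpr ⟨C, hCΓ, C', hC'Γ, fun e => hCC' e.symm⟩
  -- `|Γb| * |B0| ≤ |Γ|`
  have hΓbcard : Γb.ncard * B0.ncard ≤ Γ.ncard := by
    have hchoose : ∀ B : BB, ∃ g : G, g • B0 = (B : Set Ω) := fun B => B.2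
    choose gB hgB using hchoose
    have hmemB : ∀ (B : BB) (b : Ω), b ∈ B0 → gB B • b ∈ (B : Set Ω) := by
      intro B b hb
      rw [← hgB B]
      exact Set.smul_mem_smul_set hb
    let f : ↥Γb × ↥B0 → ↥Γ := fun p => ⟨gB p.1.1 • (p.2 : Ω), p.1.2 (hmemB p.1.1 p.2.1 p.2.2)⟩
    have hf : Function.Injective f := by
      rintro ⟨⟨B1, hB1⟩, ⟨b1, hb1⟩⟩ ⟨⟨B2, hB2⟩, ⟨b2, hb2⟩⟩ hp
      have hp' : gB B1 • b1 = gB B2 • b2 := congrArg Subtype.val hp
      have h1 := hmemB B1 b1 hb1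
      have h2 := hmemB B2 b2 hb2
      have hBeq : B1 = B2 := by
        apply Subtype.ext
        exact hmeet B1.2 B2.2 ⟨_, h1, hp' ▸ h2⟩
      subst hBeq
      have : b1 = b2 := smul_left_cancel _ hp'
      subst this
      rfl
    have := Nat.card_le_card_of_injective f hf
    rw [Nat.card_prod, Nat.card_coe_set_eq, Nat.card_coe_set_eq, Nat.card_coe_set_eq] at this
    exact this
  have hΓbhalf : 2 * Γb.ncard < Fintype.card BB := by
    have h1 : 2 * (Γb.ncard * B0.ncard) < B0.ncard * Fintype.card BB := by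
      rw [hcardBB]; omega
    have h3 : B0.ncard * (2 * Γb.ncard) < B0.ncard * Fintype.card BB := by
      calc B0.ncard * (2 * Γb.ncard) = 2 * (Γb.ncard * B0.ncard) := by ring
        _ < _ := h1
    exact lt_of_mul_lt_mul_left h3 (Nat.zero_le _)
  -- the induction hypothesis: every even permutation of the blocks is induced
  have hAlt := IH BB hBBlt hqpBB Γb hJb hΓb1 hΓbhalf
  -- an element `x` fixing `C` and moving all other blocks of `Γ` outside `Γ`
  obtain ⟨x, hxC, hxout⟩ : ∃ x : G, x • C = C ∧ ∀ B ∈ Γb, B ≠ C → x • B ∉ Γb := by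
    obtain ⟨σ, hσ, hσC, hσout⟩ := exists_even_perm Γb C hCΓ hΓbhalf
    obtain ⟨x, hx⟩ := hAlt σ hσ
    refine ⟨x, ?_, ?_⟩
    · have := DFunLike.congr_fun hx C
      rw [MulAction.toPerm_apply] at this
      rw [this, hσC]
    · intro B hB hBC
      have := DFunLike.congr_fun hx B
      rw [MulAction.toPerm_apply] at this
      rw [this]
      exact hσout B hB hBC
  -- set-level versions
  have hxC' : x • (C : Set Ω) = (C : Set Ω) := congrArg Subtype.val hxC
  have hxinvC' : x⁻¹ • (C : Set Ω) = (C : Set Ω) := by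
    rw [inv_smul_eq_iff]; exact hxC'.symm
  -- for a block `B ≠ C` inside `Γ`, the block `x⁻¹ B` is not inside `Γ`
  have hxinv : ∀ B : BB, B ∈ Γb → B ≠ C → x⁻¹ • B ∉ Γb := by
    intro B hB hBC hcon
    by_cases hC : x⁻¹ • B = C
    · apply hBC
      rw [← hxC, ← hC, smul_inv_smul]
    · have := hxout (x⁻¹ • B) hcon hC
      rw [smul_inv_smul] at this
      exact this hB
  -- points of `C` and `C'`
  obtain ⟨w, hw, w', hw', hww'⟩ := htwo C.1 C.2
  obtain ⟨v, hv, -⟩ := htwo C'.1 C'.2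
  obtain ⟨h, hh, hhw⟩ := hΓ w (hCΓ hw) v (hC'Γ hv)
  have hxw : x⁻¹ • w ∈ (C : Set Ω) := by
    rw [← hxinvC']; exact Set.smul_mem_smul_set hw
  have hxw' : x⁻¹ • w' ∈ (C : Set Ω) := by
    rw [← hxinvC']; exact Set.smul_mem_smul_set hw'
  obtain ⟨k, hk, hkw⟩ := hΓ (x⁻¹ • w) (hCΓ hxw) (x⁻¹ • w') (hCΓ hxw')
  -- `h' = x k x⁻¹`
  have hh'w : (x * k * x⁻¹) • w = w' := by
    rw [mul_smul, mul_smul, hkw, smul_inv_smul]
  -- the two elements commute on the blocks
  have hdisj : Equiv.Perm.Disjoint (MulAction.toPerm h : Equiv.Perm BB)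
      (MulAction.toPerm (x * k * x⁻¹) : Equiv.Perm BB) := by
    intro B
    rw [MulAction.toPerm_apply, MulAction.toPerm_apply]
    by_cases hB : B ∈ Γb
    · right
      by_cases hBC : B = C
      · subst hBC
        apply Subtype.ext
        rw [orbit.coe_smul]
        exact hmeet (smul_mem_orbit_set B.2 _) B.2 ⟨w', ⟨w, hw, hh'w⟩, hw'⟩
      · have h1 : k • (x⁻¹ • B) = x⁻¹ • B := by
          apply Subtype.ext
          rw [orbit.coe_smul]
          exact hKout' _ (x⁻¹ • B).2 (hxinv B hB hBC) k hk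
        rw [mul_smul, mul_smul, h1, smul_inv_smul]
    · left
      apply Subtype.ext
      rw [orbit.coe_smul]
      exact hKout' _ B.2 hB h hh
  have hcomm : h * (x * k * x⁻¹) = (x * k * x⁻¹) * h := by
    apply MulAction.toPerm_injective (α := G) (β := BB)
    have e1 : ∀ a b : G, (MulAction.toPerm (a * b) : Equiv.Perm BB)
        = MulAction.toPerm a * MulAction.toPerm b := by
      intro a b
      refine Equiv.ext fun B => ?_
      rw [Equiv.Perm.mul_apply, MulAction.toPerm_apply, MulAction.toPerm_apply,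
        MulAction.toPerm_apply, mul_smul]
    rw [e1 h (x * k * x⁻¹), e1 (x * k * x⁻¹) h]
    exact hdisj.commute
  -- but they do not commute at `w`
  have hvfix : (x * k * x⁻¹) • v = v := by
    have h1 : x⁻¹ • v ∉ Γ := by
      intro hcon
      have h2 : x⁻¹ • v ∈ ((x⁻¹ • C' : BB) : Set Ω) := by
        rw [orbit.coe_smul]; exact Set.smul_mem_smul_set hv
      exact hxinv C' hC'Γ hCC' (hsubΓ _ (x⁻¹ • C').2 ⟨_, h2, hcon⟩)
    rw [mul_smul, mul_smul, hKfix k hk _ h1, smul_inv_smul]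
  have h3 : (h * (x * k * x⁻¹)) • w = h • w' := by rw [mul_smul, hh'w]
  have h4 : ((x * k * x⁻¹) * h) • w = h • w := by rw [mul_smul, hhw, hvfix]
  rw [hcomm, h4] at h3
  exact hww' (smul_left_cancel h h3)

/-- MODULE Q, with the primitive case (MODULE E + L) as a hypothesis: strong induction on the degree. -/
theorem marggraf_quasiprimitive_of_primitive
    (hP : ∀ (Ω : Type v) [MulAction G Ω] [FaithfulSMul G Ω] [Fintype Ω] [DecidableEq Ω] (Γ : Set Ω),
      IsPreprimitive G Ω → IsJordan G Γ → 1 < Γ.ncard → 2 * Γ.ncard < Fintype.card Ω →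
      ∀ σ : Equiv.Perm Ω, Equiv.Perm.sign σ = 1 → ∃ x : G, (MulAction.toPerm x : Equiv.Perm Ω) = σ)
    (Ω : Type v) [MulAction G Ω] [FaithfulSMul G Ω] [Fintype Ω] [DecidableEq Ω]
    (hqp : ∀ N : Subgroup G, N.Normal → N ≠ ⊥ → IsPretransitive ↥N Ω)
    (Γ : Set Ω) (hΓ : IsJordan G Γ) (h2 : 1 < Γ.ncard) (hhalf : 2 * Γ.ncard < Fintype.card Ω) :
    ∀ σ : Equiv.Perm Ω, Equiv.Perm.sign σ = 1 → ∃ x : G, (MulAction.toPerm x : Equiv.Perm Ω) = σ := by
  suffices H : ∀ (n : ℕ) (Ω : Type v) [MulAction G Ω] [FaithfulSMul G Ω] [Fintype Ω] [DecidableEq Ω],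
      Fintype.card Ω = n → (∀ N : Subgroup G, N.Normal → N ≠ ⊥ → IsPretransitive ↥N Ω) →
      ∀ Γ : Set Ω, IsJordan G Γ → 1 < Γ.ncard → 2 * Γ.ncard < Fintype.card Ω →
      ∀ σ : Equiv.Perm Ω, Equiv.Perm.sign σ = 1 → ∃ x : G, (MulAction.toPerm x : Equiv.Perm Ω) = σ from
    H _ Ω rfl hqp Γ hΓ h2 hhalf
  intro n
  induction n using Nat.strong_induction_on with
  | _ n ih =>
    intro Ω _ _ _ _ hn hqp Γ hΓ h2 hhalf
    by_cases hprim : IsPreprimitive G Ω
    · exact hP Ω Γ hprim hΓ h2 hhalf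
    · exfalso
      apply false_of_not_isPreprimitive hqp Γ hΓ h2 hhalf hprim
      intro Ω' _ _ _ _ hlt hqp' Γ' hΓ' h2' hhalf'
      exact ih (Fintype.card Ω') (hn ▸ hlt) Ω' rfl hqp' Γ' hΓ' h2' hhalf'

end Step

end Cfsg.Agent.Lib.Helper61.MargQ
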