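import Mathlib
import Cfsg.Agent.Lib.Helper17.SylowCard
import Cfsg.Agent.Lib.Helper17.Burnside
import Cfsg.Agent.Lib.Helper17.CosetAction
import Cfsg.Agent.Lib.Helper17.Misc

set_option autoImplicit false
set_option linter.unusedSectionVars false

namespace Cfsg.Agent.Lib.Helper61

theorem fact7 : Fact (Nat.Prime 7) := ⟨by norm_num⟩
theorem fact3 : Fact (Nat.Prime 3) := ⟨by norm_num⟩

def sig : Equiv.Perm (Fin 8) where
  toFun := ![1, 2, 3, 4, 5, 6, 0, 7]
  invFun := ![6, 0, 1, 2, 3, 4, 5, 7]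
  left_inv := by decide
  right_inv := by decide

def tau : Equiv.Perm (Fin 8) where
  toFun := ![0, 2, 4, 6, 1, 3, 5, 7]
  invFun := ![0, 4, 1, 5, 2, 6, 3, 7]
  left_inv := by decide
  right_inv := by decide

def w6 : Equiv.Perm (Fin 8) where
  toFun := ![7, 6, 3, 2, 5, 4, 1, 0]
  invFun := ![7, 6, 3, 2, 5, 4, 1, 0]
  left_inv := by decide
  right_inv := by decide

theorem orderOf_sig : orderOf sig = 7 := by
  have : Fact (Nat.Prime 7) := ⟨by norm_num⟩
  exact orderOf_eq_prime (by decide) (by decide)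

theorem orderOf_tau : orderOf tau = 3 := by
  have : Fact (Nat.Prime 3) := ⟨by norm_num⟩
  exact orderOf_eq_prime (by decide) (by decide)

/-- the concrete group -/
def L0 : Subgroup (Equiv.Perm (Fin 8)) := Subgroup.closure {sig, tau, w6}

theorem sig_mem_L0 : sig ∈ L0 := Subgroup.subset_closure (by simp)
theorem tau_mem_L0 : tau ∈ L0 := Subgroup.subset_closure (by simp)
theorem w6_mem_L0 : w6 ∈ L0 := Subgroup.subset_closure (by simp)

/-- a subgroup of order 168 containing the three generators is `L0` -/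
theorem eq_L0 (R : Subgroup (Equiv.Perm (Fin 8))) (hR : Nat.card R = 168) (hσ : sig ∈ R)
    (hτ : tau ∈ R) (hw : w6 ∈ R) : R = L0 := by
  have hL : L0 ≤ R := by
    rw [L0, Subgroup.closure_le]
    intro x hx
    simp only [Set.mem_insert_iff, Set.mem_singleton_iff] at hx
    rcases hx with rfl | rfl | rfl <;> assumption
  -- the stabilizer of 7 in R
  set S : Subgroup R := MulAction.stabilizer R (7 : Fin 8) with hS
  have horb : MulAction.orbit R (7 : Fin 8) = Set.univ := by
    rw [Set.eq_univ_iff_forall]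
    have key : ∀ j : Fin 8, ∃ k : Fin 8, j = 7 ∨ (sig ^ (k : ℕ) * w6) 7 = j := by decide
    intro j
    obtain ⟨k, hk⟩ := key j
    rcases hk with rfl | hk
    · exact MulAction.mem_orbit_self _
    · refine ⟨⟨sig ^ (k : ℕ) * w6, R.mul_mem (R.pow_mem hσ _) hw⟩, ?_⟩
      exact hk
  have hidx : S.index = 8 := by
    rw [hS, MulAction.index_stabilizer, horb, Set.ncard_univ]
    simp
  have hScard : Nat.card S = 21 := by
    have := Subgroup.card_mul_index S
    rw [hidx, hR] at this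
    omega
  -- the subgroup generated by sig, tau
  set H : Subgroup (Equiv.Perm (Fin 8)) := Subgroup.closure {sig, tau} with hH
  have hHR : H ≤ R := by
    rw [hH, Subgroup.closure_le]
    intro x hx
    simp only [Set.mem_insert_iff, Set.mem_singleton_iff] at hx
    rcases hx with rfl | rfl <;> assumption
  have hHL : H ≤ L0 := by
    rw [hH, L0]
    apply Subgroup.closure_mono
    intro x hx
    simp only [Set.mem_insert_iff, Set.mem_singleton_iff] at hx ⊢
    rcases hx with rfl | rfl <;> simp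
  have hHfix : ∀ x ∈ H, x (7 : Fin 8) = 7 := by
    have : H ≤ MulAction.stabilizer (Equiv.Perm (Fin 8)) (7 : Fin 8) := by
      rw [hH, Subgroup.closure_le]
      intro x hx
      simp only [Set.mem_insert_iff, Set.mem_singleton_iff] at hx
      rcases hx with rfl | rfl
      · show sig • (7 : Fin 8) = 7
        decide
      · show tau • (7 : Fin 8) = 7
        decide
    intro x hx
    exact this hx
  have hHcard : 21 ∣ Nat.card H := by
    have h7 : 7 ∣ Nat.card H := by
      rw [← orderOf_sig]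
      exact Subgroup.orderOf_dvd_natCard H (Subgroup.subset_closure (by simp))
    have h3 : 3 ∣ Nat.card H := by
      rw [← orderOf_tau]
      exact Subgroup.orderOf_dvd_natCard H (Subgroup.subset_closure (by simp))
    exact Nat.Coprime.mul_dvd_of_dvd_of_dvd (by norm_num : Nat.Coprime 7 3) h7 h3
  have hHS : H.subgroupOf R = S := by
    have hle : H.subgroupOf R ≤ S := by
      intro x hx
      rw [hS, MulAction.mem_stabilizer_iff]
      exact hHfix _ (Subgroup.mem_subgroupOf.mp hx)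
    have hc : Nat.card (H.subgroupOf R) = Nat.card H :=
      Nat.card_congr (Subgroup.subgroupOfEquivOfLe hHR).toEquiv
    apply Subgroup.eq_of_le_of_card_ge hle
    rw [hScard, hc]
    exact Nat.le_of_dvd Nat.card_pos hHcard
  have hfix : ∀ r ∈ R, r (7 : Fin 8) = 7 → r ∈ H := by
    intro r hr h7
    have : (⟨r, hr⟩ : R) ∈ S := by
      rw [hS, MulAction.mem_stabilizer_iff]
      exact h7
    rw [← hHS] at this
    exact Subgroup.mem_subgroupOf.mp this
  apply le_antisymm _ hL
  intro r hr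
  by_cases h7 : r (7 : Fin 8) = 7
  · exact hHL (hfix r hr h7)
  · have key : ∀ j : Fin 8, j ≠ 7 → ∃ k : Fin 8, (w6 * sig ^ (k : ℕ)) j = 7 := by decide
    obtain ⟨k, hk⟩ := key _ h7
    have h1 : w6 * sig ^ (k : ℕ) * r ∈ R := R.mul_mem (R.mul_mem hw (R.pow_mem hσ _)) hr
    have h2 : (w6 * sig ^ (k : ℕ) * r) (7 : Fin 8) = 7 := by
      rw [Equiv.Perm.mul_apply]
      exact hk
    have h3 := hHL (hfix _ h1 h2)
    have h4 : r = (w6 * sig ^ (k : ℕ))⁻¹ * (w6 * sig ^ (k : ℕ) * r) := by group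
    rw [h4]
    exact L0.mul_mem (L0.inv_mem (L0.mul_mem w6_mem_L0 (L0.pow_mem sig_mem_L0 _))) h3


def w3 : Equiv.Perm (Fin 8) where
  toFun := ![7, 3, 5, 1, 6, 2, 4, 0]
  invFun := ![7, 3, 5, 1, 6, 2, 4, 0]
  left_inv := by decide
  right_inv := by decide

def w5 : Equiv.Perm (Fin 8) where
  toFun := ![7, 5, 6, 4, 3, 1, 2, 0]
  invFun := ![7, 5, 6, 4, 3, 1, 2, 0]
  left_inv := by decide
  right_inv := by decide

theorem w3_conj : tau⁻¹ * w3 * tau = w6 := by decide
theorem w5_conj : tau * w5 * tau⁻¹ = w6 := by decide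

section Abstract
variable {G : Type*} [Group G] [Finite G]

theorem card_sylow7 [IsSimpleGroup G] (hG : Nat.card G = 168) : Nat.card (Sylow 7 G) = 8 := by
  have := fact7
  have h168 : Nat.card G = 7 ^ 1 * 24 := by rw [hG]; norm_num
  have hdvd := Cfsg.Agent.Lib.Helper17.card_sylow_dvd_of_card_eq (p := 7) h168 (by norm_num)
  have hmod := card_sylow_modEq_one 7 G
  have hne := Cfsg.Agent.Lib.Helper17.card_sylow_ne_one_of_simple (p := 7) h168 (by norm_num)
    (by norm_num) (by norm_num)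
  have hle : Nat.card (Sylow 7 G) ≤ 24 := Nat.le_of_dvd (by norm_num) hdvd
  have hpos : 0 < Nat.card (Sylow 7 G) := Nat.card_pos
  unfold Nat.ModEq at hmod
  generalize Nat.card (Sylow 7 G) = n at *
  interval_cases n <;> first | rfl | omega


/-- data: a Sylow 7-subgroup `P = ⟨s⟩` and a second Sylow 7-subgroup `Q0` -/
structure Base (G : Type*) [Group G] where
  P : Sylow 7 G
  s : G
  hs : orderOf s = 7
  hP : (P : Subgroup G) = Subgroup.zpowers s
  Q0 : Sylow 7 G
  hQ0 : Q0 ≠ P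
  hcard : Nat.card (Sylow 7 G) = 8

variable (B : Base G)

theorem Base.s_mem : B.s ∈ (B.P : Subgroup G) := by
  rw [B.hP]; exact Subgroup.mem_zpowers _

theorem Base.s_smul_P (i : ℕ) : B.s ^ i • B.P = B.P := by
  rw [Sylow.smul_eq_iff_mem_normalizer]
  exact Subgroup.le_normalizer (Subgroup.pow_mem _ B.s_mem i)

theorem Base.dvd_of_smul_eq (Q : Sylow 7 G) (hQ : Q ≠ B.P) (i : ℕ) (h : B.s ^ i • Q = Q) :
    7 ∣ i := by
  have := fact7
  by_contra hdvd
  have hne : B.s ^ i ≠ 1 := by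
    intro h1
    apply hdvd
    rw [← B.hs]
    exact orderOf_dvd_of_pow_eq_one h1
  have hmemP : B.s ^ i ∈ (B.P : Subgroup G) := Subgroup.pow_mem _ B.s_mem i
  have hcardP : Nat.card (B.P : Subgroup G) = 7 := by
    rw [B.hP, Nat.card_zpowers, B.hs]
  have hPz : (B.P : Subgroup G) = Subgroup.zpowers (B.s ^ i) :=
    Cfsg.Agent.Lib.Helper17.eq_zpowers_of_card_prime _ (by norm_num) hcardP hmemP hne
  have hN : B.s ^ i ∈ Subgroup.normalizer ((Q : Subgroup G) : Set G) :=
    Sylow.smul_eq_iff_mem_normalizer.mp h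
  have hpg : IsPGroup 7 (Subgroup.zpowers (B.s ^ i)) := by
    rw [← hPz]; exact B.P.isPGroup'
  have hmemQ : B.s ^ i ∈ (Q : Subgroup G) :=
    Cfsg.Agent.Lib.Helper17.mem_sylow_of_mem_normalizer Q _ hpg hN
  have hle : (B.P : Subgroup G) ≤ Q := by
    rw [hPz, Subgroup.zpowers_le]; exact hmemQ
  apply hQ
  apply Sylow.ext
  exact B.P.is_maximal' Q.isPGroup' hle

theorem Base.s_pow_seven : B.s ^ 7 = 1 := by
  rw [← B.hs]; exact pow_orderOf_eq_one _

/-- the labelling of the Sylow 7-subgroups other than `P` -/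
def Base.lab (a : ℕ) : Sylow 7 G := B.s ^ a • B.Q0

theorem Base.lab_ne_P (a : ℕ) : B.lab a ≠ B.P := by
  intro h
  apply B.hQ0
  have h2 : B.s ^ a • B.Q0 = B.s ^ a • B.P := by rw [B.s_smul_P]; exact h
  exact smul_left_cancel _ h2

theorem Base.lab_mod (a : ℕ) : B.lab (a % 7) = B.lab a := by
  unfold Base.lab
  have : B.s ^ (a % 7) = B.s ^ a := by
    conv_lhs => rw [← B.hs]
    exact pow_mod_orderOf _ _
  rw [this]

theorem Base.lab_eq_iff (a b : ℕ) : B.lab a = B.lab b ↔ a % 7 = b % 7 := by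
  constructor
  · intro h
    unfold Base.lab at h
    have h2 : B.s ^ (6 * a) • (B.s ^ a • B.Q0) = B.s ^ (6 * a) • (B.s ^ b • B.Q0) := by rw [h]
    rw [smul_smul, smul_smul, ← pow_add, ← pow_add] at h2
    have e : 6 * a + a = 7 * a := by ring
    rw [e, pow_mul, B.s_pow_seven, one_pow, one_smul] at h2
    have := B.dvd_of_smul_eq B.Q0 B.hQ0 _ h2.symm
    omega
  · intro h
    rw [← B.lab_mod a, ← B.lab_mod b, h]

theorem Base.s_smul_lab (a : ℕ) : B.s • B.lab a = B.lab (a + 1) := by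
  unfold Base.lab
  rw [smul_smul, ← pow_succ']

/-- the labelling by `Fin 8` -/
def Base.e (i : Fin 8) : Sylow 7 G := if i = 7 then B.P else B.lab i

theorem Base.e_seven : B.e 7 = B.P := by simp [Base.e]

theorem Base.e_of_lt (a : ℕ) (ha : a < 7) : B.e ⟨a, by omega⟩ = B.lab a := by
  have : (⟨a, by omega⟩ : Fin 8) ≠ 7 := by
    intro h
    have := congrArg Fin.val h
    simp at this
    omega
  simp [Base.e, this]

theorem Base.e_injective : Function.Injective B.e := by
  intro i j h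
  unfold Base.e at h
  by_cases hi : i = 7 <;> by_cases hj : j = 7
  · rw [hi, hj]
  · rw [if_pos hi, if_neg hj] at h
    exact absurd h.symm (B.lab_ne_P _)
  · rw [if_neg hi, if_pos hj] at h
    exact absurd h (B.lab_ne_P _)
  · rw [if_neg hi, if_neg hj, B.lab_eq_iff] at h
    have h1 : (i : ℕ) < 7 := by
      have := i.2
      have : (i : ℕ) ≠ 7 := fun h7 => hi (Fin.ext h7)
      omega
    have h2 : (j : ℕ) < 7 := by
      have := j.2
      have : (j : ℕ) ≠ 7 := fun h7 => hj (Fin.ext h7)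
      omega
    apply Fin.ext
    omega

theorem Base.e_bijective : Function.Bijective B.e := by
  have : Finite (Sylow 7 G) := Nat.finite_of_card_ne_zero (by rw [B.hcard]; norm_num)
  rw [Nat.bijective_iff_injective_and_card]
  exact ⟨B.e_injective, by rw [B.hcard]; simp⟩

/-- the labelling as an equivalence -/
noncomputable def Base.E : Fin 8 ≃ Sylow 7 G := Equiv.ofBijective B.e B.e_bijective

theorem Base.E_apply (i : Fin 8) : B.E i = B.e i := rfl

/-- the permutation representation on `Fin 8` -/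
noncomputable def Base.psi : G →* Equiv.Perm (Fin 8) :=
  (B.E.symm.permCongrHom).toMonoidHom.comp (MulAction.toPermHom G (Sylow 7 G))

theorem Base.E_psi (g : G) (i : Fin 8) : B.e (B.psi g i) = g • B.e i := by
  show B.E (B.E.symm (g • B.E i)) = g • B.e i
  rw [Equiv.apply_symm_apply]
  rfl

theorem Base.psi_eq (g : G) (π : Equiv.Perm (Fin 8)) (h : ∀ i, g • B.e i = B.e (π i)) :
    B.psi g = π := by
  ext i
  have := B.E_psi g i
  rw [h i] at this
  exact congrArg Fin.val (B.e_injective this)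

theorem Base.psi_apply_eq_iff (g : G) (i j : Fin 8) : B.psi g i = j ↔ g • B.e i = B.e j := by
  rw [← B.E_psi]
  exact ⟨fun h => by rw [h], fun h => B.e_injective h⟩


/-- a criterion to compute `psi g` when `g` fixes `P` -/
theorem Base.psi_eq_of_fix (g : G) (π : Equiv.Perm (Fin 8)) (f : ℕ → ℕ) (hgP : g • B.P = B.P)
    (hlab : ∀ a : ℕ, g • B.lab a = B.lab (f a))
    (hπ7 : π 7 = 7) (hπ : ∀ a : Fin 7, ((π (Fin.castSucc a) : Fin 8) : ℕ) = f a % 7) :
    B.psi g = π := by
  apply B.psi_eq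
  intro i
  refine Fin.lastCases ?_ (fun a => ?_) i
  · have h7 : (Fin.last 7 : Fin 8) = 7 := rfl
    rw [h7, hπ7, B.e_seven, hgP]
  · have ha : ((Fin.castSucc a : Fin 8) : ℕ) < 7 := by simp
    have e1 : B.e (Fin.castSucc a) = B.lab (a : ℕ) := B.e_of_lt a a.2
    have hlt : ((π (Fin.castSucc a) : Fin 8) : ℕ) < 7 := by rw [hπ]; exact Nat.mod_lt _ (by norm_num)
    have e2 : B.e (π (Fin.castSucc a)) = B.lab (f a) := by
      have := B.e_of_lt _ hlt
      rw [Fin.eta] at this
      rw [this, hπ, B.lab_mod]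
    rw [e1, e2, hlab]

theorem Base.psi_s : B.psi B.s = sig := by
  apply B.psi_eq_of_fix B.s sig (fun a => a + 1)
  · simpa using B.s_smul_P 1
  · intro a; exact B.s_smul_lab a
  · decide
  · decide


theorem Base.psi_injective [IsSimpleGroup G] : Function.Injective B.psi := by
  rw [← MonoidHom.ker_eq_bot_iff]
  rcases (B.psi.normal_ker).eq_bot_or_eq_top with h | h
  · exact h
  · exfalso
    have : B.s ∈ B.psi.ker := by rw [h]; trivial
    rw [MonoidHom.mem_ker, B.psi_s] at this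
    revert this; decide

theorem Base.exists_pow_conj (x : G) (hx : x • B.P = B.P) :
    ∃ k : ℕ, k < 7 ∧ 0 < k ∧ x * B.s * x⁻¹ = B.s ^ k := by
  classical
  have hxN : x ∈ Subgroup.normalizer ((B.P : Subgroup G) : Set G) :=
    Sylow.smul_eq_iff_mem_normalizer.mp hx
  have hmem : x * B.s * x⁻¹ ∈ (B.P : Subgroup G) :=
    (Subgroup.mem_normalizer_iff.mp hxN B.s).mp B.s_mem
  rw [B.hP] at hmem
  have hfin : IsOfFinOrder B.s := by
    rw [← orderOf_pos_iff, B.hs]; norm_num
  rw [hfin.mem_zpowers_iff_mem_range_orderOf, B.hs] at hmem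
  simp only [Finset.mem_image, Finset.mem_range] at hmem
  obtain ⟨k, hk, hk'⟩ := hmem
  refine ⟨k, hk, ?_, hk'.symm⟩
  rcases Nat.eq_zero_or_pos k with h0 | h0
  · exfalso
    rw [h0, pow_zero] at hk'
    have : B.s = 1 := by
      have h2 : x * B.s * x⁻¹ = x * 1 * x⁻¹ := by rw [← hk']; group
      have h3 := mul_right_cancel h2
      exact mul_left_cancel h3
    have h7 := B.hs
    rw [this, orderOf_one] at h7
    norm_num at h7
  · exact h0

theorem Base.smul_lab_of_conj (x : G) (k : ℕ) (hk : x * B.s * x⁻¹ = B.s ^ k) (a : ℕ) :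
    x • B.lab a = B.s ^ (k * a) • (x • B.Q0) := by
  unfold Base.lab
  have h1 : x * B.s ^ a * x⁻¹ = B.s ^ (k * a) := by
    rw [← conj_pow, hk, ← pow_mul]
  have h2 : x * B.s ^ a = B.s ^ (k * a) * x := by
    rw [← h1]; group
  rw [smul_smul, h2, ← smul_smul]

theorem Base.conj_pow_pow (x : G) (k : ℕ) (hk : x * B.s * x⁻¹ = B.s ^ k) (n : ℕ) :
    x ^ n * B.s * (x ^ n)⁻¹ = B.s ^ (k ^ n) := by
  induction n with
  | zero => simp
  | succ n ih =>
    have : x ^ (n + 1) * B.s * (x ^ (n + 1))⁻¹ = x * (x ^ n * B.s * (x ^ n)⁻¹) * x⁻¹ := by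
      rw [pow_succ']; group
    rw [this, ih, ← conj_pow, hk, ← pow_mul, pow_succ']

theorem Base.pow_modEq_one (x : G) (k n : ℕ) (hk : x * B.s * x⁻¹ = B.s ^ k) (hn : x ^ n = 1) :
    k ^ n % 7 = 1 := by
  have h := B.conj_pow_pow x k hk n
  rw [hn] at h
  simp only [one_mul, inv_one, mul_one] at h
  have h2 : B.s ^ 1 = B.s ^ (k ^ n) := by rw [pow_one]; exact h
  rw [pow_eq_pow_iff_modEq, B.hs] at h2
  unfold Nat.ModEq at h2
  omega


/-- the action of an element fixing `P` and `Q0` -/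
theorem Base.psi_of_fix (x : G) (k : ℕ) (hxP : x • B.P = B.P) (hxQ : x • B.Q0 = B.Q0)
    (hk : x * B.s * x⁻¹ = B.s ^ k) (π : Equiv.Perm (Fin 8)) (hπ7 : π 7 = 7)
    (hπ : ∀ a : Fin 7, ((π (Fin.castSucc a) : Fin 8) : ℕ) = (k * a) % 7) : B.psi x = π := by
  apply B.psi_eq_of_fix x π (fun a => k * a) hxP _ hπ7 hπ
  intro a
  rw [B.smul_lab_of_conj x k hk a, hxQ]
  rfl

theorem exists_base0 [IsSimpleGroup G] (hG : Nat.card G = 168) :
    ∃ (B : Base G) (t : G), orderOf t = 3 ∧ t • B.P = B.P ∧ t • B.Q0 = B.Q0 := by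
  have := fact7
  have := fact3
  have hcard := card_sylow7 hG
  have hfin : Finite (Sylow 7 G) := Nat.finite_of_card_ne_zero (by rw [hcard]; norm_num)
  obtain ⟨P⟩ := (Sylow.nonempty : Nonempty (Sylow 7 G))
  have h168 : Nat.card G = 7 ^ 1 * 24 := by rw [hG]; norm_num
  have hPc : Nat.card (P : Subgroup G) = 7 := by
    have := Cfsg.Agent.Lib.Helper17.sylow_card_of_card_eq P h168 (by norm_num)
    simpa using this
  -- a generator
  obtain ⟨s, hsP, hs1⟩ : ∃ s ∈ (P : Subgroup G), s ≠ 1 := by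
    by_contra hcon
    push Not at hcon
    have : (P : Subgroup G) = ⊥ := by
      rw [eq_bot_iff]
      intro x hx
      rw [Subgroup.mem_bot]
      exact hcon x hx
    rw [this, Subgroup.card_bot] at hPc
    norm_num at hPc
  have hPz := Cfsg.Agent.Lib.Helper17.eq_zpowers_of_card_prime _ (by norm_num : Nat.Prime 7) hPc hsP hs1
  have hs : orderOf s = 7 := by
    rw [← Nat.card_zpowers, ← hPz, hPc]
  -- the normalizer has order 21
  have hN : Nat.card (Subgroup.normalizer ((P : Subgroup G) : Set G)) = 21 := by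
    have := Cfsg.Agent.Lib.Helper17.card_sylow_mul_card_normalizer P
    rw [hcard, hG] at this
    omega
  obtain ⟨t, htN, ht⟩ := Cfsg.Agent.Lib.Helper17.exists_mem_orderOf_eq_of_dvd_card
    (Subgroup.normalizer ((P : Subgroup G) : Set G)) 3 (by rw [hN]; norm_num)
  have htP : t • P = P := Sylow.smul_eq_iff_mem_normalizer.mpr htN
  -- a second fixed point of t
  have hpg : IsPGroup 3 (Subgroup.zpowers t) :=
    Cfsg.Agent.Lib.Helper17.isPGroup_zpowers_of_orderOf_eq t ht
  have hmod := hpg.card_modEq_card_fixedPoints (Sylow 7 G)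
  rw [hcard] at hmod
  obtain ⟨Q0, hQ0fix, hQ0⟩ : ∃ Q0 : Sylow 7 G,
      Q0 ∈ MulAction.fixedPoints (Subgroup.zpowers t) (Sylow 7 G) ∧ Q0 ≠ P := by
    by_contra hcon
    push Not at hcon
    have hsub : Subsingleton (MulAction.fixedPoints (Subgroup.zpowers t) (Sylow 7 G)) := by
      refine ⟨fun a b => ?_⟩
      apply Subtype.ext
      rw [hcon a.1 a.2, hcon b.1 b.2]
    have hle : Nat.card (MulAction.fixedPoints (Subgroup.zpowers t) (Sylow 7 G)) ≤ 1 :=
      Finite.card_le_one_iff_subsingleton.mpr hsub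
    unfold Nat.ModEq at hmod
    omega
  have htQ : t • Q0 = Q0 := by
    have := hQ0fix ⟨t, Subgroup.mem_zpowers t⟩
    exact this
  exact ⟨⟨P, s, hs, hPz, Q0, hQ0, hcard⟩, t, ht, htP, htQ⟩

theorem exists_base [IsSimpleGroup G] (hG : Nat.card G = 168) :
    ∃ (B : Base G) (t : G), orderOf t = 3 ∧ t • B.P = B.P ∧ t • B.Q0 = B.Q0 ∧
      t * B.s * t⁻¹ = B.s ^ 2 := by
  obtain ⟨B, t, ht, htP, htQ⟩ := exists_base0 hG
  obtain ⟨k, hk7, hk0, hk⟩ := B.exists_pow_conj t htP
  have ht3 : t ^ 3 = 1 := by rw [← ht]; exact pow_orderOf_eq_one t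
  have hmod := B.pow_modEq_one t k 3 hk ht3
  have hk124 : k = 1 ∨ k = 2 ∨ k = 4 := by
    interval_cases k <;> simp at hmod ⊢
  rcases hk124 with rfl | rfl | rfl
  · exfalso
    have h1 : B.psi t = 1 := B.psi_of_fix t 1 htP htQ hk 1 (by decide) (by decide)
    have h2 : t = 1 := B.psi_injective (by rw [h1, map_one])
    rw [h2, orderOf_one] at ht
    norm_num at ht
  · exact ⟨B, t, ht, htP, htQ, hk⟩
  · refine ⟨B, t ^ 2, ?_, ?_, ?_, ?_⟩
    · rw [Nat.Coprime.orderOf_pow (by rw [ht]; norm_num), ht]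
    · rw [pow_two, mul_smul, htP, htP]
    · rw [pow_two, mul_smul, htQ, htQ]
    · have := B.conj_pow_pow t 4 hk 2
      rw [this]
      have h16 : (4 : ℕ) ^ 2 = 2 + 7 * 2 := by norm_num
      rw [h16, pow_add, pow_mul, B.s_pow_seven, one_pow, mul_one]

end Abstract

end Cfsg.Agent.Lib.Helper61
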