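import Mathlib
import Cfsg.Agent.Lib.Helper61.Simple168a

set_option autoImplicit false
set_option linter.unusedSectionVars false

namespace Cfsg.Agent.Lib.Helper61

theorem tau_fix : ∀ i : Fin 8, tau i = i → i = 7 ∨ i = 0 := by decide

theorem tau_cube : ∀ i : Fin 8, tau (tau (tau i)) = i := by decide

/-- the candidate function determined by the images of `1` and `3` -/
def cand (c d : Fin 8) : Fin 8 → Fin 8 :=
  ![7, c, tau (tau c), d, tau c, tau d, tau (tau d), 0]

/-- pruned enumeration classifying the possible involutions -/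
theorem classify_aux :
    ∀ c d : Fin 8, (∀ i : Fin 8, cand c d (cand c d i) = i) → (∀ i : Fin 8, cand c d i ≠ i) →
      (c = 3 ∧ d = 1) ∨ (c = 5 ∧ d = 4) ∨ (c = 6 ∧ d = 2) := by
  decide

theorem cand_w3 : ∀ i : Fin 8, cand 3 1 i = w3 i := by decide
theorem cand_w5 : ∀ i : Fin 8, cand 5 4 i = w5 i := by decide
theorem cand_w6 : ∀ i : Fin 8, cand 6 2 i = w6 i := by decide

theorem classify (π : Equiv.Perm (Fin 8)) (h7 : π 7 = 0) (h0 : π 0 = 7) (hinv : π * π = 1)
    (hfix : ∀ i, π i ≠ i) (hc : π * tau * π = tau * tau) : π = w3 ∨ π = w5 ∨ π = w6 := by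
  have hinv' : ∀ i, π (π i) = i := by
    intro i
    have := congrArg (fun f : Equiv.Perm (Fin 8) => f i) hinv
    simpa using this
  have hc' : ∀ i, π (tau i) = tau (tau (π i)) := by
    intro i
    have := congrArg (fun f : Equiv.Perm (Fin 8) => f (π i)) hc
    simp only [Equiv.Perm.mul_apply] at this
    rw [hinv'] at this
    exact this
  have hcand : ∀ i, π i = cand (π 1) (π 3) i := by
    have e2 : π 2 = tau (tau (π 1)) := hc' 1
    have e4 : π 4 = tau (π 1) := by
      have := hc' 2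
      rw [e2, tau_cube] at this
      exact this
    have e6 : π 6 = tau (tau (π 3)) := hc' 3
    have e5 : π 5 = tau (π 3) := by
      have := hc' 6
      rw [e6, tau_cube] at this
      exact this
    intro i
    fin_cases i
    · exact h0
    · rfl
    · exact e2
    · rfl
    · exact e4
    · exact e5
    · exact e6
    · exact h7
  have h1 : ∀ i : Fin 8, cand (π 1) (π 3) (cand (π 1) (π 3) i) = i := by
    intro i; rw [← hcand, ← hcand, hinv']
  have h2 : ∀ i : Fin 8, cand (π 1) (π 3) i ≠ i := by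
    intro i; rw [← hcand]; exact hfix i
  rcases classify_aux _ _ h1 h2 with ⟨hc1, hd1⟩ | ⟨hc1, hd1⟩ | ⟨hc1, hd1⟩
  · left
    ext i
    rw [hcand i, hc1, hd1, cand_w3]
  · right; left
    ext i
    rw [hcand i, hc1, hd1, cand_w5]
  · right; right
    ext i
    rw [hcand i, hc1, hd1, cand_w6]


section Abstract2
variable {G : Type*} [Group G] [Finite G]

/-- a base together with an element of order three normalizing `P` and fixing `Q0` -/
structure Frame (G : Type*) [Group G] extends Base G where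
  t : G
  ht : orderOf t = 3
  htP : t • P = P
  htQ : t • Q0 = Q0
  hts : t * s * t⁻¹ = s ^ 2
  hG : Nat.card G = 168

theorem exists_frame [IsSimpleGroup G] (hG : Nat.card G = 168) : Nonempty (Frame G) := by
  obtain ⟨B, t, ht, htP, htQ, hts⟩ := exists_base hG
  exact ⟨⟨B, t, ht, htP, htQ, hts, hG⟩⟩

variable (F : Frame G)

theorem Frame.t_cube : F.t * F.t * F.t = 1 := by
  have := pow_orderOf_eq_one F.t
  rw [F.ht] at this
  calc F.t * F.t * F.t = F.t ^ 3 := by rw [pow_succ, pow_two]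
  _ = 1 := this

theorem Frame.psi_t : F.toBase.psi F.t = tau :=
  F.toBase.psi_of_fix F.t 2 F.htP F.htQ F.hts tau (by decide) (by decide)

include F in
theorem Frame.pow21 (Q : Sylow 7 G) (x : G) (hx : x • Q = Q) : x ^ 21 = 1 := by
  have := fact7
  have hN : Nat.card (Subgroup.normalizer ((Q : Subgroup G) : Set G)) = 21 := by
    have := Cfsg.Agent.Lib.Helper17.card_sylow_mul_card_normalizer Q
    rw [F.hcard, F.hG] at this
    omega
  have hxN : x ∈ Subgroup.normalizer ((Q : Subgroup G) : Set G) :=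
    Sylow.smul_eq_iff_mem_normalizer.mp hx
  have h := Subgroup.orderOf_dvd_natCard _ hxN
  rw [hN] at h
  exact orderOf_dvd_iff_pow_eq_one.mp h

theorem Frame.fix_cases [IsSimpleGroup G] (x : G) (hxP : x • F.P = F.P) (hxQ : x • F.Q0 = F.Q0) :
    x = 1 ∨ x = F.t ∨ x = F.t * F.t := by
  obtain ⟨k, hk7, hk0, hk⟩ := F.toBase.exists_pow_conj x hxP
  have h21 := F.pow21 F.P x hxP
  have hmod := F.toBase.pow_modEq_one x k 21 hk h21
  have hk124 : k = 1 ∨ k = 2 ∨ k = 4 := by
    interval_cases k <;> simp at hmod ⊢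
  rcases hk124 with rfl | rfl | rfl
  · left
    have h1 : F.toBase.psi x = 1 :=
      F.toBase.psi_of_fix x 1 hxP hxQ hk 1 (by decide) (by decide)
    exact F.toBase.psi_injective (by rw [h1, map_one])
  · right; left
    have h1 : F.toBase.psi x = tau :=
      F.toBase.psi_of_fix x 2 hxP hxQ hk tau (by decide) (by decide)
    exact F.toBase.psi_injective (by rw [h1, F.psi_t])
  · right; right
    have h1 : F.toBase.psi x = tau * tau :=
      F.toBase.psi_of_fix x 4 hxP hxQ hk (tau * tau) (by decide) (by decide)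
    exact F.toBase.psi_injective (by rw [h1, map_mul, F.psi_t])

theorem Frame.cube_of_fix [IsSimpleGroup G] (x : G) (hxP : x • F.P = F.P) (hxQ : x • F.Q0 = F.Q0) :
    x * x * x = 1 := by
  rcases F.fix_cases x hxP hxQ with h | h | h <;> rw [h]
  · simp
  · exact F.t_cube
  · have := F.t_cube
    calc F.t * F.t * (F.t * F.t) * (F.t * F.t) = (F.t * F.t * F.t) * (F.t * F.t * F.t) := by group
    _ = 1 := by rw [this, one_mul]

theorem Frame.commute_of_fix [IsSimpleGroup G] (x : G) (hxP : x • F.P = F.P)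
    (hxQ : x • F.Q0 = F.Q0) : x * F.t = F.t * x := by
  rcases F.fix_cases x hxP hxQ with h | h | h <;> rw [h]
  · simp
  · group

theorem Frame.e_zero : F.toBase.e 0 = F.Q0 := by
  have := F.toBase.e_of_lt 0 (by norm_num)
  simp only [Fin.zero_eta] at this
  rw [this]
  simp [Base.lab]

theorem Frame.fix_t (Q : Sylow 7 G) (h : F.t • Q = Q) : Q = F.P ∨ Q = F.Q0 := by
  obtain ⟨i, rfl⟩ := F.toBase.e_bijective.2 Q
  have h2 := (F.toBase.psi_apply_eq_iff F.t i i).mpr h
  rw [F.psi_t] at h2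
  rcases tau_fix i h2 with rfl | rfl
  · left; exact F.toBase.e_seven
  · right; exact F.e_zero

theorem Frame.exists_swap : ∃ g : G, g • F.P = F.Q0 ∧ g • F.Q0 = F.P := by
  have := fact7
  have hfin : Finite (Sylow 7 G) := Nat.finite_of_card_ne_zero (by rw [F.hcard]; norm_num)
  obtain ⟨r, hr⟩ := MulAction.exists_smul_eq G F.P F.Q0
  obtain ⟨i, hi⟩ := F.toBase.e_bijective.2 (r⁻¹ • F.P)
  have hi7 : i ≠ 7 := by
    intro h7
    rw [h7, F.toBase.e_seven] at hi
    apply F.hQ0
    rw [← hr]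
    nth_rewrite 1 [hi]
    rw [smul_inv_smul]
  have hlab : F.toBase.e i = F.toBase.lab i := by simp [Base.e, hi7]
  refine ⟨r * F.s ^ (i : ℕ), ?_, ?_⟩
  · rw [mul_smul, F.toBase.s_smul_P, hr]
  · rw [mul_smul]
    show r • F.toBase.lab i = F.P
    rw [← hlab, hi, smul_inv_smul]

theorem Frame.exists_invol [IsSimpleGroup G] :
    ∃ w : G, w * w = 1 ∧ w • F.P = F.Q0 ∧ w • F.Q0 = F.P := by
  obtain ⟨g, hgP, hgQ⟩ := F.exists_swap
  have h2P : (g * g) • F.P = F.P := by rw [mul_smul, hgP, hgQ]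
  have h2Q : (g * g) • F.Q0 = F.Q0 := by rw [mul_smul, hgQ, hgP]
  refine ⟨g * (g * g), ?_, ?_, ?_⟩
  · have h3 := F.cube_of_fix (g * g) h2P h2Q
    calc g * (g * g) * (g * (g * g)) = (g * g) * (g * g) * (g * g) := by group
    _ = 1 := h3
  · rw [mul_smul, h2P, hgP]
  · rw [mul_smul, h2Q, hgQ]

include F in
theorem Frame.no_fix (w : G) (hw : w * w = 1) (hw1 : w ≠ 1) (Q : Sylow 7 G) : w • Q ≠ Q := by
  intro h
  have h21 := F.pow21 Q w h
  have h3 : w ^ 21 = w := by
    have : w ^ 21 = (w * w) ^ 10 * w := by rw [← pow_two, ← pow_mul, ← pow_succ]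
    rw [this, hw, one_pow, one_mul]
  exact hw1 (by rw [← h3, h21])


theorem Frame.conj_cases [IsSimpleGroup G] (w : G) (hw : w * w = 1) (hwP : w • F.P = F.Q0)
    (hwQ : w • F.Q0 = F.P) : w * F.t * w = F.t ∨ w * F.t * w = F.t * F.t := by
  have hP : (w * F.t * w) • F.P = F.P := by rw [mul_smul, mul_smul, hwP, F.htQ, hwQ]
  have hQ : (w * F.t * w) • F.Q0 = F.Q0 := by rw [mul_smul, mul_smul, hwQ, F.htP, hwP]
  rcases F.fix_cases _ hP hQ with h | h | h
  · exfalso
    have h1 : F.t = 1 := by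
      have h2 : w * (w * F.t * w) * w = w * 1 * w := by rw [h]
      have h3 : w * (w * F.t * w) * w = (w * w) * F.t * (w * w) := by group
      rw [h3, hw] at h2
      simpa [hw] using h2
    have h4 := F.ht
    rw [h1, orderOf_one] at h4
    norm_num at h4
  · left; exact h
  · right; exact h

theorem Frame.not_commute [IsSimpleGroup G] (w : G) (hw : w * w = 1) (hwP : w • F.P = F.Q0)
    (hwQ : w • F.Q0 = F.P) (hc : w * F.t * w = F.t) : False := by
  have := fact3
  have hwt : w * F.t = F.t * w := by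
    calc w * F.t = w * F.t * (w * w) := by rw [hw, mul_one]
    _ = (w * F.t * w) * w := by group
    _ = F.t * w := by rw [hc]
  have hncomm : ¬ IsMulCommutative G :=
    Cfsg.Agent.Lib.Helper17.not_comm_of_simple_of_not_prime (by rw [F.hG]; norm_num)
  obtain ⟨P3, htP3⟩ := Cfsg.Agent.Lib.Helper17.exists_sylow_mem_of_orderOf_eq F.t F.ht
  have h168 : Nat.card G = 3 ^ 1 * 56 := by rw [F.hG]; norm_num
  have hP3c : Nat.card (P3 : Subgroup G) = 3 := by
    have := Cfsg.Agent.Lib.Helper17.sylow_card_of_card_eq P3 h168 (by norm_num)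
    simpa using this
  have ht1 : F.t ≠ 1 := by
    intro h
    have h4 := F.ht
    rw [h, orderOf_one] at h4
    norm_num at h4
  have hP3z : (P3 : Subgroup G) = Subgroup.zpowers F.t :=
    Cfsg.Agent.Lib.Helper17.eq_zpowers_of_card_prime _ (by norm_num) hP3c htP3 ht1
  apply Cfsg.Agent.Lib.Helper17.not_normalizer_le_centralizer_of_simple hncomm P3
    (by rw [F.hG]; norm_num)
  intro x hx
  have key : ∀ Q : Sylow 7 G, F.t • Q = Q → F.t • (x • Q) = x • Q := by
    intro Q hQ
    have hx' : x⁻¹ ∈ Subgroup.normalizer ((P3 : Subgroup G) : Set G) := inv_mem hx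
    have hmem : x⁻¹ * F.t * x⁻¹⁻¹ ∈ (P3 : Subgroup G) :=
      (Subgroup.mem_normalizer_iff.mp hx' F.t).mp htP3
    rw [inv_inv, hP3z] at hmem
    obtain ⟨k, hk⟩ := Subgroup.mem_zpowers_iff.mp hmem
    have hstab : F.t ∈ MulAction.stabilizer G Q := hQ
    have hk2 : F.t ^ k ∈ MulAction.stabilizer G Q := Subgroup.zpow_mem _ hstab k
    have hk3 : (x⁻¹ * F.t * x) • Q = Q := by rw [← hk]; exact hk2
    calc F.t • (x • Q) = x • ((x⁻¹ * F.t * x) • Q) := by
          rw [smul_smul, smul_smul]; congr 1; group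
    _ = x • Q := by rw [hk3]
  have hxP := F.fix_t _ (key F.P F.htP)
  have hxQ := F.fix_t _ (key F.Q0 F.htQ)
  have hne : x • F.P ≠ x • F.Q0 := fun h => F.hQ0 (smul_left_cancel x h).symm
  have hcomm : x * F.t = F.t * x := by
    rcases hxP with hxP | hxP
    · rcases hxQ with hxQ | hxQ
      · exact absurd (hxP.trans hxQ.symm) hne
      · exact F.commute_of_fix x hxP hxQ
    · rcases hxQ with hxQ | hxQ
      · have h1 : (w * x) • F.P = F.P := by rw [mul_smul, hxP, hwQ]
        have h2 : (w * x) • F.Q0 = F.Q0 := by rw [mul_smul, hxQ, hwP]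
        have h3 := F.commute_of_fix (w * x) h1 h2
        calc x * F.t = w * ((w * x) * F.t) := by rw [← mul_assoc, ← mul_assoc, hw, one_mul]
        _ = w * (F.t * (w * x)) := by rw [h3]
        _ = (w * F.t) * (w * x) := by group
        _ = (F.t * w) * (w * x) := by rw [hwt]
        _ = F.t * ((w * w) * x) := by group
        _ = F.t * x := by rw [hw, one_mul]
      · exact absurd (hxP.trans hxQ.symm) hne
  exact Cfsg.Agent.Lib.Helper17.mem_centralizer_of_commute_of_card_prime _ (by norm_num) hP3c htP3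
    ht1 hcomm

theorem Frame.w6_mem_range [IsSimpleGroup G] : w6 ∈ F.toBase.psi.range := by
  obtain ⟨w, hw, hwP, hwQ⟩ := F.exists_invol
  have hw1 : w ≠ 1 := by
    intro h
    rw [h, one_smul] at hwP
    exact F.hQ0 hwP.symm
  obtain ⟨π, hπ⟩ : ∃ π, π = F.toBase.psi w := ⟨_, rfl⟩
  have h7 : π 7 = 0 := by
    rw [hπ]
    exact (F.toBase.psi_apply_eq_iff w 7 0).mpr (by rw [F.toBase.e_seven, F.e_zero, hwP])
  have h0 : π 0 = 7 := by
    rw [hπ]
    exact (F.toBase.psi_apply_eq_iff w 0 7).mpr (by rw [F.toBase.e_seven, F.e_zero, hwQ])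
  have hinv : π * π = 1 := by rw [hπ, ← map_mul, hw, map_one]
  have hfix : ∀ i, π i ≠ i := by
    intro i h
    rw [hπ] at h
    exact F.no_fix w hw hw1 _ ((F.toBase.psi_apply_eq_iff w i i).mp h)
  rcases F.conj_cases w hw hwP hwQ with hc | hc
  · exact (F.not_commute w hw hwP hwQ hc).elim
  · have hc' : π * tau * π = tau * tau := by
      rw [hπ, ← F.psi_t, ← map_mul, ← map_mul, ← map_mul, hc]
    rcases classify π h7 h0 hinv hfix hc' with h | h | h
    · refine ⟨F.t⁻¹ * w * F.t, ?_⟩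
      rw [map_mul, map_mul, map_inv, F.psi_t, ← hπ, h, w3_conj]
    · refine ⟨F.t * w * F.t⁻¹, ?_⟩
      rw [map_mul, map_mul, map_inv, F.psi_t, ← hπ, h, w5_conj]
    · exact ⟨w, by rw [← hπ, h]⟩

end Abstract2

/-- every simple group of order 168 embeds in `Perm (Fin 8)` with image `L0` -/
theorem exists_embedding {G : Type*} [Group G] [Finite G] [IsSimpleGroup G]
    (hG : Nat.card G = 168) :
    ∃ ψ : G →* Equiv.Perm (Fin 8), Function.Injective ψ ∧ ψ.range = L0 := by
  obtain ⟨F⟩ := exists_frame hG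
  refine ⟨F.toBase.psi, F.toBase.psi_injective, ?_⟩
  apply eq_L0
  · rw [Nat.card_congr (MonoidHom.ofInjective F.toBase.psi_injective).toEquiv.symm, hG]
  · exact ⟨F.s, F.toBase.psi_s⟩
  · exact ⟨F.t, F.psi_t⟩
  · exact F.w6_mem_range

/-- any two finite simple groups of order 168 are isomorphic -/
theorem iso_of_simple_168 {G H : Type*} [Group G] [Finite G] [IsSimpleGroup G] [Group H]
    [Finite H] [IsSimpleGroup H] (hG : Nat.card G = 168) (hH : Nat.card H = 168) :
    Nonempty (G ≃* H) := by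
  obtain ⟨ψ, hψ, hr⟩ := exists_embedding hG
  obtain ⟨φ, hφ, hr'⟩ := exists_embedding hH
  exact ⟨(MonoidHom.ofInjective hψ).trans
    ((MulEquiv.subgroupCongr (hr.trans hr'.symm)).trans (MonoidHom.ofInjective hφ).symm)⟩

end Cfsg.Agent.Lib.Helper61
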