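import Mathlib
import Cfsg.Agent.Lib.Helper61.Simple168

set_option autoImplicit false

namespace Cfsg.Agent.Lib.Helper61

/-- the `i`-th base 8 digit -/
def dig (c i : ℕ) : ℕ := c / 8 ^ i % 8

/-- Horner evaluation of eight digits -/
def hor (f : ℕ → ℕ) : ℕ :=
  f 0 + 8 * (f 1 + 8 * (f 2 + 8 * (f 3 + 8 * (f 4 + 8 * (f 5 + 8 * (f 6 + 8 * f 7))))))

theorem dig_lt (c i : ℕ) : dig c i < 8 := Nat.mod_lt _ (by norm_num)

theorem dig_hor (f : ℕ → ℕ) (hf : ∀ i < 8, f i < 8) (i : ℕ) (hi : i < 8) :
    dig (hor f) i = f i := by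
  have h0 := hf 0 (by norm_num)
  have h1 := hf 1 (by norm_num)
  have h2 := hf 2 (by norm_num)
  have h3 := hf 3 (by norm_num)
  have h4 := hf 4 (by norm_num)
  have h5 := hf 5 (by norm_num)
  have h6 := hf 6 (by norm_num)
  have h7 := hf 7 (by norm_num)
  interval_cases i <;> simp only [dig, hor] <;> norm_num <;> omega

theorem hor_congr (f g : ℕ → ℕ) (h : ∀ i < 8, f i = g i) : hor f = hor g := by
  simp only [hor]
  rw [h 0 (by norm_num), h 1 (by norm_num), h 2 (by norm_num), h 3 (by norm_num),
    h 4 (by norm_num), h 5 (by norm_num), h 6 (by norm_num), h 7 (by norm_num)]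

/-- the code of a permutation of eight points -/
def code (x : Equiv.Perm (Fin 8)) : ℕ := hor (fun i => ((x (Fin.ofNat 8 i) : Fin 8) : ℕ))

theorem dig_code (x : Equiv.Perm (Fin 8)) (i : Fin 8) : dig (code x) i = x i := by
  rw [code, dig_hor _ (fun j _ => Fin.is_lt _) i i.2]
  congr 2
  exact Fin.ext (Nat.mod_eq_of_lt i.2)

theorem code_injective : Function.Injective code := by
  intro x y h
  ext i
  rw [← dig_code x i, ← dig_code y i, h]

/-- composition on codes -/
def cmul (a b : ℕ) : ℕ := hor (fun i => dig a (dig b i))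

theorem code_mul (x y : Equiv.Perm (Fin 8)) : code (x * y) = cmul (code x) (code y) := by
  rw [code, cmul]
  apply hor_congr
  intro i hi
  have h1 : dig (code y) i = y (Fin.ofNat 8 i) := by
    have := dig_code y (Fin.ofNat 8 i)
    rw [← this]
    congr 1
    exact (Nat.mod_eq_of_lt hi).symm
  rw [h1, dig_code, Equiv.Perm.mul_apply]


/-- codes of the generators -/
def idc : ℕ := 16434824
def sigc : ℕ := 14899409
def tauc : ℕ := 16096528
def w6c : ℕ := 414967

theorem code_one : code 1 = idc := by decide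
theorem code_sig : code sig = sigc := by decide
theorem code_tau : code tau = tauc := by decide
theorem code_w6 : code w6 = w6c := by decide

/-- powers on codes -/
def cpow (a : ℕ) : ℕ → ℕ
  | 0 => idc
  | n + 1 => cmul (cpow a n) a

theorem code_pow (x : Equiv.Perm (Fin 8)) (n : ℕ) : code (x ^ n) = cpow (code x) n := by
  induction n with
  | zero => rw [pow_zero, code_one]; rfl
  | succ n ih => rw [pow_succ, code_mul, ih]; rfl

/-- the codes of the Borel subgroup, generated -/
def bcodesGen : List ℕ :=
  (List.range 7).flatMap fun i => (List.range 3).map fun j => cmul (cpow sigc i) (cpow tauc j)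

/-- all codes, generated -/
def codesGen : List ℕ :=
  bcodesGen ++ (List.range 7).flatMap fun k => bcodesGen.map fun b => cmul (cmul (cpow sigc k) w6c) b

/-- all 168 codes -/
def codes : List ℕ :=
  [16434824, 16096528, 15673952, 14899409, 16392537, 15744169, 14969626, 14857122, 16040178,
    15240547, 15156267, 16339715, 15536556, 15226484, 14804300, 15835701, 15526021, 15075221,
    16135238, 15796942, 15374366, 414967, 1139551, 571823, 1886878, 442134, 1549030, 1808723,
    1977451, 1269387, 1012522, 1628130, 380282, 650853, 1033613, 1906485, 1392076, 727804, 1766492,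
    1222585, 1439921, 945105, 2811655, 3507623, 2968119, 4021472, 2838360, 3913000, 2337692,
    4108468, 3436244, 3175795, 2189803, 2773435, 3018414, 3397142, 4041030, 3785173, 2895165,
    2324133, 3618874, 3832514, 3313114, 5179727, 5903919, 5364807, 6152489, 5005217, 4441969,
    4701221, 6243013, 5803805, 5568388, 4557812, 5169724, 5414640, 5761112, 6175624, 4346846,
    5288318, 4487406, 5786235, 4390155, 5706211, 7347095, 6465655, 7757967, 8258418, 7401002,
    6805890, 7061614, 8148238, 6365030, 7960589, 6954437, 7537789, 7810817, 8096417, 8309777,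
    6743520, 7685048, 6880048, 6347964, 6779220, 7873516, 9743391, 8862343, 10126039, 10392963,
    9768563, 9169419, 9425584, 10282832, 8761256, 8518230, 9347534, 9705150, 9977674, 8625386,
    10440794, 9111529, 10081337, 9272641, 8741117, 8942493, 8435189, 12136551, 11029711, 10687775,
    12527116, 12164740, 11504724, 11789505, 12388761, 11157041, 10910872, 11744208, 12101880,
    10538899, 10985779, 12346019, 11278834, 10643066, 11661706, 11109182, 11334694, 10831814,
    12698287, 13422871, 12855143, 14432341, 12725965, 13865117, 14124810, 14522914, 13553218,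
    13299937, 13911513, 12663609, 12934684, 13349700, 14451948, 13675459, 13011131, 14053907,
    13505912, 13727336, 13228488]

theorem codesGen_eq : codesGen = codes := by decide +kernel

theorem codes_length : codes.length = 168 := by decide +kernel

theorem codes_nodup : codes.Nodup := by decide +kernel

/-- closure of the codes under left multiplication by the generators and their inverses -/
theorem codes_closed :
    ([sigc, tauc, w6c, cpow sigc 6, cpow tauc 2].all fun g =>
      codes.all fun c => codes.contains (cmul g c)) = true := by decide +kernel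


theorem codes_closed' (g : ℕ) (hg : g ∈ [sigc, tauc, w6c, cpow sigc 6, cpow tauc 2]) (c : ℕ)
    (hc : c ∈ codes) : cmul g c ∈ codes := by
  have h := codes_closed
  rw [List.all_eq_true] at h
  have h2 := h g hg
  rw [List.all_eq_true] at h2
  have h3 := h2 c hc
  exact List.contains_iff_mem.mp h3

theorem idc_mem_codes : idc ∈ codes := by decide +kernel

theorem sig_inv_eq : sig⁻¹ = sig ^ 6 := by decide
theorem tau_inv_eq : tau⁻¹ = tau ^ 2 := by decide
theorem w6_inv_eq : w6⁻¹ = w6 := by decide

theorem mem_codes_of_mem_L0 {x : Equiv.Perm (Fin 8)} (hx : x ∈ L0) : code x ∈ codes := by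
  unfold L0 at hx
  induction hx using Subgroup.closure_induction_left with
  | one => rw [code_one]; exact idc_mem_codes
  | mul_left g hg y hy ih =>
    rw [code_mul]
    apply codes_closed' _ _ _ ih
    simp only [Set.mem_insert_iff, Set.mem_singleton_iff] at hg
    rcases hg with rfl | rfl | rfl
    · rw [code_sig]; simp
    · rw [code_tau]; simp
    · rw [code_w6]; simp
  | inv_mul_cancel g hg y hy ih =>
    rw [code_mul]
    apply codes_closed' _ _ _ ih
    simp only [Set.mem_insert_iff, Set.mem_singleton_iff] at hg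
    rcases hg with rfl | rfl | rfl
    · rw [sig_inv_eq, code_pow, code_sig]; simp
    · rw [tau_inv_eq, code_pow, code_tau]; simp
    · rw [w6_inv_eq, code_w6]; simp

theorem mem_L0_of_code_mem {x : Equiv.Perm (Fin 8)} (hx : code x ∈ codes) : x ∈ L0 := by
  rw [← codesGen_eq, codesGen, List.mem_append] at hx
  have hb : ∀ c ∈ bcodesGen, ∃ y ∈ L0, code y = c := by
    intro c hc
    rw [bcodesGen, List.mem_flatMap] at hc
    obtain ⟨i, -, hc⟩ := hc
    rw [List.mem_map] at hc
    obtain ⟨j, -, rfl⟩ := hc
    refine ⟨sig ^ i * tau ^ j, L0.mul_mem (L0.pow_mem sig_mem_L0 _) (L0.pow_mem tau_mem_L0 _), ?_⟩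
    rw [code_mul, code_pow, code_pow, code_sig, code_tau]
  rcases hx with hx | hx
  · obtain ⟨y, hy, hxy⟩ := hb _ hx
    rw [← code_injective hxy]
    exact hy
  · rw [List.mem_flatMap] at hx
    obtain ⟨k, -, hx⟩ := hx
    rw [List.mem_map] at hx
    obtain ⟨b, hbm, hx⟩ := hx
    obtain ⟨y, hy, rfl⟩ := hb b hbm
    have : code x = code (sig ^ k * w6 * y) := by
      rw [← hx, code_mul, code_mul, code_pow, code_sig, code_w6]
    rw [code_injective this]
    exact L0.mul_mem (L0.mul_mem (L0.pow_mem sig_mem_L0 _) w6_mem_L0) hy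

theorem mem_L0_iff (x : Equiv.Perm (Fin 8)) : x ∈ L0 ↔ code x ∈ codes :=
  ⟨mem_codes_of_mem_L0, mem_L0_of_code_mem⟩


/-- a coding of a group by the 168 codes -/
structure Coding (G : Type*) [Group G] where
  cd : G → ℕ
  cd_inj : Function.Injective cd
  cd_mem : ∀ g, cd g ∈ codes
  cd_surj : ∀ c ∈ codes, ∃ g, cd g = c
  cd_mul : ∀ g h, cd (g * h) = cmul (cd g) (cd h)
  cd_one : cd 1 = idc

theorem exists_coding {G : Type*} [Group G] [Finite G] [IsSimpleGroup G]
    (hG : Nat.card G = 168) : Nonempty (Coding G) := by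
  obtain ⟨ψ, hψ, hr⟩ := exists_embedding hG
  refine ⟨⟨fun g => code (ψ g), fun g h hgh => hψ (code_injective hgh), ?_, ?_, ?_, ?_⟩⟩
  · intro g
    apply mem_codes_of_mem_L0
    rw [← hr]
    exact ⟨g, rfl⟩
  · intro c hc
    rw [← codesGen_eq] at hc
    have hx : ∃ x ∈ L0, code x = c := by
      rw [codesGen, List.mem_append] at hc
      have hb : ∀ c ∈ bcodesGen, ∃ y ∈ L0, code y = c := by
        intro c hc
        rw [bcodesGen, List.mem_flatMap] at hc
        obtain ⟨i, -, hc⟩ := hc
        rw [List.mem_map] at hc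
        obtain ⟨j, -, rfl⟩ := hc
        refine ⟨sig ^ i * tau ^ j,
          L0.mul_mem (L0.pow_mem sig_mem_L0 _) (L0.pow_mem tau_mem_L0 _), ?_⟩
        rw [code_mul, code_pow, code_pow, code_sig, code_tau]
      rcases hc with hc | hc
      · exact hb c hc
      · rw [List.mem_flatMap] at hc
        obtain ⟨k, -, hc⟩ := hc
        rw [List.mem_map] at hc
        obtain ⟨b, hbm, rfl⟩ := hc
        obtain ⟨y, hy, rfl⟩ := hb b hbm
        refine ⟨sig ^ k * w6 * y,
          L0.mul_mem (L0.mul_mem (L0.pow_mem sig_mem_L0 _) w6_mem_L0) hy, ?_⟩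
        rw [code_mul, code_mul, code_pow, code_sig, code_w6]
    obtain ⟨x, hx, rfl⟩ := hx
    rw [← hr] at hx
    obtain ⟨g, rfl⟩ := hx
    exact ⟨g, rfl⟩
  · intro g h
    show code (ψ (g * h)) = _
    rw [map_mul, code_mul]
  · show code (ψ 1) = _
    rw [map_one, code_one]

namespace Coding
variable {G : Type*} [Group G] (C : Coding G)

theorem cd_pow (g : G) (n : ℕ) : C.cd (g ^ n) = cpow (C.cd g) n := by
  induction n with
  | zero => rw [pow_zero, C.cd_one]; rfl
  | succ n ih => rw [pow_succ, C.cd_mul, ih]; rfl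

theorem eq_iff (g h : G) : g = h ↔ C.cd g = C.cd h :=
  ⟨fun e => by rw [e], fun e => C.cd_inj e⟩

theorem eq_one_iff (g : G) : g = 1 ↔ C.cd g = idc := by
  rw [C.eq_iff, C.cd_one]

/-- counting elements with a property expressed on codes -/
theorem card_subtype (P : G → Prop) (q : ℕ → Bool) (h : ∀ g, P g ↔ q (C.cd g) = true) :
    Nat.card {g : G // P g} = (codes.filter q).length := by
  have hnd : (codes.filter q).Nodup := codes_nodup.filter _
  rw [← List.toFinset_card_of_nodup hnd, ← Fintype.card_coe, ← Nat.card_eq_fintype_card]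
  apply Nat.card_congr
  refine Equiv.ofBijective (fun g => ⟨C.cd g.1, ?_⟩) ⟨?_, ?_⟩
  · rw [List.mem_toFinset, List.mem_filter]
    exact ⟨C.cd_mem _, (h _).mp g.2⟩
  · intro a b hab
    apply Subtype.ext
    apply C.cd_inj
    exact congrArg Subtype.val hab
  · rintro ⟨c, hc⟩
    rw [List.mem_toFinset, List.mem_filter] at hc
    obtain ⟨g, rfl⟩ := C.cd_surj c hc.1
    exact ⟨⟨g, (h g).mpr hc.2⟩, rfl⟩

theorem isConj_iff_any (a b : G) :
    IsConj a b ↔ (codes.any fun c => cmul c (C.cd a) == cmul (C.cd b) c) = true := by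
  rw [List.any_eq_true, isConj_iff]
  constructor
  · rintro ⟨k, hk⟩
    refine ⟨C.cd k, C.cd_mem k, ?_⟩
    rw [beq_iff_eq, ← C.cd_mul, ← C.cd_mul, ← hk]
    congr 1
    group
  · rintro ⟨c, hc, h⟩
    obtain ⟨k, rfl⟩ := C.cd_surj c hc
    rw [beq_iff_eq, ← C.cd_mul, ← C.cd_mul] at h
    have h2 := C.cd_inj h
    exact ⟨k, by rw [h2]; group⟩

theorem pow_eq_one_iff (g : G) (n : ℕ) : g ^ n = 1 ↔ cpow (C.cd g) n = idc := by
  rw [C.eq_iff, C.cd_pow, C.cd_one]

end Coding

/-- codes of elements of prime order `p` -/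
def qp (p : ℕ) (c : ℕ) : Bool := c != idc && cpow c p == idc

/-- codes of elements of order four -/
def q4 (c : ℕ) : Bool := cpow c 4 == idc && cpow c 2 != idc

theorem dvd_four {n : ℕ} (h : n ∣ 4) : n = 1 ∨ n = 2 ∨ n = 4 := by
  have hle := Nat.le_of_dvd (by norm_num) h
  interval_cases n <;> simp_all

namespace Coding
variable {G : Type*} [Group G] (C : Coding G)

theorem orderOf_prime_iff (p : ℕ) [Fact p.Prime] (g : G) :
    orderOf g = p ↔ qp p (C.cd g) = true := by
  rw [orderOf_eq_prime_iff, qp, Bool.and_eq_true, bne_iff_ne, beq_iff_eq, ← C.cd_pow,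
    ← C.cd_one]
  constructor
  · rintro ⟨h1, h2⟩
    exact ⟨fun e => h2 (C.cd_inj e), by rw [h1]⟩
  · rintro ⟨h1, h2⟩
    exact ⟨C.cd_inj h2, fun e => h1 (by rw [e])⟩

theorem orderOf_four_iff (g : G) : orderOf g = 4 ↔ q4 (C.cd g) = true := by
  rw [q4, Bool.and_eq_true, bne_iff_ne, beq_iff_eq, Ne, ← C.pow_eq_one_iff, ← C.pow_eq_one_iff]
  constructor
  · intro h
    refine ⟨by rw [← h]; exact pow_orderOf_eq_one g, fun h2 => ?_⟩
    have := orderOf_dvd_of_pow_eq_one h2
    rw [h] at this
    norm_num at this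
  · rintro ⟨h4, h2⟩
    rcases dvd_four (orderOf_dvd_of_pow_eq_one h4) with h1 | h1 | h1
    · exfalso
      apply h2
      rw [orderOf_eq_one_iff.mp h1, one_pow]
    · exfalso
      apply h2
      rw [← h1]
      exact pow_orderOf_eq_one g
    · exact h1

end Coding

end Cfsg.Agent.Lib.Helper61
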