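import Mathlib
import Cfsg.Agent.Lib.Helper61.Model168
import Cfsg.Agent.Lib.Helper17.SylowBasic

set_option autoImplicit false

namespace Cfsg.Agent.Lib.Helper61

namespace Coding
variable {G : Type*} [Group G] (C : Coding G)

/-- the subgroup coded by a multiplicatively closed list of codes -/
def sub [Finite G] (L : List ℕ) (hid : idc ∈ L) (hcl : ∀ a ∈ L, ∀ b ∈ L, cmul a b ∈ L) :
    Subgroup G where
  carrier := {x | C.cd x ∈ L}
  one_mem' := by
    show C.cd 1 ∈ L
    rw [C.cd_one]; exact hid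
  mul_mem' := by
    intro a b ha hb
    show C.cd (a * b) ∈ L
    rw [C.cd_mul]; exact hcl _ ha _ hb
  inv_mem' := by
    intro a ha
    have hpos : 0 < orderOf a := orderOf_pos a
    have hinv : a⁻¹ = a ^ (orderOf a - 1) := by
      apply inv_eq_of_mul_eq_one_right
      rw [← pow_succ', Nat.sub_add_cancel hpos, pow_orderOf_eq_one]
    have hpow : ∀ n : ℕ, C.cd (a ^ n) ∈ L := by
      intro n
      induction n with
      | zero => rw [pow_zero, C.cd_one]; exact hid
      | succ n ih => rw [pow_succ, C.cd_mul]; exact hcl _ ih _ ha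
    show C.cd a⁻¹ ∈ L
    rw [hinv]; exact hpow _

theorem mem_sub [Finite G] (L : List ℕ) (hid : idc ∈ L) (hcl : ∀ a ∈ L, ∀ b ∈ L, cmul a b ∈ L)
    (x : G) : x ∈ C.sub L hid hcl ↔ C.cd x ∈ L := Iff.rfl

/-- the cardinality of a subgroup described by codes -/
theorem card_of_codes (H : Subgroup G) (L : List ℕ) (hH : ∀ x, x ∈ H ↔ C.cd x ∈ L) :
    Nat.card H = (codes.filter fun c => L.contains c).length := by
  rw [← C.card_subtype (fun g => g ∈ H) (fun c => L.contains c)]
  intro g
  rw [hH, List.contains_iff_mem]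

/-- twisting a coding by an inner automorphism -/
def conj (g : G) : Coding G where
  cd x := C.cd (g⁻¹ * x * g)
  cd_inj := by
    intro x y h
    have := C.cd_inj h
    have h2 : g * (g⁻¹ * x * g) * g⁻¹ = g * (g⁻¹ * y * g) * g⁻¹ := by rw [this]
    simpa [mul_assoc] using h2
  cd_mem x := C.cd_mem _
  cd_surj c hc := by
    obtain ⟨y, hy⟩ := C.cd_surj c hc
    refine ⟨g * y * g⁻¹, ?_⟩
    show C.cd (g⁻¹ * (g * y * g⁻¹) * g) = c
    rw [← hy]
    congr 1
    group
  cd_mul x y := by
    show C.cd (g⁻¹ * (x * y) * g) = cmul (C.cd (g⁻¹ * x * g)) (C.cd (g⁻¹ * y * g))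
    rw [← C.cd_mul]
    congr 1
    group
  cd_one := by
    show C.cd (g⁻¹ * 1 * g) = idc
    rw [← C.cd_one]
    congr 1
    group

theorem conj_cd (g x : G) : (C.conj g).cd x = C.cd (g⁻¹ * x * g) := rfl

/-- check on codes for membership in the normalizer of the subgroup coded by `L` -/
def _root_.Cfsg.Agent.Lib.Helper61.normChk (L : List ℕ) (c : ℕ) : Bool :=
  (L.all fun t => L.any fun t' => cmul c t == cmul t' c) &&
    (L.all fun t => L.any fun t' => cmul t c == cmul c t')

theorem mem_normalizer_iff (H : Subgroup G) (L : List ℕ) (hH : ∀ x, x ∈ H ↔ C.cd x ∈ L)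
    (hLc : ∀ a ∈ L, a ∈ codes) (x : G) :
    x ∈ Subgroup.normalizer (H : Set G) ↔ normChk L (C.cd x) = true := by
  rw [normChk, Bool.and_eq_true, List.all_eq_true, List.all_eq_true]
  constructor
  · intro hx
    constructor
    · intro t ht
      obtain ⟨y, rfl⟩ := C.cd_surj t (hLc t ht)
      have hy : y ∈ H := (hH y).mpr ht
      have h1 : x * y * x⁻¹ ∈ H := (Subgroup.mem_normalizer_iff.mp hx y).mp hy
      rw [List.any_eq_true]
      refine ⟨C.cd (x * y * x⁻¹), (hH _).mp h1, ?_⟩
      rw [beq_iff_eq, ← C.cd_mul, ← C.cd_mul]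
      congr 1
      group
    · intro t ht
      obtain ⟨y, rfl⟩ := C.cd_surj t (hLc t ht)
      have hy : y ∈ H := (hH y).mpr ht
      have h1 : x⁻¹ * y * x ∈ H := by
        have := (Subgroup.mem_normalizer_iff.mp (inv_mem hx) y).mp hy
        rwa [inv_inv] at this
      rw [List.any_eq_true]
      refine ⟨C.cd (x⁻¹ * y * x), (hH _).mp h1, ?_⟩
      rw [beq_iff_eq, ← C.cd_mul, ← C.cd_mul]
      congr 1
      group
  · rintro ⟨h1, h2⟩
    rw [Subgroup.mem_normalizer_iff]
    intro y
    constructor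
    · intro hy
      have := h1 (C.cd y) ((hH y).mp hy)
      rw [List.any_eq_true] at this
      obtain ⟨t', ht', he⟩ := this
      obtain ⟨z, rfl⟩ := C.cd_surj t' (hLc t' ht')
      rw [beq_iff_eq, ← C.cd_mul, ← C.cd_mul] at he
      have he2 := C.cd_inj he
      have hz : z ∈ H := (hH z).mpr ht'
      have : x * y * x⁻¹ = z := by rw [he2]; group
      rw [this]; exact hz
    · intro hy
      have := h2 (C.cd (x * y * x⁻¹)) ((hH _).mp hy)
      rw [List.any_eq_true] at this
      obtain ⟨t', ht', he⟩ := this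
      obtain ⟨z, rfl⟩ := C.cd_surj t' (hLc t' ht')
      rw [beq_iff_eq, ← C.cd_mul, ← C.cd_mul] at he
      have he2 := C.cd_inj he
      have hz : z ∈ H := (hH z).mpr ht'
      have : y = z := by
        have h3 : x * y * x⁻¹ * x = x * y := by group
        rw [h3] at he2
        exact mul_left_cancel he2
      rw [this]; exact hz

theorem mem_centralizer_iff (z x : G) :
    x ∈ Subgroup.centralizer ({z} : Set G) ↔ cmul (C.cd z) (C.cd x) = cmul (C.cd x) (C.cd z) := by
  rw [Subgroup.mem_centralizer_iff, ← C.cd_mul, ← C.cd_mul]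
  constructor
  · intro h
    rw [h z (Set.mem_singleton z)]
  · intro h y hy
    rw [Set.mem_singleton_iff] at hy
    rw [hy]
    exact C.cd_inj h

/-- a subgroup described by codes is isomorphic to a group with a matching coding -/
theorem nonempty_mulEquiv_of_codes {K : Type*} [Group K] (H : Subgroup G) (L : List ℕ)
    (hH : ∀ x, x ∈ H ↔ C.cd x ∈ L) (hLc : ∀ c ∈ L, c ∈ codes) (kc : K → ℕ)
    (hinj : Function.Injective kc) (hmul : ∀ a b, kc (a * b) = cmul (kc a) (kc b))
    (hmem : ∀ a, kc a ∈ L) (hsurj : ∀ c ∈ L, ∃ a, kc a = c) : Nonempty (H ≃* K) := by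
  have hex : ∀ t : H, ∃ a : K, kc a = C.cd t.1 := fun t => hsurj _ ((hH t.1).mp t.2)
  choose φ hφ using hex
  have hφmul : ∀ t u : H, φ (t * u) = φ t * φ u := by
    intro t u
    apply hinj
    rw [hφ, hmul, hφ, hφ]
    exact C.cd_mul _ _
  refine ⟨MulEquiv.ofBijective (MonoidHom.mk' φ hφmul) ⟨?_, ?_⟩⟩
  · intro t u h
    have h2 : φ t = φ u := h
    apply Subtype.ext
    apply C.cd_inj
    rw [← hφ t, ← hφ u, h2]
  · intro a
    obtain ⟨x, hx⟩ := C.cd_surj (kc a) (hLc _ (hmem a))
    have hxH : x ∈ H := (hH x).mpr (by rw [hx]; exact hmem a)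
    refine ⟨⟨x, hxH⟩, ?_⟩
    apply hinj
    show kc (φ ⟨x, hxH⟩) = kc a
    rw [hφ, hx]

end Coding

/-- the codes of a Sylow 2-subgroup -/
def T0 : List ℕ := [16434824, 1549030, 14432341, 10687775, 2773435, 7401002, 4557812, 9272641]

theorem T0_closed : (T0.all fun a => T0.all fun b => T0.contains (cmul a b)) = true := by
  decide +kernel

theorem T0_sub : (T0.all fun a => codes.contains a) = true := by decide +kernel

theorem T0_count : (codes.filter fun c => T0.contains c).length = 8 := by decide +kernel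

theorem T0_closed' : ∀ a ∈ T0, ∀ b ∈ T0, cmul a b ∈ T0 := by
  intro a ha b hb
  have h := T0_closed
  rw [List.all_eq_true] at h
  have h2 := h a ha
  rw [List.all_eq_true] at h2
  exact List.contains_iff_mem.mp (h2 b hb)

theorem T0_sub' : ∀ a ∈ T0, a ∈ codes := by
  intro a ha
  have h := T0_sub
  rw [List.all_eq_true] at h
  exact List.contains_iff_mem.mp (h a ha)

theorem idc_mem_T0 : idc ∈ T0 := by decide +kernel

/-- every Sylow 2-subgroup of a simple group of order 168 is coded by `T0` in a suitable coding -/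
theorem exists_coding_sylow2 {G : Type*} [Group G] [Finite G] [IsSimpleGroup G]
    (hG : Nat.card G = 168) (T : Sylow 2 G) :
    ∃ C : Coding G, ∀ x, x ∈ (T : Subgroup G) ↔ C.cd x ∈ T0 := by
  have : Fact (Nat.Prime 2) := ⟨Nat.prime_two⟩
  obtain ⟨C0⟩ := exists_coding hG
  set T1 : Subgroup G := C0.sub T0 idc_mem_T0 T0_closed' with hT1
  have hcard : Nat.card T1 = 8 := by
    rw [C0.card_of_codes T1 T0 (fun x => Iff.rfl), T0_count]
  have hpg : IsPGroup 2 T1 := IsPGroup.of_card (n := 3) (by rw [hcard]; norm_num)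
  have hidx : ¬ 2 ∣ T1.index := by
    have := Subgroup.card_mul_index T1
    rw [hcard, hG] at this
    have : T1.index = 21 := by omega
    rw [this]; norm_num
  set S1 : Sylow 2 G := hpg.toSylow hidx with hS1
  obtain ⟨g, hg⟩ := MulAction.exists_smul_eq G S1 T
  refine ⟨C0.conj g, fun x => ?_⟩
  rw [← hg, Cfsg.Agent.Lib.Helper17.mem_smul_sylow_iff, Coding.conj_cd]
  rfl

end Cfsg.Agent.Lib.Helper61
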