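/-
helper61 library: brute-force data for the maximal subgroups of the simple group of order 168.
-/
import Mathlib
import Cfsg.Agent.Lib.Helper61.Sub168
import Cfsg.Agent.Lib.Helper17.SimpleIndex
import Cfsg.Agent.Lib.Helper17.Burnside
import Cfsg.Agent.Lib.Helper17.Misc
import Cfsg.Agent.S1005
import Cfsg.Agent.S1006
import Cfsg.Agent.S1007

set_option autoImplicit false
namespace Cfsg.Agent.Lib.Helper61.Max168

open Cfsg.Agent.Lib.Helper61

/-- the codes of the normalizer of a Sylow 7-subgroup -/
def bcodes : List ℕ := [16434824, 16096528, 15673952, 14899409, 16392537, 15744169, 14969626, 14857122, 16040178, 15240547, 15156267, 16339715, 15536556, 15226484, 14804300, 15835701, 15526021, 15075221, 16135238, 15796942, 15374366]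

/-- the codes of the two subgroups isomorphic to the symmetric group of degree four containing
the element coded by `tauc` -/
def S1 : List ℕ := [414967, 571823, 1139551, 2189803, 2773435, 3175795, 4346846, 4487406, 5288318, 7810817, 8096417, 8309777, 8435189, 8741117, 8942493, 11504724, 12164740, 12527116, 13553218, 14124810, 14522914, 15673952, 16096528, 16434824]
def S2 : List ℕ := [414967, 571823, 1139551, 2324133, 2895165, 3785173, 4390155, 5706211, 5786235, 6805890, 7401002, 8258418, 8518230, 9347534, 9705150, 11157041, 11789505, 12388761, 12934684, 13349700, 14451948, 15673952, 16096528, 16434824]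

def tabS1 : List (ℕ × ℕ) := [(27, 11504724), (30, 3175795), (39, 8942493), (45, 14124810), (54, 8096417), (57, 4487406), (75, 8741117), (78, 7810817), (99, 12527116), (108, 1139551), (114, 2189803), (120, 15673952), (135, 12164740), (141, 5288318), (147, 8435189), (156, 16096528), (177, 14522914), (180, 571823), (198, 2773435), (201, 13553218), (210, 8309777), (216, 414967), (225, 4346846), (228, 16434824)]
def tabS2 : List (ℕ × ℕ) := [(27, 2895165), (30, 11157041), (39, 571823), (45, 15673952), (54, 9347534), (57, 13349700), (75, 6805890), (78, 5706211), (99, 16096528), (108, 414967), (114, 12934684), (120, 9705150), (135, 4390155), (141, 8258418), (147, 12388761), (156, 2324133), (177, 8518230), (180, 14451948), (198, 7401002), (201, 5786235), (210, 3785173), (216, 11789505), (225, 1139551), (228, 16434824)]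

def ks1 (π : Equiv.Perm (Fin 4)) : ℕ := (tabS1.lookup (Cfsg.Agent.S1007.pidx π)).getD 0
def ks2 (π : Equiv.Perm (Fin 4)) : ℕ := (tabS2.lookup (Cfsg.Agent.S1007.pidx π)).getD 0

theorem ks1_mul : ∀ a b : Equiv.Perm (Fin 4), ks1 (a * b) = cmul (ks1 a) (ks1 b) := by
  decide +kernel
theorem ks2_mul : ∀ a b : Equiv.Perm (Fin 4), ks2 (a * b) = cmul (ks2 a) (ks2 b) := by
  decide +kernel
theorem ks1_inj : Function.Injective ks1 := by decide +kernel
theorem ks2_inj : Function.Injective ks2 := by decide +kernel
theorem ks1_mem : ∀ a : Equiv.Perm (Fin 4), ks1 a ∈ S1 := by decide +kernel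
theorem ks2_mem : ∀ a : Equiv.Perm (Fin 4), ks2 a ∈ S2 := by decide +kernel
theorem ks1_surj : ∀ c ∈ S1, ∃ a : Equiv.Perm (Fin 4), ks1 a = c := by decide +kernel
theorem ks2_surj : ∀ c ∈ S2, ∃ a : Equiv.Perm (Fin 4), ks2 a = c := by decide +kernel

/-- closure of a list of codes under multiplication -/
def closedChk (L : List ℕ) : Bool :=
  L.contains idc && (L.all fun a => L.all fun b => L.contains (cmul a b))

theorem closed_of_chk (L : List ℕ) (h : closedChk L = true) :
    idc ∈ L ∧ ∀ a ∈ L, ∀ b ∈ L, cmul a b ∈ L := by
  simp only [closedChk, Bool.and_eq_true, List.all_eq_true, List.contains_iff_mem] at h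
  exact h

theorem bcodes_closed : closedChk bcodes = true := by decide +kernel
theorem S1_closed : closedChk S1 = true := by decide +kernel
theorem S2_closed : closedChk S2 = true := by decide +kernel
theorem N1_closed : closedChk Cfsg.Agent.S1007.N1 = true := by decide +kernel

theorem bcodes_count : (codes.filter fun c => bcodes.contains c).length = 21 := by decide +kernel
theorem S1_count : (codes.filter fun c => S1.contains c).length = 24 := by decide +kernel
theorem S2_count : (codes.filter fun c => S2.contains c).length = 24 := by decide +kernel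
theorem N1_count : (codes.filter fun c => Cfsg.Agent.S1007.N1.contains c).length = 24 := by
  decide +kernel

theorem bcodes_sub : ∀ a ∈ bcodes, a ∈ codes := by decide +kernel
theorem S1_sub : ∀ a ∈ S1, a ∈ codes := by decide +kernel
theorem S2_sub : ∀ a ∈ S2, a ∈ codes := by decide +kernel

theorem T0_sub_N1 : ∀ a ∈ T0, a ∈ Cfsg.Agent.S1007.N1 := by decide +kernel

theorem sigc_mem_b : sigc ∈ bcodes := by decide +kernel
theorem tauc_mem_b : tauc ∈ bcodes := by decide +kernel
theorem bcodes_noncomm : cmul sigc tauc ≠ cmul tauc sigc := by decide +kernel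
theorem sig6_pow : cpow Cfsg.Agent.S1006.sig6c 6 = sigc := by decide +kernel

/-- an element outside the two symmetric groups generates an element of order seven with `tauc` -/
theorem check_F1 : (codes.all fun x => S1.contains x || S2.contains x ||
    (qp 7 x || qp 7 (cmul tauc x) || qp 7 (cmul tauc (cmul tauc x)) ||
      qp 7 (cmul tauc (cmul tauc (cmul x (cmul tauc (cmul x x))))))) = true := by
  decide +kernel

/-- an element outside the normalizer generates elements of order three and of even order with
`sigc` -/
theorem check_F2 : (codes.all fun y => bcodes.contains y ||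
    (((List.range 7).any fun a => qp 3 (cmul (cpow sigc a) y)) &&
      ((List.range 7).any fun a => qp 2 (cmul (cpow sigc a) y) || q4 (cmul (cpow sigc a) y)))) =
    true := by
  decide +kernel

theorem check_nonconjS :
    (codes.all fun c => S1.any fun a => S2.all fun b => cmul c a != cmul b c) = true := by
  decide +kernel

end Cfsg.Agent.Lib.Helper61.Max168
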