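import Mathlib
import Cfsg.Agent.Lib.Helper17.SylowCard
import Cfsg.Agent.Lib.Helper17.CosetAction
import Cfsg.Agent.Lib.Helper17.Misc

set_option autoImplicit false
set_option linter.unusedSectionVars false

namespace Cfsg.Agent.Lib.Helper61.Zas

variable {q : ℕ} [hq : Fact q.Prime]

/-- the affine permutation `a ↦ k a + b` of the projective line, fixing `∞ = none` -/
def aff (k : (ZMod q)ˣ) (b : ZMod q) : Equiv.Perm (Option (ZMod q)) :=
  Equiv.optionCongr ((Units.mulLeft k).trans (Equiv.addRight b))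

@[simp] theorem aff_none (k : (ZMod q)ˣ) (b : ZMod q) : aff k b none = none := rfl

@[simp] theorem aff_some (k : (ZMod q)ˣ) (b a : ZMod q) :
    aff k b (some a) = some ((k : ZMod q) * a + b) := rfl

theorem aff_mul (k k' : (ZMod q)ˣ) (b b' : ZMod q) :
    aff k b * aff k' b' = aff (k * k') ((k : ZMod q) * b' + b) := by
  apply Equiv.ext
  intro x
  cases x with
  | none => simp
  | some a =>
    simp only [Equiv.Perm.mul_apply, aff_some, Units.val_mul]
    congr 1
    ring

theorem aff_one_zero : aff (1 : (ZMod q)ˣ) 0 = 1 := by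
  apply Equiv.ext
  intro x
  cases x with
  | none => simp
  | some a => simp

theorem aff_injective {k k' : (ZMod q)ˣ} {b b' : ZMod q} (h : aff k b = aff k' b') :
    k = k' ∧ b = b' := by
  have h0 := congrArg (fun f : Equiv.Perm (Option (ZMod q)) => f (some 0)) h
  have h1 := congrArg (fun f : Equiv.Perm (Option (ZMod q)) => f (some 1)) h
  simp only [aff_some, mul_zero, zero_add, mul_one, Option.some.injEq] at h0 h1
  refine ⟨?_, h0⟩
  apply Units.ext
  rw [h0] at h1
  exact add_right_cancel h1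

/-- the map `x ↦ -c / x` of the projective line -/
def invFun' (c : (ZMod q)ˣ) : Option (ZMod q) → Option (ZMod q)
  | none => some 0
  | some x => if x = 0 then none else some (-(c : ZMod q) * x⁻¹)

theorem invFun'_involutive (c : (ZMod q)ˣ) : Function.Involutive (invFun' c) := by
  intro x
  cases x with
  | none => simp [invFun']
  | some a =>
    by_cases ha : a = 0
    · simp [invFun', ha]
    · have hc : (c : ZMod q) ≠ 0 := c.ne_zero
      have h2 : -(c : ZMod q) * a⁻¹ ≠ 0 := by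
        simp [ha, hc]
      simp only [invFun', ha, if_false, h2]
      congr 1
      field_simp

/-- the permutation `x ↦ -c / x` -/
def inv' (c : (ZMod q)ˣ) : Equiv.Perm (Option (ZMod q)) :=
  (invFun'_involutive c).toPerm

theorem inv'_apply (c : (ZMod q)ˣ) (x : Option (ZMod q)) : inv' c x = invFun' c x := rfl

theorem inv'_mul_self (c : (ZMod q)ˣ) : inv' c * inv' c = 1 := by
  apply Equiv.ext
  intro x
  simp only [Equiv.Perm.mul_apply, inv'_apply, invFun'_involutive c x, Equiv.Perm.one_apply]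

/-- `inv' c = inv' 1 * aff c⁻¹ 0` -/
theorem inv'_eq (c : (ZMod q)ˣ) : inv' c = inv' 1 * aff c⁻¹ 0 := by
  apply Equiv.ext
  intro x
  cases x with
  | none => rfl
  | some a =>
    have hc : ((c⁻¹ : (ZMod q)ˣ) : ZMod q) ≠ 0 := (c⁻¹).ne_zero
    have hc' : (c : ZMod q) ≠ 0 := c.ne_zero
    rw [Equiv.Perm.mul_apply, aff_some, add_zero, inv'_apply, inv'_apply]
    by_cases ha : a = 0
    · have h0 : ((c⁻¹ : (ZMod q)ˣ) : ZMod q) * a = 0 := by rw [ha, mul_zero]
      rw [invFun', invFun', if_pos ha, if_pos h0]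
    · have h0 : ((c⁻¹ : (ZMod q)ˣ) : ZMod q) * a ≠ 0 := mul_ne_zero hc ha
      rw [invFun', invFun', if_neg ha, if_neg h0]
      congr 1
      rw [Units.val_inv_eq_inv_val, Units.val_one]
      field_simp


section Abstract
variable {G : Type*} [Group G] [Finite G]

/-- data: a Sylow `q`-subgroup `P = ⟨s⟩` of order `q` and a second Sylow `q`-subgroup `Q0`,
in a group with `q + 1` Sylow `q`-subgroups -/
structure BaseQ (G : Type*) [Group G] (q : ℕ) [Fact q.Prime] where
  P : Sylow q G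
  s : G
  hs : orderOf s = q
  hP : (P : Subgroup G) = Subgroup.zpowers s
  Q0 : Sylow q G
  hQ0 : Q0 ≠ P
  hcard : Nat.card (Sylow q G) = q + 1

variable (B : BaseQ G q)

theorem BaseQ.s_mem : B.s ∈ (B.P : Subgroup G) := by
  rw [B.hP]; exact Subgroup.mem_zpowers _

theorem BaseQ.s_pow_smul_P (i : ℕ) : B.s ^ i • B.P = B.P := by
  rw [Sylow.smul_eq_iff_mem_normalizer]
  exact Subgroup.le_normalizer (Subgroup.pow_mem _ B.s_mem i)

theorem BaseQ.dvd_of_smul_eq (Q : Sylow q G) (hQ : Q ≠ B.P) (i : ℕ) (h : B.s ^ i • Q = Q) :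
    q ∣ i := by
  by_contra hdvd
  have hne : B.s ^ i ≠ 1 := by
    intro h1
    apply hdvd
    rw [← B.hs]
    exact orderOf_dvd_of_pow_eq_one h1
  have hmemP : B.s ^ i ∈ (B.P : Subgroup G) := Subgroup.pow_mem _ B.s_mem i
  have hcardP : Nat.card (B.P : Subgroup G) = q := by
    rw [B.hP, Nat.card_zpowers, B.hs]
  have hPz : (B.P : Subgroup G) = Subgroup.zpowers (B.s ^ i) :=
    Cfsg.Agent.Lib.Helper17.eq_zpowers_of_card_prime _ hq.out hcardP hmemP hne
  have hN : B.s ^ i ∈ Subgroup.normalizer ((Q : Subgroup G) : Set G) :=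
    Sylow.smul_eq_iff_mem_normalizer.mp h
  have hpg : IsPGroup q (Subgroup.zpowers (B.s ^ i)) := by
    rw [← hPz]; exact B.P.isPGroup'
  have hmemQ : B.s ^ i ∈ (Q : Subgroup G) :=
    Cfsg.Agent.Lib.Helper17.mem_sylow_of_mem_normalizer Q _ hpg hN
  have hle : (B.P : Subgroup G) ≤ Q := by
    rw [hPz, Subgroup.zpowers_le]; exact hmemQ
  apply hQ
  apply Sylow.ext
  exact B.P.is_maximal' Q.isPGroup' hle

theorem BaseQ.s_pow_q : B.s ^ q = 1 := by
  have := pow_orderOf_eq_one B.s
  rwa [B.hs] at this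

/-- the labelling of the Sylow subgroups other than `P` by the field with `q` elements -/
def BaseQ.lab (a : ZMod q) : Sylow q G := B.s ^ a.val • B.Q0

theorem BaseQ.pow_smul_Q0 (n : ℕ) : B.s ^ n • B.Q0 = B.lab (n : ZMod q) := by
  unfold BaseQ.lab
  rw [ZMod.val_natCast]
  have : B.s ^ (n % q) = B.s ^ n := by
    have h := pow_mod_orderOf B.s n
    rwa [B.hs] at h
  rw [this]

theorem BaseQ.lab_ne_P (a : ZMod q) : B.lab a ≠ B.P := by
  intro h
  apply B.hQ0
  have h2 : B.s ^ a.val • B.Q0 = B.s ^ a.val • B.P := by rw [B.s_pow_smul_P]; exact h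
  exact smul_left_cancel _ h2

theorem BaseQ.lab_injective : Function.Injective B.lab := by
  intro a b h
  unfold BaseQ.lab at h
  have hb : b.val < q := ZMod.val_lt b
  have ha : a.val < q := ZMod.val_lt a
  have h2 : B.s ^ (q - b.val) • (B.s ^ a.val • B.Q0) = B.s ^ (q - b.val) • (B.s ^ b.val • B.Q0) := by
    rw [h]
  rw [smul_smul, smul_smul, ← pow_add, ← pow_add, Nat.sub_add_cancel hb.le, B.s_pow_q,
    one_smul] at h2
  have hd := B.dvd_of_smul_eq B.Q0 B.hQ0 _ h2
  apply ZMod.val_injective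
  obtain ⟨t, ht⟩ := hd
  have hqpos : 0 < q := hq.out.pos
  have ht1 : t = 1 := by
    rcases Nat.lt_or_ge t 1 with h0 | h1
    · have : t = 0 := by omega
      rw [this] at ht
      omega
    · rcases Nat.lt_or_ge 1 t with h2' | h2'
      · have : 2 * q ≤ q * t := by nlinarith
        omega
      · omega
  rw [ht1] at ht
  omega

theorem BaseQ.s_smul_lab (a : ZMod q) : B.s • B.lab a = B.lab (a + 1) := by
  have h1 : B.s • B.lab a = B.s ^ (a.val + 1) • B.Q0 := by
    unfold BaseQ.lab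
    rw [smul_smul, ← pow_succ']
  rw [h1, B.pow_smul_Q0]
  congr 1
  push_cast
  rw [ZMod.natCast_zmod_val]

/-- the labelling of all Sylow subgroups by the projective line -/
def BaseQ.e : Option (ZMod q) → Sylow q G
  | none => B.P
  | some a => B.lab a

theorem BaseQ.e_injective : Function.Injective B.e := by
  intro i j h
  cases i with
  | none =>
    cases j with
    | none => rfl
    | some b => exact absurd h.symm (B.lab_ne_P b)
  | some a =>
    cases j with
    | none => exact absurd h (B.lab_ne_P a)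
    | some b => rw [B.lab_injective h]

theorem BaseQ.e_bijective : Function.Bijective B.e := by
  have : NeZero q := ⟨hq.out.ne_zero⟩
  have : Finite (Sylow q G) := Nat.finite_of_card_ne_zero (by rw [B.hcard]; omega)
  rw [Nat.bijective_iff_injective_and_card]
  refine ⟨B.e_injective, ?_⟩
  rw [B.hcard, Nat.card_eq_fintype_card, Fintype.card_option, ZMod.card]

/-- the labelling as an equivalence -/
noncomputable def BaseQ.E : Option (ZMod q) ≃ Sylow q G := Equiv.ofBijective B.e B.e_bijective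

/-- the permutation representation on the projective line -/
noncomputable def BaseQ.psi : G →* Equiv.Perm (Option (ZMod q)) :=
  (B.E.symm.permCongrHom).toMonoidHom.comp (MulAction.toPermHom G (Sylow q G))

theorem BaseQ.E_psi (g : G) (i : Option (ZMod q)) : B.e (B.psi g i) = g • B.e i := by
  show B.E (B.E.symm (g • B.E i)) = g • B.e i
  rw [Equiv.apply_symm_apply]
  rfl

theorem BaseQ.psi_eq (g : G) (π : Equiv.Perm (Option (ZMod q)))
    (h : ∀ i, g • B.e i = B.e (π i)) : B.psi g = π := by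
  apply Equiv.ext
  intro i
  have := B.E_psi g i
  rw [h i] at this
  exact B.e_injective this

theorem BaseQ.psi_apply_eq_iff (g : G) (i j : Option (ZMod q)) :
    B.psi g i = j ↔ g • B.e i = B.e j := by
  rw [← B.E_psi]
  exact ⟨fun h => by rw [h], fun h => B.e_injective h⟩

theorem BaseQ.psi_s : B.psi B.s = aff 1 1 := by
  apply B.psi_eq
  intro i
  cases i with
  | none =>
    show B.s • B.P = B.P
    simpa using B.s_pow_smul_P 1
  | some a =>
    show B.s • B.lab a = B.e (aff 1 1 (some a))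
    rw [B.s_smul_lab, aff_some, Units.val_one, one_mul]
    rfl

theorem BaseQ.psi_injective [IsSimpleGroup G] : Function.Injective B.psi := by
  rw [← MonoidHom.ker_eq_bot_iff]
  rcases (B.psi.normal_ker).eq_bot_or_eq_top with h | h
  · exact h
  · exfalso
    have : B.s ∈ B.psi.ker := by rw [h]; trivial
    rw [MonoidHom.mem_ker, B.psi_s] at this
    have h0 := congrArg (fun f : Equiv.Perm (Option (ZMod q)) => f (some 0)) this
    simp at h0

theorem BaseQ.exists_pow_conj (x : G) (hx : x • B.P = B.P) :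
    ∃ k : ℕ, k < q ∧ 0 < k ∧ x * B.s * x⁻¹ = B.s ^ k := by
  classical
  have hxN : x ∈ Subgroup.normalizer ((B.P : Subgroup G) : Set G) :=
    Sylow.smul_eq_iff_mem_normalizer.mp hx
  have hmem : x * B.s * x⁻¹ ∈ (B.P : Subgroup G) :=
    (Subgroup.mem_normalizer_iff.mp hxN B.s).mp B.s_mem
  rw [B.hP] at hmem
  have hfin : IsOfFinOrder B.s := by
    rw [← orderOf_pos_iff, B.hs]; exact hq.out.pos
  rw [hfin.mem_zpowers_iff_mem_range_orderOf, B.hs] at hmem
  simp only [Finset.mem_image, Finset.mem_range] at hmem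
  obtain ⟨k, hk, hk'⟩ := hmem
  refine ⟨k, hk, ?_, hk'.symm⟩
  rcases Nat.eq_zero_or_pos k with h0 | h0
  · exfalso
    rw [h0, pow_zero] at hk'
    have : B.s = 1 := by
      have h2 : x * B.s * x⁻¹ = x * 1 * x⁻¹ := by rw [← hk']; group
      have h3 := mul_right_cancel h2
      exact mul_left_cancel h3
    have h7 := B.hs
    rw [this, orderOf_one] at h7
    exact hq.out.one_lt.ne h7
  · exact h0

theorem BaseQ.conj_pow' (x : G) (k : ℕ) (hk : x * B.s * x⁻¹ = B.s ^ k) (n : ℕ) :
    x * B.s ^ n * x⁻¹ = B.s ^ (k * n) := by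
  rw [← conj_pow, hk, ← pow_mul]

theorem BaseQ.conj_pow_pow (x : G) (k : ℕ) (hk : x * B.s * x⁻¹ = B.s ^ k) (n : ℕ) :
    x ^ n * B.s * (x ^ n)⁻¹ = B.s ^ (k ^ n) := by
  induction n with
  | zero => simp
  | succ n ih =>
    have : x ^ (n + 1) * B.s * (x ^ (n + 1))⁻¹ = x * (x ^ n * B.s * (x ^ n)⁻¹) * x⁻¹ := by
      rw [pow_succ']; group
    rw [this, ih, ← conj_pow, hk, ← pow_mul, pow_succ']

theorem BaseQ.cast_pow_eq_one (x : G) (k n : ℕ) (hk : x * B.s * x⁻¹ = B.s ^ k) (hn : x ^ n = 1) :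
    ((k : ZMod q)) ^ n = 1 := by
  have h := B.conj_pow_pow x k hk n
  rw [hn] at h
  simp only [one_mul, inv_one, mul_one] at h
  have h2 : B.s ^ 1 = B.s ^ (k ^ n) := by rw [pow_one]; exact h
  rw [pow_eq_pow_iff_modEq, B.hs] at h2
  have h3 := (ZMod.natCast_eq_natCast_iff _ _ _).mpr h2
  push_cast at h3
  exact h3.symm

/-- the action of an element of the normalizer of `P` is affine -/
theorem BaseQ.psi_of_stab (x : G) (hx : x • B.P = B.P) :
    ∃ (kn : ℕ) (k : (ZMod q)ˣ) (b : ZMod q), (k : ZMod q) = (kn : ZMod q) ∧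
      x * B.s * x⁻¹ = B.s ^ kn ∧ B.psi x = aff k b := by
  obtain ⟨kn, hlt, hpos, hk⟩ := B.exists_pow_conj x hx
  have hk0 : (kn : ZMod q) ≠ 0 := by
    rw [Ne, ZMod.natCast_eq_zero_iff]
    intro hd
    have := Nat.le_of_dvd hpos hd
    omega
  obtain ⟨i, hi⟩ := B.e_bijective.2 (x • B.Q0)
  cases i with
  | none =>
    exfalso
    apply B.hQ0
    have : x • B.Q0 = x • B.P := by rw [hx]; exact hi.symm
    exact smul_left_cancel x this
  | some b =>
    refine ⟨kn, Units.mk0 _ hk0, b, rfl, hk, ?_⟩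
    apply B.psi_eq
    intro i
    cases i with
    | none => exact hx
    | some a =>
      show x • B.lab a = B.lab ((kn : ZMod q) * a + b)
      have hb : x • B.Q0 = B.lab b := hi.symm
      have h1 : x * B.s ^ a.val = B.s ^ (kn * a.val) * x := by
        rw [← B.conj_pow' x kn hk a.val]; group
      have h2 : x • B.lab a = B.s ^ (kn * a.val + b.val) • B.Q0 := by
        unfold BaseQ.lab
        rw [smul_smul, h1, ← smul_smul, hb]
        unfold BaseQ.lab
        rw [smul_smul, ← pow_add]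
      rw [h2, B.pow_smul_Q0]
      congr 1
      push_cast
      rw [ZMod.natCast_zmod_val, ZMod.natCast_zmod_val]

/-- a base together with the order `q * m` of the normalizer of `P` -/
structure FrameQ (G : Type*) [Group G] (q : ℕ) [Fact q.Prime] extends BaseQ G q where
  m : ℕ
  hm : 0 < m
  hN : Nat.card (Subgroup.normalizer ((P : Subgroup G) : Set G)) = q * m

variable (F : FrameQ G q)

/-- the action of an element of the normalizer of `P` is affine with multiplier an `m`-th root of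
unity -/
theorem FrameQ.aff_of_stab (x : G) (hx : x • F.P = F.P) :
    ∃ (k : (ZMod q)ˣ) (b : ZMod q), k ^ F.m = 1 ∧ F.toBaseQ.psi x = aff k b := by
  obtain ⟨kn, k, b, hkk, hk, hpsi⟩ := F.toBaseQ.psi_of_stab x hx
  refine ⟨k, b, ?_, hpsi⟩
  have hxN : x ∈ Subgroup.normalizer ((F.P : Subgroup G) : Set G) :=
    Sylow.smul_eq_iff_mem_normalizer.mp hx
  have hord := Subgroup.orderOf_dvd_natCard _ hxN
  rw [F.hN] at hord
  have hx1 : x ^ (q * F.m) = 1 := orderOf_dvd_iff_pow_eq_one.mp hord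
  have h1 := F.toBaseQ.cast_pow_eq_one x kn (q * F.m) hk hx1
  rw [pow_mul, ZMod.pow_card, ← hkk] at h1
  apply Units.ext
  rw [Units.val_pow_eq_pow_val, Units.val_one]
  exact h1

/-- every affine map with multiplier an `m`-th root of unity comes from the normalizer of `P` -/
theorem FrameQ.exists_of_aff [IsSimpleGroup G] (k : (ZMod q)ˣ) (hk : k ^ F.m = 1) (b : ZMod q) :
    ∃ x : G, x • F.P = F.P ∧ F.toBaseQ.psi x = aff k b := by
  classical
  have : NeZero q := ⟨hq.out.ne_zero⟩
  have hex : ∀ x : Subgroup.normalizer ((F.P : Subgroup G) : Set G),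
      ∃ kb : rootsOfUnity F.m (ZMod q) × ZMod q, F.toBaseQ.psi x.1 = aff kb.1.1 kb.2 := by
    intro x
    obtain ⟨k, b, hk, hpsi⟩ := F.aff_of_stab x.1 (Sylow.smul_eq_iff_mem_normalizer.mpr x.2)
    exact ⟨(⟨k, (mem_rootsOfUnity _ _).mpr hk⟩, b), hpsi⟩
  choose Φ hΦ using hex
  have hinj : Function.Injective Φ := by
    intro x y hxy
    apply Subtype.ext
    apply F.toBaseQ.psi_injective
    rw [hΦ x, hΦ y, hxy]
  have hcard : Nat.card (rootsOfUnity F.m (ZMod q) × ZMod q) ≤
      Nat.card (Subgroup.normalizer ((F.P : Subgroup G) : Set G)) := by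
    rw [Nat.card_prod, F.hN, Nat.card_eq_fintype_card (α := ZMod q), ZMod.card, mul_comm]
    have : NeZero F.m := ⟨F.hm.ne'⟩
    exact Nat.mul_le_mul_left q (card_rootsOfUnity (ZMod q) F.m)
  have hbij := hinj.bijective_of_nat_card_le hcard
  obtain ⟨x, hx⟩ := hbij.2 (⟨k, (mem_rootsOfUnity _ _).mpr hk⟩, b)
  refine ⟨x.1, Sylow.smul_eq_iff_mem_normalizer.mpr x.2, ?_⟩
  rw [hΦ x, hx]

theorem FrameQ.e_zero : F.toBaseQ.e (some 0) = F.Q0 := by
  show F.toBaseQ.lab 0 = F.Q0
  unfold BaseQ.lab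
  rw [ZMod.val_zero, pow_zero, one_smul]

theorem FrameQ.exists_swap : ∃ w : G, w • F.P = F.Q0 ∧ w • F.Q0 = F.P := by
  have hfin : Finite (Sylow q G) := Nat.finite_of_card_ne_zero (by rw [F.hcard]; omega)
  obtain ⟨r, hr⟩ := MulAction.exists_smul_eq G F.P F.Q0
  obtain ⟨i, hi⟩ := F.toBaseQ.e_bijective.2 (r⁻¹ • F.P)
  cases i with
  | none =>
    exfalso
    apply F.hQ0
    have h1 : F.P = r⁻¹ • F.P := hi
    rw [← hr]
    nth_rewrite 1 [h1]
    rw [smul_inv_smul]
  | some a =>
    have hlab : F.toBaseQ.lab a = r⁻¹ • F.P := hi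
    refine ⟨r * F.s ^ a.val, ?_, ?_⟩
    · rw [mul_smul, F.toBaseQ.s_pow_smul_P, hr]
    · rw [mul_smul]
      show r • F.toBaseQ.lab a = F.P
      rw [hlab, smul_inv_smul]

end Abstract

theorem aff_one_pow (j : ℕ) : (aff (1 : (ZMod q)ˣ) 1) ^ j = aff 1 (j : ZMod q) := by
  induction j with
  | zero => rw [pow_zero, Nat.cast_zero, aff_one_zero]
  | succ j ih =>
    rw [pow_succ, ih, aff_mul, one_mul, Units.val_one, one_mul]
    congr 1
    push_cast
    ring

theorem aff_one_mul_neg (b : ZMod q) : aff (1 : (ZMod q)ˣ) b * aff 1 (-b) = 1 := by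
  rw [aff_mul, mul_one, Units.val_one, one_mul, neg_add_cancel, aff_one_zero]

/-- the classification hypothesis: the functional equations force `x ↦ -c/x` -/
def Classif (q : ℕ) [Fact q.Prime] (m : ℕ) (g : (ZMod q)ˣ) : Prop :=
  ∀ π : Equiv.Perm (Option (ZMod q)), π none = some 0 → π (some 0) = none →
    (∃ g' : (ZMod q)ˣ, g' ^ m = 1 ∧ π * aff g 0 = aff g' 0 * π) →
    (∀ x y : ZMod q, x ≠ 0 → π (some x) = some y →
      ∃ (k : (ZMod q)ˣ) (b : ZMod q), k ^ m = 1 ∧ π * aff 1 (-y) * π * aff 1 x * π = aff k b) →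
    ∃ c : (ZMod q)ˣ, c ^ m = 1 ∧ π = inv' c

section Main
variable {G : Type*} [Group G] [Finite G] [IsSimpleGroup G] (F : FrameQ G q)

theorem FrameQ.psi_s_pow (j : ℕ) : F.toBaseQ.psi (F.s ^ j) = aff 1 (j : ZMod q) := by
  rw [map_pow, F.toBaseQ.psi_s, aff_one_pow]

/-- the image of the swapping element satisfies the functional equations -/
theorem FrameQ.exists_inv (g : (ZMod q)ˣ) (hg : g ^ F.m = 1) (hcl : Classif q F.m g) :
    ∃ (w : G) (c : (ZMod q)ˣ), c ^ F.m = 1 ∧ F.toBaseQ.psi w = inv' c := by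
  obtain ⟨w, hwP, hwQ⟩ := F.exists_swap
  have hwP' : w⁻¹ • F.Q0 = F.P := by rw [← hwP, inv_smul_smul]
  have hwQ' : w⁻¹ • F.P = F.Q0 := by rw [← hwQ, inv_smul_smul]
  obtain ⟨π, hπ⟩ : ∃ π, π = F.toBaseQ.psi w := ⟨_, rfl⟩
  have h1 : π none = some 0 := by
    rw [hπ, F.toBaseQ.psi_apply_eq_iff, F.e_zero]
    exact hwP
  have h2 : π (some 0) = none := by
    rw [hπ, F.toBaseQ.psi_apply_eq_iff, F.e_zero]
    exact hwQ
  have fixQ0 : ∀ (x : G) (k : (ZMod q)ˣ) (b : ZMod q), F.toBaseQ.psi x = aff k b →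
      (x • F.Q0 = F.Q0 ↔ b = 0) := by
    intro x k b hx
    rw [← F.e_zero, ← F.toBaseQ.psi_apply_eq_iff, hx, aff_some, mul_zero, zero_add,
      Option.some.injEq]
  refine ⟨w, ?_⟩
  rw [← hπ]
  apply hcl π h1 h2
  · obtain ⟨h, hhP, hh⟩ := F.exists_of_aff g hg 0
    have hhQ : h • F.Q0 = F.Q0 := (fixQ0 h g 0 hh).mpr rfl
    have hxP : (w * h * w⁻¹) • F.P = F.P := by
      rw [mul_smul, mul_smul, hwQ', hhQ, hwQ]
    have hxQ : (w * h * w⁻¹) • F.Q0 = F.Q0 := by
      rw [mul_smul, mul_smul, hwP', hhP, hwP]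
    obtain ⟨g', b', hg'm, hx⟩ := F.aff_of_stab _ hxP
    have hb' : b' = 0 := (fixQ0 _ g' b' hx).mp hxQ
    refine ⟨g', hg'm, ?_⟩
    rw [hπ, ← hh, ← hb', ← hx, ← map_mul, ← map_mul]
    congr 1
    group
  · intro x y hx hy
    have hnP : (w * F.s ^ (-y).val * w * F.s ^ x.val * w) • F.P = F.P := by
      have : F.toBaseQ.psi (w * F.s ^ (-y).val * w * F.s ^ x.val * w) none = none := by
        rw [map_mul, map_mul, map_mul, map_mul, F.psi_s_pow, F.psi_s_pow, ← hπ,
          ZMod.natCast_zmod_val, ZMod.natCast_zmod_val]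
        simp only [Equiv.Perm.mul_apply, h1, aff_some, Units.val_one, one_mul, zero_add, hy,
          add_neg_cancel, h2]
      rw [F.toBaseQ.psi_apply_eq_iff] at this
      exact this
    obtain ⟨k, b, hkm, hn⟩ := F.aff_of_stab _ hnP
    refine ⟨k, b, hkm, ?_⟩
    rw [← hn, map_mul, map_mul, map_mul, map_mul, F.psi_s_pow, F.psi_s_pow, ← hπ,
      ZMod.natCast_zmod_val, ZMod.natCast_zmod_val]

/-- the concrete description of the image of `psi` -/
def imageSet (q : ℕ) [Fact q.Prime] (m : ℕ) : Set (Equiv.Perm (Option (ZMod q))) :=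
  {r | (∃ (k : (ZMod q)ˣ) (b : ZMod q), k ^ m = 1 ∧ r = aff k b) ∨
    ∃ (b' : ZMod q) (k : (ZMod q)ˣ) (b : ZMod q), k ^ m = 1 ∧ r = aff 1 b' * inv' 1 * aff k b}

theorem FrameQ.range_eq (g : (ZMod q)ˣ) (hg : g ^ F.m = 1) (hcl : Classif q F.m g) :
    (F.toBaseQ.psi.range : Set (Equiv.Perm (Option (ZMod q)))) = imageSet q F.m := by
  obtain ⟨w, c, hc, hw⟩ := F.exists_inv g hg hcl
  have hcinv : (c⁻¹) ^ F.m = 1 := by rw [inv_pow, hc, inv_one]
  ext r
  simp only [SetLike.mem_coe, MonoidHom.mem_range, imageSet, Set.mem_ofPred_eq]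
  constructor
  · rintro ⟨x, rfl⟩
    cases hx : F.toBaseQ.psi x none with
    | none =>
      left
      have hxP : x • F.P = F.P := (F.toBaseQ.psi_apply_eq_iff x none none).mp hx
      obtain ⟨k, b, hk, hpsi⟩ := F.aff_of_stab x hxP
      exact ⟨k, b, hk, hpsi⟩
    | some b' =>
      right
      have hyP : (w * F.s ^ (-b').val * x) • F.P = F.P := by
        have : F.toBaseQ.psi (w * F.s ^ (-b').val * x) none = none := by
          rw [map_mul, map_mul, F.psi_s_pow, hw, ZMod.natCast_zmod_val]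
          simp only [Equiv.Perm.mul_apply, hx, aff_some, Units.val_one, one_mul, add_neg_cancel]
          rw [inv'_apply]
          simp [invFun']
        exact (F.toBaseQ.psi_apply_eq_iff _ none none).mp this
      obtain ⟨k, b, hk, hpsi⟩ := F.aff_of_stab _ hyP
      rw [map_mul, map_mul, F.psi_s_pow, hw, ZMod.natCast_zmod_val] at hpsi
      refine ⟨b', c⁻¹ * k, ((c⁻¹ : (ZMod q)ˣ) : ZMod q) * b + 0, ?_, ?_⟩
      · rw [mul_pow, hcinv, hk, one_mul]
      · have h3 : F.toBaseQ.psi x = aff 1 b' * inv' c * aff k b := by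
          rw [← hpsi]
          have e1 : aff 1 b' * inv' c * (inv' c * aff 1 (-b') * F.toBaseQ.psi x) =
              (aff 1 b' * (inv' c * inv' c) * aff 1 (-b')) * F.toBaseQ.psi x := by group
          rw [e1, inv'_mul_self, mul_one, aff_one_mul_neg, one_mul]
        rw [h3, inv'_eq c, mul_assoc, mul_assoc, mul_assoc, aff_mul]
  · rintro (⟨k, b, hk, rfl⟩ | ⟨b', k, b, hk, rfl⟩)
    · obtain ⟨x, -, hx⟩ := F.exists_of_aff k hk b
      exact ⟨x, hx⟩
    · obtain ⟨x1, -, hx1⟩ := F.exists_of_aff 1 (one_pow _) b'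
      obtain ⟨x2, -, hx2⟩ := F.exists_of_aff k hk b
      obtain ⟨x3, -, hx3⟩ := F.exists_of_aff c hc 0
      refine ⟨x1 * (w * x3) * x2, ?_⟩
      rw [map_mul, map_mul, map_mul, hx1, hx2, hx3, hw, inv'_eq c, mul_assoc (inv' 1), aff_mul]
      rw [inv_mul_cancel, mul_zero, zero_add, aff_one_zero, mul_one]

end Main

/-- existence of a frame from the group order and the number of Sylow `q`-subgroups -/
theorem exists_frameQ {G : Type*} [Group G] [Finite G] (m : ℕ) (hm : 0 < m) (hmq : m < q)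
    (hG : Nat.card G = q * m * (q + 1)) (hn : Nat.card (Sylow q G) = q + 1) :
    ∃ F : FrameQ G q, F.m = m := by
  have hfin : Finite (Sylow q G) := Nat.finite_of_card_ne_zero (by rw [hn]; omega)
  obtain ⟨P⟩ := (Sylow.nonempty : Nonempty (Sylow q G))
  have hqm : ¬ q ∣ m * (q + 1) := by
    intro hd
    rcases (Nat.Prime.dvd_mul hq.out).mp hd with h1 | h1
    · have := Nat.le_of_dvd hm h1
      omega
    · have h2 : q ∣ 1 := (Nat.dvd_add_right (dvd_refl q)).mp h1
      have := Nat.le_of_dvd one_pos h2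
      have := hq.out.two_le
      omega
  have hPc : Nat.card (P : Subgroup G) = q := by
    have := Cfsg.Agent.Lib.Helper17.sylow_card_of_card_eq P (k := 1) (m := m * (q + 1))
      (by rw [hG]; ring) hqm
    simpa using this
  obtain ⟨s, hsP, hs1⟩ : ∃ s ∈ (P : Subgroup G), s ≠ 1 := by
    by_contra hcon
    push Not at hcon
    have : (P : Subgroup G) = ⊥ := by
      rw [eq_bot_iff]
      intro x hx
      rw [Subgroup.mem_bot]
      exact hcon x hx
    rw [this, Subgroup.card_bot] at hPc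
    have := hq.out.two_le
    omega
  have hPz := Cfsg.Agent.Lib.Helper17.eq_zpowers_of_card_prime _ hq.out hPc hsP hs1
  have hs : orderOf s = q := by
    rw [← Nat.card_zpowers, ← hPz, hPc]
  obtain ⟨Q0, hQ0⟩ : ∃ Q0 : Sylow q G, Q0 ≠ P := by
    by_contra hcon
    push Not at hcon
    have hsub : Subsingleton (Sylow q G) := ⟨fun a b => by rw [hcon a, hcon b]⟩
    have hle : Nat.card (Sylow q G) ≤ 1 := Finite.card_le_one_iff_subsingleton.mpr hsub
    have := hq.out.two_le
    omega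
  have hN : Nat.card (Subgroup.normalizer ((P : Subgroup G) : Set G)) = q * m := by
    have h1 := Cfsg.Agent.Lib.Helper17.card_sylow_mul_card_normalizer P
    rw [hn, hG] at h1
    have h2 : (q + 1) * Nat.card (Subgroup.normalizer ((P : Subgroup G) : Set G)) =
        (q + 1) * (q * m) := by rw [h1]; ring
    exact Nat.eq_of_mul_eq_mul_left (by omega) h2
  exact ⟨⟨⟨P, s, hs, hPz, Q0, hQ0, hn⟩, m, hm, hN⟩, rfl⟩

/-- two simple groups with frames of the same shape are isomorphic, given the classification -/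
theorem iso_of_frames {G H : Type*} [Group G] [Finite G] [IsSimpleGroup G] [Group H] [Finite H]
    [IsSimpleGroup H] (F : FrameQ G q) (F' : FrameQ H q) (hm : F.m = F'.m) (g : (ZMod q)ˣ)
    (hg : g ^ F.m = 1) (hcl : Classif q F.m g) : Nonempty (G ≃* H) := by
  have h1 := F.range_eq g hg hcl
  have h2 := F'.range_eq g (hm ▸ hg) (hm ▸ hcl)
  rw [← hm, ← h1] at h2
  have hr : F.toBaseQ.psi.range = F'.toBaseQ.psi.range := SetLike.coe_injective h2.symm
  exact ⟨(MonoidHom.ofInjective F.toBaseQ.psi_injective).trans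
    ((MulEquiv.subgroupCongr hr).trans (MonoidHom.ofInjective F'.toBaseQ.psi_injective).symm)⟩

end Cfsg.Agent.Lib.Helper61.Zas
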