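import Mathlib
import Cfsg.Agent.Lib.Helper61.Zas

set_option autoImplicit false
set_option linter.unusedSectionVars false

namespace Cfsg.Agent.Lib.Helper61.Zas

variable {q : ℕ} [hq : Fact q.Prime]

/-- the value forced by a key entry -/
def keyVal (c d g' : ZMod q) (p : ZMod q × ℕ × Bool) : ZMod q :=
  if p.2.2 then g' ^ p.2.1 * d else g' ^ p.2.1 * c

/-- the candidate function on non-zero elements -/
def cand (keys : List (ZMod q × ℕ × Bool)) (c d g' : ZMod q) (a : ZMod q) : ZMod q :=
  match keys.find? (fun p => p.1 == a) with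
  | some p => keyVal c d g' p
  | none => 0

/-- the candidate function on the projective line -/
def candP (keys : List (ZMod q × ℕ × Bool)) (c d g' : ZMod q) :
    Option (ZMod q) → Option (ZMod q)
  | none => some 0
  | some a => if a = 0 then none else some (cand keys c d g' a)

/-- translation of the projective line -/
def tr (z : ZMod q) : Option (ZMod q) → Option (ZMod q)
  | none => none
  | some a => some (a + z)

/-- the composite appearing in the functional equation -/
def FF (keys : List (ZMod q × ℕ × Bool)) (c d g' : ZMod q) (x a : ZMod q) : Option (ZMod q) :=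
  candP keys c d g' (tr (-(cand keys c d g' x))
    (candP keys c d g' (tr x (candP keys c d g' (some a)))))

/-- the functional equation at `x`: the composite is affine with multiplier an `m`-th root of
unity -/
def chk [NeZero q] (keys : List (ZMod q × ℕ × Bool)) (m : ℕ) (c d g' : ZMod q) (x : ZMod q) : Bool :=
  match FF keys c d g' x 0, FF keys c d g' x 1 with
  | some v0, some v1 => decide ((v1 - v0) ^ m = 1) &&
      decide (∀ a : ZMod q, FF keys c d g' x a = some ((v1 - v0) * a + v0))
  | _, _ => false

theorem aff_one_apply (z : ZMod q) (p : Option (ZMod q)) : aff (1 : (ZMod q)ˣ) z p = tr z p := by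
  cases p with
  | none => rfl
  | some a => simp [tr]

/-- the classification from a finite check -/
theorem classif_of_check [NeZero q] (m : ℕ) (g : (ZMod q)ˣ) (n : ZMod q) (keys : List (ZMod q × ℕ × Bool))
    (hkeys : ∀ p ∈ keys, p.1 = (if p.2.2 then n else 1) * (g : ZMod q) ^ p.2.1)
    (hcover : ∀ a : ZMod q, a ≠ 0 → ∃ p ∈ keys, p.1 = a)
    (h2 : (2 : ZMod q) ≠ 0) (hn0 : n ≠ 0)
    (hcheck : ∀ c d g' : ZMod q, c ≠ 0 → d ≠ 0 → g' ^ m = 1 → chk keys m c d g' 1 = true →
      chk keys m c d g' 2 = true → ((-c) ^ m = 1 ∧ ∀ a : ZMod q, a ≠ 0 → cand keys c d g' a = c * a⁻¹)) :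
    Classif q m g := by
  intro π h1 h0 ⟨g', hg'm, hcomm⟩ h3
  -- values at non-zero points
  have hval : ∀ a : ZMod q, a ≠ 0 → ∃ b : ZMod q, b ≠ 0 ∧ π (some a) = some b := by
    intro a ha
    cases hb : π (some a) with
    | none =>
      exfalso
      have : some a = some (0 : ZMod q) := π.injective (by rw [hb, h0])
      exact ha (Option.some.inj this)
    | some b =>
      refine ⟨b, ?_, rfl⟩
      intro hb0
      rw [hb0, ← h1] at hb
      exact absurd (π.injective hb) (by simp)
  obtain ⟨c, hc0, hc⟩ := hval 1 one_ne_zero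
  obtain ⟨d, hd0, hd⟩ := hval n hn0
  -- the multiplicative rule
  have hrule : ∀ (i : ℕ) (a b : ZMod q), π (some a) = some b →
      π (some ((g : ZMod q) ^ i * a)) = some ((g' : ZMod q) ^ i * b) := by
    intro i
    induction i with
    | zero => intro a b hab; simpa using hab
    | succ i ih =>
      intro a b hab
      have h := congrArg (fun f : Equiv.Perm (Option (ZMod q)) => f (some ((g : ZMod q) ^ i * a))) hcomm
      simp only [Equiv.Perm.mul_apply, aff_some, add_zero, ih a b hab] at h
      rw [pow_succ, pow_succ, mul_comm ((g : ZMod q) ^ i) (g : ZMod q), mul_assoc, h]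
      congr 1
      ring
  -- π agrees with the candidate
  have hcand : ∀ a : ZMod q, a ≠ 0 → π (some a) = some (cand keys c d (g' : ZMod q) a) := by
    intro a ha
    obtain ⟨p0, hp0, hp0a⟩ := hcover a ha
    have hsome : (keys.find? (fun p => p.1 == a)).isSome := by
      rw [List.find?_isSome]
      exact ⟨p0, hp0, by simpa using hp0a⟩
    obtain ⟨p, hp⟩ := Option.isSome_iff_exists.mp hsome
    have hpmem : p ∈ keys := List.mem_of_find?_eq_some hp
    have hpa : p.1 = a := by
      have := List.find?_some hp
      simpa using this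
    have hk := hkeys p hpmem
    unfold cand
    rw [hp]
    show π (some a) = some (keyVal c d (g' : ZMod q) p)
    unfold keyVal
    rw [← hpa, hk]
    by_cases hb : p.2.2 = true
    · rw [if_pos hb, if_pos hb, mul_comm n, hrule p.2.1 n d hd]
    · rw [if_neg hb, if_neg hb, mul_comm 1, hrule p.2.1 1 c hc]
  have hπ : ∀ p : Option (ZMod q), π p = candP keys c d (g' : ZMod q) p := by
    intro p
    cases p with
    | none => exact h1
    | some a =>
      by_cases ha : a = 0
      · rw [ha, h0]; simp [candP]
      · rw [hcand a ha]; simp [candP, ha]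
  -- the functional equations
  have hchk : ∀ x : ZMod q, x ≠ 0 → chk keys m c d (g' : ZMod q) x = true := by
    intro x hx
    obtain ⟨k, b, hkm, hkb⟩ := h3 x (cand keys c d (g' : ZMod q) x) hx (hcand x hx)
    have hFF : ∀ a : ZMod q, FF keys c d (g' : ZMod q) x a = some ((k : ZMod q) * a + b) := by
      intro a
      have h := congrArg (fun f : Equiv.Perm (Option (ZMod q)) => f (some a)) hkb
      simp only [Equiv.Perm.mul_apply, aff_some, aff_one_apply, hπ] at h
      exact h
    have e0 := hFF 0
    have e1 := hFF 1
    rw [mul_zero, zero_add] at e0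
    rw [mul_one] at e1
    unfold chk
    rw [e0, e1]
    have hk1 : (k : ZMod q) + b - b = k := by ring
    simp only [hk1, Bool.and_eq_true, decide_eq_true_eq]
    refine ⟨?_, hFF⟩
    rw [← Units.val_pow_eq_pow_val, hkm, Units.val_one]
  have hg'm' : (g' : ZMod q) ^ m = 1 := by
    rw [← Units.val_pow_eq_pow_val, hg'm, Units.val_one]
  obtain ⟨hcm, hform⟩ := hcheck c d (g' : ZMod q) hc0 hd0 hg'm' (hchk 1 one_ne_zero) (hchk 2 h2)
  refine ⟨Units.mk0 (-c) (neg_ne_zero.mpr hc0), ?_, ?_⟩
  · apply Units.ext
    rw [Units.val_pow_eq_pow_val, Units.val_mk0, Units.val_one]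
    exact hcm
  · apply Equiv.ext
    intro p
    rw [hπ, inv'_apply]
    cases p with
    | none => rfl
    | some a =>
      by_cases ha : a = 0
      · simp [candP, invFun', ha]
      · simp only [candP, invFun', ha, if_false, Units.val_mk0, neg_neg]
        rw [hform a ha]

end Cfsg.Agent.Lib.Helper61.Zas
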