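import Mathlib
import Cfsg.Agent.Lib.Helper5.PSL2Small
import Cfsg.Agent.Lib.Helper61.ZasCheck

set_option autoImplicit false
set_option linter.unusedSectionVars false

namespace Cfsg.Agent.Lib.Helper61.Zas

/-- `PSL_2` over a field with `q = 2 m + 1 ≥ 5` elements is simple of order `q m (q + 1)`. -/
theorem psl2_simple_card {F : Type*} [Field F] [Fintype F] (q m : ℕ) (hF : Fintype.card F = q)
    (hqm : q = 2 * m + 1) (hm : 2 ≤ m) :
    IsSimpleGroup (Matrix.ProjectiveSpecialLinearGroup (Fin 2) F) ∧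
      Nat.card (Matrix.ProjectiveSpecialLinearGroup (Fin 2) F) = q * m * (q + 1) := by
  have hsimple : IsSimpleGroup (Matrix.ProjectiveSpecialLinearGroup (Fin 2) F) :=
    Matrix.ProjectiveSpecialLinearGroup.rank_two_simple (by
      rw [Nat.card_eq_fintype_card, hF]; omega)
  have h2 : (2 : F) ≠ 0 := by
    intro h2
    have hq0 : ((q : ℕ) : F) = 0 := by rw [← hF]; exact Nat.cast_card_eq_zero F
    rw [hqm] at hq0
    push_cast at hq0
    rw [h2, zero_mul, zero_add] at hq0
    exact one_ne_zero hq0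
  have hc := Cfsg.Agent.Lib.Helper5.card_center_SL2_of_two_ne_zero h2
  have h := Cfsg.Agent.Lib.Helper5.card_PSL2_mul (F := F)
  rw [hc, hF] at h
  refine ⟨hsimple, ?_⟩
  have h3 : q * (q ^ 2 - 1) = (q * m * (q + 1)) * 2 := by
    have h4 : q ^ 2 - 1 = 2 * (m * (q + 1)) := by
      have : q ^ 2 = 2 * (m * (q + 1)) + 1 := by rw [hqm]; ring
      omega
    rw [h4]; ring
  rw [h3] at h
  exact Nat.eq_of_mul_eq_mul_right (by norm_num) h

variable {q : ℕ} [hq : Fact q.Prime]

/-- the number of Sylow `q`-subgroups of a simple group of order `q m (q + 1)`, from arithmetic -/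
theorem card_sylow_of_arith {K : Type*} [Group K] [Finite K] [IsSimpleGroup K] (m : ℕ)
    (hm : 0 < m) (hmq : m < q) (hK : Nat.card K = q * m * (q + 1))
    (harith : ∀ n : ℕ, n ∣ m * (q + 1) → n % q = 1 → n ≠ 1 → n = q + 1) :
    Nat.card (Sylow q K) = q + 1 := by
  have hqm : ¬ q ∣ m * (q + 1) := by
    intro hd
    rcases (Nat.Prime.dvd_mul hq.out).mp hd with h1 | h1
    · have := Nat.le_of_dvd hm h1
      omega
    · have h2 : q ∣ 1 := (Nat.dvd_add_right (dvd_refl q)).mp h1
      have := Nat.le_of_dvd one_pos h2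
      have := hq.out.two_le
      omega
  have hK' : Nat.card K = q ^ 1 * (m * (q + 1)) := by rw [hK]; ring
  have hdvd := Cfsg.Agent.Lib.Helper17.card_sylow_dvd_of_card_eq (p := q) hK' hqm
  have hmod := card_sylow_modEq_one q K
  have hne := Cfsg.Agent.Lib.Helper17.card_sylow_ne_one_of_simple (p := q) hK' hqm one_pos
    (by
      have := hq.out.two_le
      intro h1
      have : 1 * 3 ≤ m * (q + 1) := Nat.mul_le_mul hm (by omega)
      omega)
  apply harith _ hdvd _ hne
  have h1 : 1 % q = 1 := Nat.mod_eq_of_lt hq.out.one_lt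
  unfold Nat.ModEq at hmod
  rw [hmod, h1]

/-- a simple group of order `q m (q + 1)` with `q = 2 m + 1` is `PSL_2(q)`, given the finite
classification check and the arithmetic of the Sylow count -/
theorem iso_psl2_of_classif {G : Type*} [Group G] [Finite G] [IsSimpleGroup G] (m : ℕ)
    (hqm : q = 2 * m + 1) (hm : 2 ≤ m) (g : (ZMod q)ˣ) (hg : g ^ m = 1) (hcl : Classif q m g)
    (harith : ∀ n : ℕ, n ∣ m * (q + 1) → n % q = 1 → n ≠ 1 → n = q + 1)
    (hG : Nat.card G = q * m * (q + 1)) {F : Type*} [Field F] [Fintype F]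
    (hF : Fintype.card F = q) :
    Nonempty (G ≃* Matrix.ProjectiveSpecialLinearGroup (Fin 2) F) := by
  obtain ⟨hsimple, hcard⟩ := psl2_simple_card q m hF hqm hm
  have hm0 : 0 < m := by omega
  have hmq : m < q := by omega
  have hnG := card_sylow_of_arith m hm0 hmq hG harith
  have hnH := card_sylow_of_arith m hm0 hmq hcard harith
  obtain ⟨F1, hF1⟩ := exists_frameQ m hm0 hmq hG hnG
  obtain ⟨F2, hF2⟩ := exists_frameQ m hm0 hmq hcard hnH
  exact iso_of_frames F1 F2 (by rw [hF1, hF2]) g (by rw [hF1]; exact hg) (by rw [hF1]; exact hcl)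

end Cfsg.Agent.Lib.Helper61.Zas
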