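import Mathlib
import Cfsg.Agent.Lib.Helper61.ZasMain

set_option autoImplicit false

namespace Cfsg.Agent.Lib.Helper61.Zas

theorem fact11 : Fact (Nat.Prime 11) := ⟨by norm_num⟩

attribute [local instance] fact11

/-- the orbit representatives data for `q = 11`: powers of the generator `3` of the squares, and
their multiples by the non-square `2` -/
def keys11 : List (ZMod 11 × ℕ × Bool) :=
  [(1, 0, false), (3, 1, false), (9, 2, false), (5, 3, false), (4, 4, false), (2, 0, true), (6, 1, true), (7, 2, true), (10, 3, true), (8, 4, true)]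

/-- a generator of the squares modulo `11` -/
def g11 : (ZMod 11)ˣ := Units.mk0 3 (by decide)

theorem hkeys11 : ∀ p ∈ keys11, p.1 = (if p.2.2 then (2 : ZMod 11) else 1) *
    ((g11 : (ZMod 11)ˣ) : ZMod 11) ^ p.2.1 := by
  decide +kernel

theorem hcover11 : ∀ a : ZMod 11, a ≠ 0 → ∃ p ∈ keys11, p.1 = a := by
  decide +kernel

set_option maxRecDepth 100000 in
set_option synthInstance.maxSize 1000 in
set_option synthInstance.maxHeartbeats 200000 in
theorem hcheck11 : ∀ c d g' : ZMod 11, c ≠ 0 → d ≠ 0 → g' ^ 5 = 1 →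
    chk keys11 5 c d g' 1 = true → chk keys11 5 c d g' 2 = true →
    ((-c) ^ 5 = 1 ∧ ∀ a : ZMod 11, a ≠ 0 → cand keys11 c d g' a = c * a⁻¹) := by
  decide +kernel

theorem classif11 : Classif 11 5 g11 :=
  classif_of_check 5 g11 2 keys11 hkeys11 hcover11 (by decide) (by decide) hcheck11

theorem g11_pow : g11 ^ 5 = 1 := by
  apply Units.ext
  rw [Units.val_pow_eq_pow_val]
  decide +kernel

theorem harith11 : ∀ n : ℕ, n ∣ 5 * (11 + 1) → n % 11 = 1 → n ≠ 1 → n = 11 + 1 := by
  intro n hd
  have hle : n ≤ 60 := Nat.le_of_dvd (by norm_num) hd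
  have key : ∀ n : ℕ, n ≤ 60 → n ∣ 60 → n % 11 = 1 → n ≠ 1 → n = 12 := by decide +kernel
  exact key n hle hd

/-- a simple group of order `660` is `PSL_2(11)` -/
theorem iso_of_card_660 {G : Type*} [Group G] [Finite G] [IsSimpleGroup G]
    (hG : Nat.card G = 660) {F : Type*} [Field F] [Fintype F] (hF : Fintype.card F = 11) :
    Nonempty (G ≃* Matrix.ProjectiveSpecialLinearGroup (Fin 2) F) :=
  iso_psl2_of_classif 5 (by norm_num) (by norm_num) g11 g11_pow classif11 harith11
    (by rw [hG]) hF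

end Cfsg.Agent.Lib.Helper61.Zas
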