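import Mathlib
import Cfsg.Agent.Lib.Helper61.ZasMain

set_option autoImplicit false

namespace Cfsg.Agent.Lib.Helper61.Zas

theorem fact17 : Fact (Nat.Prime 17) := ⟨by norm_num⟩

attribute [local instance] fact17

/-- the orbit representatives data for `q = 17`: powers of the generator `2` of the squares, and
their multiples by the non-square `3` -/
def keys17 : List (ZMod 17 × ℕ × Bool) :=
  [(1, 0, false), (2, 1, false), (4, 2, false), (8, 3, false), (16, 4, false), (15, 5, false), (13, 6, false), (9, 7, false), (3, 0, true), (6, 1, true), (12, 2, true), (7, 3, true), (14, 4, true), (11, 5, true), (5, 6, true), (10, 7, true)]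

/-- a generator of the squares modulo `17` -/
def g17 : (ZMod 17)ˣ := Units.mk0 2 (by decide)

theorem hkeys17 : ∀ p ∈ keys17, p.1 = (if p.2.2 then (3 : ZMod 17) else 1) *
    ((g17 : (ZMod 17)ˣ) : ZMod 17) ^ p.2.1 := by
  decide +kernel

theorem hcover17 : ∀ a : ZMod 17, a ≠ 0 → ∃ p ∈ keys17, p.1 = a := by
  decide +kernel

set_option maxRecDepth 100000 in
set_option synthInstance.maxSize 1000 in
set_option synthInstance.maxHeartbeats 200000 in
theorem hcheck17 : ∀ c d g' : ZMod 17, c ≠ 0 → d ≠ 0 → g' ^ 8 = 1 →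
    chk keys17 8 c d g' 1 = true → chk keys17 8 c d g' 2 = true →
    ((-c) ^ 8 = 1 ∧ ∀ a : ZMod 17, a ≠ 0 → cand keys17 c d g' a = c * a⁻¹) := by
  decide +kernel

theorem classif17 : Classif 17 8 g17 :=
  classif_of_check 8 g17 3 keys17 hkeys17 hcover17 (by decide) (by decide) hcheck17

theorem g17_pow : g17 ^ 8 = 1 := by
  apply Units.ext
  rw [Units.val_pow_eq_pow_val]
  decide +kernel

theorem harith17 : ∀ n : ℕ, n ∣ 8 * (17 + 1) → n % 17 = 1 → n ≠ 1 → n = 17 + 1 := by
  intro n hd
  have hle : n ≤ 144 := Nat.le_of_dvd (by norm_num) hd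
  have key : ∀ n : ℕ, n ≤ 144 → n ∣ 144 → n % 17 = 1 → n ≠ 1 → n = 18 := by decide +kernel
  exact key n hle hd

/-- a simple group of order `2448` is `PSL_2(17)` -/
theorem iso_of_card_2448 {G : Type*} [Group G] [Finite G] [IsSimpleGroup G]
    (hG : Nat.card G = 2448) {F : Type*} [Field F] [Fintype F] (hF : Fintype.card F = 17) :
    Nonempty (G ≃* Matrix.ProjectiveSpecialLinearGroup (Fin 2) F) :=
  iso_psl2_of_classif 8 (by norm_num) (by norm_num) g17 g17_pow classif17 harith17
    (by rw [hG]) hF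

end Cfsg.Agent.Lib.Helper61.Zas
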