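import Mathlib
import Cfsg.Agent.Lib.Helper61.ZasMain

set_option autoImplicit false

namespace Cfsg.Agent.Lib.Helper61.Zas

theorem fact19 : Fact (Nat.Prime 19) := ⟨by norm_num⟩

attribute [local instance] fact19

/-- the orbit representatives data for `q = 19`: powers of the generator `4` of the squares, and
their multiples by the non-square `2` -/
def keys19 : List (ZMod 19 × ℕ × Bool) :=
  [(1, 0, false), (4, 1, false), (16, 2, false), (7, 3, false), (9, 4, false), (17, 5, false), (11, 6, false), (6, 7, false), (5, 8, false), (2, 0, true), (8, 1, true), (13, 2, true), (14, 3, true), (18, 4, true), (15, 5, true), (3, 6, true), (12, 7, true), (10, 8, true)]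

/-- a generator of the squares modulo `19` -/
def g19 : (ZMod 19)ˣ := Units.mk0 4 (by decide)

theorem hkeys19 : ∀ p ∈ keys19, p.1 = (if p.2.2 then (2 : ZMod 19) else 1) *
    ((g19 : (ZMod 19)ˣ) : ZMod 19) ^ p.2.1 := by
  decide +kernel

theorem hcover19 : ∀ a : ZMod 19, a ≠ 0 → ∃ p ∈ keys19, p.1 = a := by
  decide +kernel

set_option maxRecDepth 100000 in
set_option synthInstance.maxSize 1000 in
set_option synthInstance.maxHeartbeats 200000 in
theorem hcheck19 : ∀ c d g' : ZMod 19, c ≠ 0 → d ≠ 0 → g' ^ 9 = 1 →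
    chk keys19 9 c d g' 1 = true → chk keys19 9 c d g' 2 = true →
    ((-c) ^ 9 = 1 ∧ ∀ a : ZMod 19, a ≠ 0 → cand keys19 c d g' a = c * a⁻¹) := by
  decide +kernel

theorem classif19 : Classif 19 9 g19 :=
  classif_of_check 9 g19 2 keys19 hkeys19 hcover19 (by decide) (by decide) hcheck19

theorem g19_pow : g19 ^ 9 = 1 := by
  apply Units.ext
  rw [Units.val_pow_eq_pow_val]
  decide +kernel

theorem harith19 : ∀ n : ℕ, n ∣ 9 * (19 + 1) → n % 19 = 1 → n ≠ 1 → n = 19 + 1 := by
  intro n hd
  have hle : n ≤ 180 := Nat.le_of_dvd (by norm_num) hd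
  have key : ∀ n : ℕ, n ≤ 180 → n ∣ 180 → n % 19 = 1 → n ≠ 1 → n = 20 := by decide +kernel
  exact key n hle hd

/-- a simple group of order `3420` is `PSL_2(19)` -/
theorem iso_of_card_3420 {G : Type*} [Group G] [Finite G] [IsSimpleGroup G]
    (hG : Nat.card G = 3420) {F : Type*} [Field F] [Fintype F] (hF : Fintype.card F = 19) :
    Nonempty (G ≃* Matrix.ProjectiveSpecialLinearGroup (Fin 2) F) :=
  iso_psl2_of_classif 9 (by norm_num) (by norm_num) g19 g19_pow classif19 harith19
    (by rw [hG]) hF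

end Cfsg.Agent.Lib.Helper61.Zas
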