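import Mathlib
import Cfsg.Agent.Lib.Helper61.ZasMain

set_option autoImplicit false

namespace Cfsg.Agent.Lib.Helper61.Zas

theorem fact23 : Fact (Nat.Prime 23) := ⟨by norm_num⟩

attribute [local instance] fact23

/-- the orbit representatives data for `q = 23`: powers of the generator `2` of the squares, and
their multiples by the non-square `5` -/
def keys23 : List (ZMod 23 × ℕ × Bool) :=
  [(1, 0, false), (2, 1, false), (4, 2, false), (8, 3, false), (16, 4, false), (9, 5, false), (18, 6, false), (13, 7, false), (3, 8, false), (6, 9, false), (12, 10, false), (5, 0, true), (10, 1, true), (20, 2, true), (17, 3, true), (11, 4, true), (22, 5, true), (21, 6, true), (19, 7, true), (15, 8, true), (7, 9, true), (14, 10, true)]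

/-- a generator of the squares modulo `23` -/
def g23 : (ZMod 23)ˣ := Units.mk0 2 (by decide)

theorem hkeys23 : ∀ p ∈ keys23, p.1 = (if p.2.2 then (5 : ZMod 23) else 1) *
    ((g23 : (ZMod 23)ˣ) : ZMod 23) ^ p.2.1 := by
  decide +kernel

theorem hcover23 : ∀ a : ZMod 23, a ≠ 0 → ∃ p ∈ keys23, p.1 = a := by
  decide +kernel

set_option maxRecDepth 100000 in
set_option synthInstance.maxSize 1000 in
set_option synthInstance.maxHeartbeats 200000 in
theorem hcheck23 : ∀ c d g' : ZMod 23, c ≠ 0 → d ≠ 0 → g' ^ 11 = 1 →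
    chk keys23 11 c d g' 1 = true → chk keys23 11 c d g' 2 = true →
    ((-c) ^ 11 = 1 ∧ ∀ a : ZMod 23, a ≠ 0 → cand keys23 c d g' a = c * a⁻¹) := by
  decide +kernel

theorem classif23 : Classif 23 11 g23 :=
  classif_of_check 11 g23 5 keys23 hkeys23 hcover23 (by decide) (by decide) hcheck23

theorem g23_pow : g23 ^ 11 = 1 := by
  apply Units.ext
  rw [Units.val_pow_eq_pow_val]
  decide +kernel

theorem harith23 : ∀ n : ℕ, n ∣ 11 * (23 + 1) → n % 23 = 1 → n ≠ 1 → n = 23 + 1 := by
  intro n hd
  have hle : n ≤ 264 := Nat.le_of_dvd (by norm_num) hd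
  have key : ∀ n : ℕ, n ≤ 264 → n ∣ 264 → n % 23 = 1 → n ≠ 1 → n = 24 := by decide +kernel
  exact key n hle hd

/-- a simple group of order `6072` is `PSL_2(23)` -/
theorem iso_of_card_6072 {G : Type*} [Group G] [Finite G] [IsSimpleGroup G]
    (hG : Nat.card G = 6072) {F : Type*} [Field F] [Fintype F] (hF : Fintype.card F = 23) :
    Nonempty (G ≃* Matrix.ProjectiveSpecialLinearGroup (Fin 2) F) :=
  iso_psl2_of_classif 11 (by norm_num) (by norm_num) g23 g23_pow classif23 harith23
    (by rw [hG]) hF

end Cfsg.Agent.Lib.Helper61.Zas
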